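import Cfsg.Agent.H4.Br1
import Cfsg.Agent.H4.Prin
import Cfsg.Agent.H4.BT
import Cfsg.Agent.H2.Frob

/-! The principal block for an abelian Sylow subgroup with Frobenius inertial action: combinatorics. -/

set_option autoImplicit false
open Cfsg CfsgH4
open CfsgH3 hiding cj cj_cj
open scoped ComplexConjugate

namespace CfsgBf

section Comb
variable {ι : Type*} [Fintype ι] [DecidableEq ι]

/-- A difference of two distinct unit vectors. -/
def Df (u : ι → ℤ) (x y : ι) : Prop := x ≠ y ∧ ∀ i, u i = (if i = x then 1 else 0) - (if i = y then 1 else 0)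

theorem exists_df {u : ι → ℤ} {w : ι → ℕ} (hw : ∀ i, 0 < w i) (h2 : ∑ i, u i ^ 2 = 2) (h0 : ∑ i, u i * w i = 0) :
    ∃ x y, Df u x y := by
  have hpos : ∃ x, 0 < u x := by
    by_contra h
    push Not at h
    have := (Finset.sum_eq_zero_iff_of_nonpos fun i _ =>
      mul_nonpos_of_nonpos_of_nonneg (h i) (Int.natCast_nonneg (w i))).1 h0
    have h3 : ∀ i, u i = 0 := fun i => by
      have h4 := hw i
      rcases mul_eq_zero.1 (this i (Finset.mem_univ i)) with e | e
      · exact e
      · omega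
    simp [h3] at h2
  have hneg : ∃ y, u y < 0 := by
    by_contra h
    push Not at h
    have := (Finset.sum_eq_zero_iff_of_nonneg fun i _ =>
      mul_nonneg (h i) (Int.natCast_nonneg (w i))).1 h0
    have h3 : ∀ i, u i = 0 := fun i => by
      have h4 := hw i
      rcases mul_eq_zero.1 (this i (Finset.mem_univ i)) with e | e
      · exact e
      · omega
    simp [h3] at h2
  obtain ⟨x, hx⟩ := hpos
  obtain ⟨y, hy⟩ := hneg
  have hxy : x ≠ y := by rintro rfl; omega
  have key : ∀ s : Finset ι, ∑ i ∈ s, u i ^ 2 ≤ 2 := fun s =>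
    h2 ▸ Finset.sum_le_sum_of_subset_of_nonneg (Finset.subset_univ s) fun i _ _ => sq_nonneg _
  have k2 := key {x, y}
  rw [Finset.sum_pair hxy] at k2
  have ex : u x = 1 := by nlinarith
  have ey : u y = -1 := by nlinarith
  refine ⟨x, y, hxy, fun i => ?_⟩
  by_cases h1 : i = x
  · subst h1; simp [ex, hxy]
  by_cases h3 : i = y
  · subst h3; simp [ey, h1]
  have k3 := key {i, x, y}
  rw [Finset.sum_insert (by simp [h1, h3]), Finset.sum_pair hxy, ex, ey] at k3
  simp only [h1, h3, if_false]
  nlinarith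

omit [Fintype ι] in
theorem Df.share {u u' u'' : ι → ℤ} {x y x' y' x'' y'' : ι} (h : Df u x y) (h' : Df u' x' y')
    (h'' : Df u'' x'' y'') (e : ∀ i, u'' i = u i - u' i) : (x = x' ∧ y ≠ y') ∨ (y = y' ∧ x ≠ x') := by
  have a1 := h.1
  have a2 := h'.1
  have a3 := h''.1
  have b : ∀ i, ((if i = x'' then 1 else 0) - (if i = y'' then 1 else 0) : ℤ) =
      (if i = x then 1 else 0) - (if i = y then 1 else 0) - ((if i = x' then 1 else 0) - (if i = y' then 1 else 0)) :=
    fun i => by rw [← h.2, ← h'.2, ← h''.2, e]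
  have b1 := b x
  have b2 := b y'
  have b3 := b x''
  by_cases c1 : x = x' <;> by_cases c2 : y = y'
  · subst c1 c2; simp [a3] at b3
  · exact Or.inl ⟨c1, c2⟩
  · exact Or.inr ⟨c2, c1⟩
  · exfalso
    have c3 : x ≠ y' := by
      rintro rfl
      simp only [if_true, a1, c1, if_false] at b1
      split_ifs at b1 <;> omega
    simp only [if_true, a1, c1, c3, if_false] at b1
    simp only [if_true, Ne.symm c3, Ne.symm c2, Ne.symm a2, if_false] at b2
    have d1 : x = x'' := by by_contra d; simp only [d, if_false] at b1; split_ifs at b1 <;> omega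
    have d2 : y' = x'' := by by_contra d; simp only [d, if_false] at b2; split_ifs at b2 <;> omega
    exact c3 (d1.trans d2.symm)

omit [Fintype ι] in
theorem Df.neg {u : ι → ℤ} {x y : ι} (h : Df u x y) : Df (-u) y x :=
  ⟨h.1.symm, fun i => by rw [Pi.neg_apply, h.2]; ring⟩

omit [Fintype ι] in
theorem comb_aux {T : Type*} {R : T → T → Prop} {v : T → ι → ℤ} (h1 : ∀ a b, R a b → v a = v b)
    (h2 : ∀ a b, ¬ R a b → ∃ x y, Df (v a - v b) x y) {b₀ : T} {y : ι}
    (h : ∀ c, ¬ R c b₀ → ∃ z, Df (v c - v b₀) z y) :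
    ∃ ζ : T → ι, ∀ a b i, v a i - v b i = (if i = ζ a then 1 else 0) - (if i = ζ b then 1 else 0) := by
  classical
  have : ∀ c, ∃ z, ∀ i, v c i - v b₀ i = (if i = z then 1 else 0) - (if i = y then 1 else 0) := by
    intro c
    by_cases hc : R c b₀
    · exact ⟨y, fun i => by rw [h1 _ _ hc]; simp⟩
    · obtain ⟨z, hz⟩ := h c hc
      exact ⟨z, hz.2⟩
  choose ζ hζ using this
  exact ⟨ζ, fun a b i => by linear_combination hζ a i - hζ b i⟩

theorem comb {T : Type*} {R : T → T → Prop} (hR : Equivalence R) {v : T → ι → ℤ} {w : ι → ℕ} (hw : ∀ i, 0 < w i)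
    (h1 : ∀ a b, R a b → v a = v b) (h2 : ∀ a b, ¬ R a b → ∑ i, (v a i - v b i) ^ 2 = 2)
    (h3 : ∀ a b, ∑ i, (v a i - v b i) * w i = 0) {a₀ b₀ : T} (h0 : ¬ R a₀ b₀) :
    ∃ (δ : ℤ) (ζ : T → ι), (δ = 1 ∨ δ = -1) ∧ (∀ a b, ζ a = ζ b ↔ R a b) ∧
      ∀ a b i, v a i - v b i = δ * ((if i = ζ a then 1 else 0) - (if i = ζ b then 1 else 0)) := by
  have hd : ∀ a b, ¬ R a b → ∃ x y, Df (v a - v b) x y := fun a b h => exists_df hw (h2 a b h) (h3 a b)
  have key : ∃ (δ : ℤ) (ζ : T → ι), (δ = 1 ∨ δ = -1) ∧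
      ∀ a b i, v a i - v b i = δ * ((if i = ζ a then 1 else 0) - (if i = ζ b then 1 else 0)) := by
    obtain ⟨x, y, hxy⟩ := hd a₀ b₀ h0
    have sh : ∀ a c, ¬ R a c → ∀ {x y x' y'}, Df (v a - v b₀) x y → Df (v c - v b₀) x' y' →
        (x = x' ∧ y ≠ y') ∨ (y = y' ∧ x ≠ x') := by
      intro a c h x y x' y' e1 e2
      obtain ⟨x'', y'', e3⟩ := hd a c h
      exact e1.share e2 e3 fun i => by simp
    by_cases hc : ∀ c, ¬ R c b₀ → ∃ z, Df (v c - v b₀) z y
    · obtain ⟨ζ, hζ⟩ := comb_aux h1 hd hc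
      exact ⟨1, ζ, Or.inl rfl, fun a b i => by rw [hζ, one_mul]⟩
    · push Not at hc
      obtain ⟨c₀, hc₀, hc1⟩ := hc
      obtain ⟨x', y', h'⟩ := hd c₀ b₀ hc₀
      have hy : y ≠ y' := by rintro rfl; exact hc1 x' h'
      have hac : ¬ R a₀ c₀ := fun e => hc1 x (h1 _ _ e ▸ hxy)
      have hx : x = x' := ((sh _ _ hac hxy h').resolve_right fun e => hy e.1).1
      subst hx
      have : ∀ c, ¬ R c b₀ → ∃ z, Df ((-v) c - (-v) b₀) z x := by
        intro c hc
        obtain ⟨z, z', hz⟩ := hd c b₀ hc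
        have e : z = x := by
          by_cases e1 : R a₀ c
          · have := hxy.2 z
            rw [h1 _ _ e1, hz.2] at this
            by_contra e2
            simp only [if_true, hz.1, e2, if_false] at this
            split_ifs at this <;> omega
          by_cases e2 : R c₀ c
          · have := h'.2 z
            rw [h1 _ _ e2, hz.2] at this
            by_contra e3
            simp only [if_true, hz.1, e3, if_false] at this
            split_ifs at this <;> omega
          rcases sh _ _ e1 hxy hz with f | f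
          · exact f.1.symm
          rcases sh _ _ e2 h' hz with f' | f'
          · exact f'.1.symm
          · exact absurd (f.1.trans f'.1.symm) hy
        subst e
        refine ⟨z', ?_⟩
        convert hz.neg using 1
        ext i; simp; ring
      obtain ⟨ζ, hζ⟩ := comb_aux (v := -v) (R := R) (fun a b e => by simp [h1 a b e])
        (fun a b e => by
          obtain ⟨x, y, f⟩ := hd a b e
          refine ⟨y, x, ?_⟩
          convert f.neg using 1
          ext i; simp; ring) this
      refine ⟨-1, ζ, Or.inr rfl, fun a b i => ?_⟩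
      have := hζ a b i
      simp only [Pi.neg_apply] at this
      linear_combination -this
  obtain ⟨δ, ζ, hδ, h⟩ := key
  refine ⟨δ, ζ, hδ, fun a b => ⟨fun e => ?_, fun e => ?_⟩, h⟩
  · by_contra hn
    have := h2 a b hn
    simp [h, e] at this
  · have := h a b (ζ a)
    rw [h1 _ _ e] at this
    by_contra hn
    simp only [if_true, hn, if_false] at this
    omega

end Comb

end CfsgBf
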