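import Cfsg.Agent.H3.Bf1

/-! The principal block for an abelian Sylow subgroup with Frobenius inertial action. -/

set_option autoImplicit false
open Cfsg Subgroup CfsgH2
open CfsgH4 hiding cent_le_norm cent_sup
open CfsgH3 hiding cj cj_cj
open scoped ComplexConjugate

namespace CfsgBf

variable {G : Type*} [Group G] [Finite G] {p : ℕ} [hp : Fact p.Prime] {P : Subgroup G}

/-- Abelian Sylow subgroup on which the normalizer acts as a Frobenius complement. -/
structure AF (p : ℕ) (P : Subgroup G) : Prop where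
  syl : Syl p P ⊤
  ab : IsMulCommutative P
  frob : ∀ y ∈ P, y ≠ 1 → C1[y] ⊓ N[P] ≤ C[P]

/-- Conjugacy of linear characters under the normalizer. -/
def R (ψ ψ' : P →* ℂˣ) : Prop := ∃ n : G, n ∈ N[P] ∧ ∀ w w' : P, (w' : G) = n * w * n⁻¹ → ψ' w' = ψ w

/-- The automizer. -/
abbrev E (P : Subgroup G) : Subgroup (MulAut P) := P.normalizerMonoidHom.range

omit [Finite G] in
theorem E_spec (e : E P) : ∃ n ∈ N[P], ∀ y : P, (e.1 y : G) = n * y * n⁻¹ := by
  obtain ⟨_, ⟨n, rfl⟩⟩ := e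
  exact ⟨n.1, n.2, fun y => rfl⟩

omit [Finite G] in
theorem exists_E {n : G} (hn : n ∈ N[P]) : ∃ e : E P, ∀ y : P, (e.1 y : G) = n * y * n⁻¹ :=
  ⟨⟨_, ⟨n, hn⟩, rfl⟩, fun _ => rfl⟩

omit [Finite G] in
theorem card_E : Nat.card (E P) = C[P].relIndex N[P] := by
  rw [← index_ker, normalizerMonoidHom_ker]; rfl

omit [Finite G] in
theorem R_iff {ψ ψ' : P →* ℂˣ} : R ψ ψ' ↔ ∃ e : E P, ψ'.comp e.1.toMonoidHom = ψ := by
  constructor
  · rintro ⟨n, hn, h⟩
    obtain ⟨e, he⟩ := exists_E hn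
    exact ⟨e, MonoidHom.ext fun y => h y _ (he y)⟩
  · rintro ⟨e, rfl⟩
    obtain ⟨n, hn, he⟩ := E_spec e
    exact ⟨n, hn, fun w w' h => congrArg ψ' (Subtype.ext (h.trans (he w).symm))⟩

omit [Finite G] in
theorem R_equiv : Equivalence (R (P := P)) := by
  refine ⟨fun ψ => R_iff.2 ⟨1, rfl⟩, fun h => ?_, fun h h' => ?_⟩
  · obtain ⟨e, rfl⟩ := R_iff.1 h
    exact R_iff.2 ⟨e⁻¹, by ext; simp⟩
  · obtain ⟨e, rfl⟩ := R_iff.1 h
    obtain ⟨e', rfl⟩ := R_iff.1 h'
    exact R_iff.2 ⟨e' * e, by ext; simp⟩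

omit [Finite G] in
theorem R.ne_one {ψ ψ' : P →* ℂˣ} (h : R ψ ψ') (h1 : ψ ≠ 1) : ψ' ≠ 1 := by
  obtain ⟨e, rfl⟩ := R_iff.1 h
  rintro rfl
  exact h1 (by ext; simp)

namespace AF
variable (h : AF p P)
include h

omit hp [Finite G] in
theorem comm (a b : P) : a * b = b * a := h.ab.1.1 a b

omit hp [Finite G] in
theorem le_cent : P ≤ C[P] := le_cent_of_comm h.ab le_rfl

omit hp [Finite G] in
theorem free (e : E P) {y : P} (hy : y ≠ 1) (he : e.1 y = y) : e = 1 := by
  obtain ⟨n, hn, h1⟩ := E_spec e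
  have h2 : n ∈ C[P] := h.frob y y.2 (by simpa using hy)
    ⟨mem_centralizer_singleton_iff.2 (mul_inv_eq_iff_eq_mul.1 (by rw [← h1, he])), hn⟩
  ext z
  rw [h1, ← mem_cent_iff.1 h2 z z.2]; simp

omit hp in
theorem free_dual (e : E P) {ψ : P →* ℂˣ} (h1 : ψ ≠ 1) (he : ψ.comp e.1.toMonoidHom = ψ) : e = 1 := by
  by_contra hne
  apply h1
  have inj : Function.Injective fun y : P => y⁻¹ * e.1 y := by
    intro a b hab
    by_contra hn
    refine hne (h.free e (y := a * b⁻¹) (fun e => hn (mul_inv_eq_one.1 e)) ?_)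
    have : a⁻¹ * e.1 a = b⁻¹ * e.1 b := hab
    rw [map_mul, map_inv]
    calc e.1 a * (e.1 b)⁻¹ = a * (a⁻¹ * e.1 a) * (e.1 b)⁻¹ := by group
      _ = _ := by rw [this]; group
  ext z
  obtain ⟨y, rfl⟩ := Finite.surjective_of_injective inj z
  have := DFunLike.congr_fun he y
  simp only [MonoidHom.comp_apply, MulEquiv.coe_toMonoidHom] at this
  simp [this]

theorem isConj_iff_E {y y' : P} : IsConj (y : G) y' ↔ ∃ e : E P, e.1 y = y' := by
  constructor
  · intro hc
    obtain ⟨g, hg⟩ := isConj_iff.1 hc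
    obtain ⟨n, hn, e⟩ := h.syl.fusion_cent (mem_top g) (h.le_cent y.2) (hg ▸ h.le_cent y'.2)
    obtain ⟨e', he⟩ := exists_E hn.2
    exact ⟨e', Subtype.ext (by rw [he, e, hg])⟩
  · rintro ⟨e, rfl⟩
    obtain ⟨n, -, h1⟩ := E_spec e
    exact isConj_iff.2 ⟨n, (h1 y).symm⟩

theorem syl_cent {y : G} (hy : y ∈ P) : Syl p P C1[y] := h.syl.mono (h.le_cent.trans (cent_le_cent1 hy)) le_top

theorem npc {y : G} (hy : y ∈ P) (h1 : y ≠ 1) : HasNormalPComplement p C1[y] :=
  npc_iff.2 ((h.syl_cent hy).npc_of_norm_le_cent (h.frob y hy h1))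

omit hp in
open Classical in
theorem card_R {ψ : P →* ℂˣ} (h1 : ψ ≠ 1) : (Finset.univ.filter (R ψ)).card = C[P].relIndex N[P] := by
  haveI := Fintype.ofFinite (E P)
  rw [← card_E, Nat.card_eq_fintype_card, ← Finset.card_univ]
  symm
  refine Finset.card_bij (fun e _ => ψ.comp e.1.toMonoidHom) (fun e _ => ?_) (fun a _ b _ e => ?_) fun b hb => ?_
  · exact Finset.mem_filter.2 ⟨Finset.mem_univ _, R_equiv.symm (R_iff.2 ⟨e, rfl⟩)⟩
  · have := h.free_dual (a * b⁻¹) h1 (by
      ext z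
      have := DFunLike.congr_fun e (b.1⁻¹ z)
      simpa using congrArg Units.val this)
    exact mul_inv_eq_one.1 this
  · obtain ⟨e, he⟩ := R_iff.1 (R_equiv.symm (Finset.mem_filter.1 hb).2)
    exact ⟨e, Finset.mem_univ _, he⟩

omit hp in
open Classical in
theorem sum_E [Fintype (E P)] {a : P →* ℂˣ} (h1 : a ≠ 1) (c : P →* ℂˣ) :
    ∑ e : E P, (if a.comp e.1.toMonoidHom = c then (1 : ℂ) else 0) = if R c a then 1 else 0 := by
  split_ifs with hc
  · obtain ⟨e, rfl⟩ := R_iff.1 hc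
    rw [Finset.sum_eq_single e (fun b _ hb => if_neg fun f => hb ?_) (by simp), if_pos rfl]
    have := h.free_dual (b * e⁻¹) h1 (by
      ext z
      have := DFunLike.congr_fun f (e.1⁻¹ z)
      simpa using congrArg Units.val this)
    exact mul_inv_eq_one.1 this
  · exact Finset.sum_eq_zero fun e _ => if_neg fun f => hc (R_iff.2 ⟨e, f⟩)

variable {M : Ideal AlgInt} [hM : PMod p M]

theorem apply_ppart {χ : IrrCharacter G} (hχ : χ ∈ principalBlock M G) {g : G} {y : P} (hg : ppart p g = y)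
    (h1 : y ≠ 1) : χ.1 g = χ.1 y := by
  rw [← hg]
  exact principal_apply_ppart (hg ▸ h.npc y.2 (by simpa using h1)) hχ

open Classical in
theorem colB_eq [Fintype (E P)] {y y' : P} (h1 : y' ≠ 1) :
    colB (principalBlock M G) y y' = ∑ e : E P, if e.1 y' = y then (Nat.card P : ℂ) else 0 := by
  by_cases hc : IsConj (y' : G) y
  · obtain ⟨e, rfl⟩ := h.isConj_iff_E.1 hc
    rw [Finset.sum_eq_single e (fun b _ hb => if_neg fun f => hb ?_) (by simp), if_pos rfl]
    · rw [← conj_colB, ← isClassFunction_colB _ _ |>.eq_of_isConj hc, conj_colB,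
        colB_principal_pelt (pelt_of_mem h.syl.pg y'.2), colB_principal_of_npc (h.npc y'.2 (by simpa using h1)),
        (h.syl_cent y'.2).card_eq]
    · have := h.free (e⁻¹ * b) h1 (by simp [f])
      exact (inv_mul_eq_one.1 this).symm
  · rw [colB_eq_zero isPBlock_principal.fB_mem (p := p) (by
      rwa [ppart_of_pelt (pelt_of_mem h.syl.pg y'.2), ppart_of_pelt (pelt_of_mem h.syl.pg y.2)])]
    exact (Finset.sum_eq_zero fun e _ => if_neg fun f => hc (h.isConj_iff_E.2 ⟨e, f⟩)).symm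

end AF

variable {M : Ideal AlgInt} [hM : PMod p M]

open Classical in
variable (M) in
/-- Coefficients of the principal block part of an induced function. -/
noncomputable def cf [Fintype P] (f : P → ℂ) (χ : IrrCharacter G) : ℂ :=
  if χ ∈ principalBlock M G then classInner f (fun y : P => χ.1 y) else 0

variable [Fintype P]

omit hp hM in
theorem sum_cf (f : P → ℂ) (g : G) :
    ∑ χ, cf M f χ * χ.1 g = (Nat.card P : ℂ)⁻¹ * ∑ y : P, f y * colB (principalBlock M G) y g := by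
  simp only [colB_apply, Finset.mul_sum]
  rw [Finset.sum_comm]
  refine Finset.sum_congr rfl fun χ _ => ?_
  unfold cf classInner
  split_ifs
  · rw [Finset.mul_sum, Finset.sum_mul]
    exact Finset.sum_congr rfl fun y _ => by ring
  · simp

omit hp hM [Finite G] in
theorem cf_sub (f f' : P → ℂ) (χ : IrrCharacter G) : cf M (f - f') χ = cf M f χ - cf M f' χ := by
  unfold cf classInner
  split_ifs
  · simp only [Pi.sub_apply, sub_mul, Finset.sum_sub_distrib, mul_sub]
  · simp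

omit hp hM in
theorem exists_v : ∃ v : (P →* ℂˣ) → IrrCharacter G → ℤ, ∀ ψ χ, cf M (fun y => (ψ y : ℂ)) χ = v ψ χ := by
  have : ∀ (ψ : P →* ℂˣ) (χ : IrrCharacter G), ∃ n : ℤ, cf M (fun y => (ψ y : ℂ)) χ = n := by
    intro ψ χ
    unfold cf
    split_ifs
    · obtain ⟨n, hn⟩ := (isIrr_of_unitsHom ψ).isCharacter.exists_nat_classInner (χ.2.isCharacter.restrict P)
      exact ⟨n, by rw [hn]; simp⟩
    · exact ⟨0, by simp⟩
  choose v hv using this
  exact ⟨v, hv⟩

namespace AF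
variable (h : AF p P)
include h

theorem sum_cf_reg {f : P → ℂ} (hf : f 1 = 0) {g : G} (hg : ¬ p ∣ orderOf g) : ∑ χ, cf M f χ * χ.1 g = 0 := by
  rw [sum_cf, Finset.sum_eq_zero, mul_zero]
  intro y _
  by_cases hy : y = 1
  · rw [hy, hf, zero_mul]
  · rw [colB_eq_zero isPBlock_principal.fB_mem (p := p), mul_zero]
    rw [ppart_of_reg hg, ppart_of_pelt (pelt_of_mem h.syl.pg y.2), isConj_one_right]
    simpa using hy

theorem sum_cf_P [Fintype (E P)] (f : P → ℂ) {y : P} (hy : y ≠ 1) :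
    ∑ χ, cf M f χ * χ.1 y = ∑ e : E P, f (e.1 y) := by
  classical
  rw [sum_cf]
  simp only [h.colB_eq hy, Finset.mul_sum]
  rw [Finset.sum_comm]
  refine Finset.sum_congr rfl fun e _ => ?_
  have : (Nat.card P : ℂ) ≠ 0 := by exact_mod_cast Nat.card_pos.ne'
  rw [Finset.sum_eq_single (e.1 y) (fun b _ hb => by simp [hb.symm]) (by simp), if_pos rfl]
  field_simp

theorem gram [Fintype (E P)] (f : P → ℂ) {f' : P → ℂ} (hf' : f' 1 = 0) :
    ∑ χ, cf M f χ * conj (cf M f' χ) = ∑ e : E P, classInner (fun y => f (e.1 y)) f' := by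
  have h1 : ∀ χ, cf M f χ * conj (cf M f' χ) =
      (Nat.card P : ℂ)⁻¹ * ∑ y : P, (cf M f χ * χ.1 y) * conj (f' y) := by
    intro χ
    by_cases hχ : χ ∈ principalBlock M G
    · have : cf M f' χ = classInner f' (fun y : P => χ.1 y) := if_pos hχ
      rw [this, classInner, map_mul, map_sum, map_inv₀, map_natCast, Finset.mul_sum, Finset.mul_sum, Finset.mul_sum]
      exact Finset.sum_congr rfl fun y _ => by rw [map_mul, Complex.conj_conj]; ring
    · have : cf M f χ = 0 := if_neg hχ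
      simp [this]
  simp only [h1, classInner]
  rw [← Finset.mul_sum, ← Finset.mul_sum, Finset.sum_comm, Finset.sum_comm (s := Finset.univ (α := E P))]
  congr 1
  refine Finset.sum_congr rfl fun y _ => ?_
  by_cases hy : y = 1
  · simp [hy, hf']
  · rw [← Finset.sum_mul, ← Finset.sum_mul, h.sum_cf_P f hy]

omit hp hM in
theorem fourier {χ : IrrCharacter G} (hχ : χ ∈ principalBlock M G) (y : P) :
    χ.1 y = ∑ ψ : P →* ℂˣ, conj (cf M (fun y => (ψ y : ℂ)) χ) * ψ y := by
  classical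
  have : ∀ ψ : P →* ℂˣ, conj (cf M (fun y => (ψ y : ℂ)) χ) * ψ y =
      (Nat.card P : ℂ)⁻¹ * ∑ z : P, χ.1 z * ψ (z⁻¹ * y) := by
    intro ψ
    have : cf M (fun y => (ψ y : ℂ)) χ = classInner (fun y => (ψ y : ℂ)) (fun y : P => χ.1 y) := if_pos hχ
    rw [this, classInner, map_mul, map_sum, map_inv₀, map_natCast, mul_assoc, Finset.sum_mul]
    congr 1
    exact Finset.sum_congr rfl fun z _ => by rw [map_mul, Complex.conj_conj, conj_lin, map_mul, Units.val_mul]; ring
  simp only [this]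
  rw [← Finset.mul_sum, Finset.sum_comm]
  simp only [← Finset.mul_sum, sum_lin h.comm, inv_mul_eq_one]
  have : (Nat.card P : ℂ) ≠ 0 := by exact_mod_cast Nat.card_pos.ne'
  rw [Finset.sum_eq_single y (fun b _ hb => by simp [hb]) (by simp), if_pos rfl]
  field_simp

open Classical in
theorem gram_v [Fintype (E P)] {v : (P →* ℂˣ) → IrrCharacter G → ℤ}
    (hv : ∀ ψ χ, cf M (fun y => (ψ y : ℂ)) χ = v ψ χ) (a b c d : P →* ℂˣ) :
    ((∑ χ, (v a χ - v b χ) * (v c χ - v d χ) : ℤ) : ℂ) =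
      ∑ e : E P, (if a.comp e.1.toMonoidHom = c then (1 : ℂ) else 0) -
      ∑ e : E P, (if a.comp e.1.toMonoidHom = d then (1 : ℂ) else 0) -
      ∑ e : E P, (if b.comp e.1.toMonoidHom = c then (1 : ℂ) else 0) +
      ∑ e : E P, (if b.comp e.1.toMonoidHom = d then (1 : ℂ) else 0) := by
  have := h.gram (M := M) ((fun y => (a y : ℂ)) - fun y => (b y : ℂ)) (f' := (fun y => (c y : ℂ)) - fun y => (d y : ℂ))
    (by simp)
  simp only [cf_sub, hv, map_sub, map_intCast] at this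
  push_cast
  rw [this, ← Finset.sum_sub_distrib, ← Finset.sum_sub_distrib, ← Finset.sum_add_distrib]
  refine Finset.sum_congr rfl fun e _ => ?_
  have k : ∀ l m : P →* ℂˣ, (Nat.card P : ℂ)⁻¹ * ∑ y, (l (e.1 y) : ℂ) * conj (m y : ℂ) =
      if l.comp e.1.toMonoidHom = m then 1 else 0 := by
    intro l m
    have h0 : (Nat.card P : ℂ) ≠ 0 := by exact_mod_cast Nat.card_pos.ne'
    have := sum_lin_mul_conj (l.comp e.1.toMonoidHom) m
    simp only [MonoidHom.comp_apply, MulEquiv.coe_toMonoidHom] at this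
    rw [this]
    split_ifs
    · field_simp
    · simp
  rw [← k, ← k, ← k, ← k, classInner]
  simp only [Pi.sub_apply, map_sub, sub_mul, mul_sub, Finset.sum_sub_distrib]
  ring

end AF

end CfsgBf
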