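import Cfsg.Agent.H3.Bf2

/-! The shape of the principal block for a Frobenius inertial action. -/

set_option autoImplicit false
open Cfsg Subgroup CfsgH2
open CfsgH4 hiding cent_le_norm cent_sup
open CfsgH3 hiding cj cj_cj
open scoped ComplexConjugate

namespace CfsgBf

variable {G : Type*} [Group G] [Finite G] {p : ℕ} [hp : Fact p.Prime] {P : Subgroup G}

/-- The data describing the principal block. -/
structure BD (M : Ideal AlgInt) (p : ℕ) [Fact p.Prime] (P : Subgroup G) (m : ℕ) (X : Finset (IrrCharacter G))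
    (ζ : (P →* ℂˣ) → IrrCharacter G) (a : IrrCharacter G → ℤ) (d δ : ℤ) : Prop where
  eq : principalBlock M G = ↑X ∪ ↑(exc ζ)
  disj : Disjoint X (exc ζ)
  one : irrOne G ∈ X
  sgn : δ = 1 ∨ δ = -1
  rel : ∀ ψ ψ', ψ ≠ 1 → ψ' ≠ 1 → (ζ ψ = ζ ψ' ↔ R ψ ψ')
  cardF : ∀ x ∈ exc ζ, (fib ζ x).card = m
  cardY : m * (exc ζ).card + 1 = Nat.card P
  two : 2 ≤ (exc ζ).card
  aX : ∀ χ ∈ X, a χ ≠ 0
  valX : ∀ χ ∈ X, ∀ (g : G) (y : P), ppart p g = y → y ≠ 1 → χ.1 g = a χ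
  valY : ∀ x ∈ exc ζ, ∀ (g : G) (y : P), ppart p g = y → y ≠ 1 → x.1 g = d + δ * eta ζ x y
  norm : (d - δ) ^ 2 + ((exc ζ).card - 1) * d ^ 2 + ∑ χ ∈ X, a χ ^ 2 = m + 1
  reg : ∀ x ∈ exc ζ, ∀ x' ∈ exc ζ, ∀ g, ¬ p ∣ orderOf g → x.1 g = x'.1 g
  regX : ∀ x ∈ exc ζ, ∀ g, ¬ p ∣ orderOf g → ((exc ζ).card * d - δ) * x.1 g + ∑ χ ∈ X, a χ * χ.1 g = 0

variable {M : Ideal AlgInt} [hM : PMod p M]

open Classical in
/-- Multiplicity count. -/
noncomputable def Nn (m : ℕ) (a c : P →* ℂˣ) : ℂ := if a = 1 then (if c = 1 then m else 0) else if R c a then 1 else 0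

omit [Finite G] in
theorem Nn_one_one (m : ℕ) : Nn (P := P) m 1 1 = m := by simp [Nn]
omit [Finite G] in
theorem Nn_one (m : ℕ) {c : P →* ℂˣ} (h : c ≠ 1) : Nn m 1 c = 0 := by simp [Nn, h]
omit [Finite G] in
theorem Nn_pos (m : ℕ) {a c : P →* ℂˣ} (h : a ≠ 1) (h' : R c a) : Nn m a c = 1 := by simp [Nn, h, h']
omit [Finite G] in
theorem Nn_neg (m : ℕ) {a c : P →* ℂˣ} (h : a ≠ 1) (h' : ¬ R c a) : Nn m a c = 0 := by simp [Nn, h, h']

theorem AF.gram_w [Fintype P] (h : AF p P) {m : ℕ} (hm : C[P].relIndex N[P] = m)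
    {v : (P →* ℂˣ) → IrrCharacter G → ℤ}
    (hv : ∀ ψ χ, cf M (fun y => (ψ y : ℂ)) χ = v ψ χ) (a b c d : P →* ℂˣ) :
    ((∑ χ, (v a χ - v b χ) * (v c χ - v d χ) : ℤ) : ℂ) = Nn m a c - Nn m a d - Nn m b c + Nn m b d := by
  haveI := Fintype.ofFinite (E P)
  have cE : Fintype.card (E P) = m := by rw [← Nat.card_eq_fintype_card, card_E, hm]
  have key : ∀ a c : P →* ℂˣ, ∑ e : E P, (@ite _ (a.comp e.1.toMonoidHom = c) (Classical.propDecidable _) (1 : ℂ) 0) =
      Nn m a c := by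
    intro a c
    by_cases ha : a = 1
    · subst ha
      by_cases hc : c = 1
      · subst hc
        rw [Nn_one_one]
        simp [MonoidHom.one_comp, cE]
      · rw [Nn_one _ hc]
        exact Finset.sum_eq_zero fun e _ => if_neg fun f => hc (f.symm.trans (MonoidHom.one_comp _))
    · have := h.sum_E ha c
      rw [Nn, if_neg ha]
      convert this
  rw [← key, ← key, ← key, ← key]
  convert h.gram_v hv a b c d

theorem AF.exists_bd (h : AF p P) {m : ℕ} (hm : C[P].relIndex N[P] = m) (hq : m + 1 < Nat.card P) :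
    ∃ X ζ a d δ, BD M p P m X ζ a d δ := by
  classical
  haveI := Fintype.ofFinite P
  obtain ⟨v, hv⟩ := exists_v (M := M) (P := P)
  have hv0 : ∀ ψ χ, χ ∉ principalBlock M G → v ψ χ = 0 := fun ψ χ hχ => by
    have := hv ψ χ
    rw [cf, if_neg hχ] at this
    exact_mod_cast this.symm
  have cL : Fintype.card (P →* ℂˣ) = Nat.card P := by rw [← Nat.card_eq_fintype_card, card_lin h.comm]
  have nR1 : ∀ a : P →* ℂˣ, a ≠ 1 → ¬ R 1 a := fun a ha e => (R_equiv.symm e).ne_one ha rfl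
  have hreg : ∀ (a b : P →* ℂˣ) (g : G), ¬ p ∣ orderOf g → ∑ χ, ((v a χ - v b χ : ℤ) : ℂ) * χ.1 g = 0 := by
    intro a b g hg
    have := h.sum_cf_reg (M := M) (f := (fun y => (a y : ℂ)) - fun y => (b y : ℂ)) (by simp) hg
    simp only [cf_sub, hv] at this
    push_cast
    exact this
  have hex : ∀ a : P →* ℂˣ, a ≠ 1 → ∃ b, b ≠ 1 ∧ ¬ R a b := by
    intro a ha
    by_contra hc
    push Not at hc
    have h1 : Finset.univ.erase 1 ⊆ Finset.univ.filter (R a) := fun b hb =>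
      Finset.mem_filter.2 ⟨Finset.mem_univ _, hc b (Finset.ne_of_mem_erase hb)⟩
    have h2 := Finset.card_le_card h1
    rw [h.card_R ha, hm, Finset.card_erase_of_mem (Finset.mem_univ _), Finset.card_univ, cL] at h2
    omega
  obtain ⟨k, hk⟩ : ∃ k : P →* ℂˣ, k ≠ 1 := by
    haveI : Nontrivial (P →* ℂˣ) := Fintype.one_lt_card_iff_nontrivial.1 (by omega)
    exact exists_ne 1
  obtain ⟨k', hk', hkk⟩ := hex k hk
  obtain ⟨δ, ζ₀, hδ, hζ1, hζ2⟩ := comb (T := {ψ : P →* ℂˣ // ψ ≠ 1}) (R := fun a b => R a.1 b.1)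
    ⟨fun a => R_equiv.refl a.1, fun e => R_equiv.symm e, fun e e' => R_equiv.trans e e'⟩
    (v := fun a => v a.1) (w := fun χ => charDegree χ.1) (fun χ => charDegree_pos χ.2)
    (by
      intro a b hab
      have := h.gram_w hm hv a.1 b.1 a.1 b.1
      rw [Nn_pos _ a.2 (R_equiv.refl _), Nn_pos _ b.2 (R_equiv.refl _), Nn_pos _ b.2 hab,
        Nn_pos _ a.2 (R_equiv.symm hab)] at this
      have h2 : ∑ χ, (v a.1 χ - v b.1 χ) * (v a.1 χ - v b.1 χ) = 0 :=
        Int.cast_injective (α := ℂ) (this.trans (by norm_num))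
      ext χ
      have := (Finset.sum_eq_zero_iff_of_nonneg fun χ _ => mul_self_nonneg _).1 h2 χ (Finset.mem_univ _)
      exact sub_eq_zero.1 (mul_self_eq_zero.1 this))
    (by
      intro a b hab
      have := h.gram_w hm hv a.1 b.1 a.1 b.1
      have hba : ¬ R b.1 a.1 := fun e => hab (R_equiv.symm e)
      rw [Nn_pos _ a.2 (R_equiv.refl _), Nn_pos _ b.2 (R_equiv.refl _), Nn_neg _ b.2 hab,
        Nn_neg _ a.2 hba] at this
      simp only [pow_two]
      exact Int.cast_injective (α := ℂ) (this.trans (by norm_num)))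
    (by
      intro a b
      have := hreg a.1 b.1 1 (by simpa using hp.out.ne_one)
      simp only [irr_one_eq] at this
      exact_mod_cast this)
    (a₀ := ⟨k, hk⟩) (b₀ := ⟨k', hk'⟩) hkk
  set ζ : (P →* ℂˣ) → IrrCharacter G := fun ψ => if e : ψ = 1 then irrOne G else ζ₀ ⟨ψ, e⟩ with hζ
  have z1 : ∀ a b, a ≠ 1 → b ≠ 1 → (ζ a = ζ b ↔ R a b) := fun a b ha hb => by
    simp only [hζ, ha, hb, dif_neg, not_false_eq_true]
    exact hζ1 ⟨a, ha⟩ ⟨b, hb⟩
  have z2 : ∀ a b, a ≠ 1 → b ≠ 1 → ∀ χ, v a χ - v b χ =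
      δ * ((if χ = ζ a then 1 else 0) - (if χ = ζ b then 1 else 0)) := fun a b ha hb χ => by
    simp only [hζ, ha, hb, dif_neg, not_false_eq_true]
    exact hζ2 ⟨a, ha⟩ ⟨b, hb⟩ χ
  clear_value ζ
  have δ0 : δ ≠ 0 := by omega
  have δ2 : δ * δ = 1 := by rcases hδ with rfl | rfl <;> rfl
  have zne : ∀ x ∈ exc ζ, ∃ a b, a ≠ 1 ∧ b ≠ 1 ∧ v a x - v b x = δ := by
    intro x hx
    obtain ⟨a, ha, rfl⟩ := mem_exc.1 hx
    obtain ⟨b, hb, hab⟩ := hex a ha
    refine ⟨a, b, ha, hb, ?_⟩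
    rw [z2 a b ha hb, if_pos rfl, if_neg fun e => hab ((z1 a b ha hb).1 e)]; ring
  have zB : ∀ x ∈ exc ζ, x ∈ principalBlock M G := by
    intro x hx
    obtain ⟨a, b, -, -, e⟩ := zne x hx
    by_contra hc
    rw [hv0 _ _ hc, hv0 _ _ hc] at e
    omega
  set D : IrrCharacter G → ℤ := fun χ => v 1 χ - v k χ + δ * (if χ = ζ k then 1 else 0) with hD
  have val : ∀ χ ∈ principalBlock M G, ∀ y : P, y ≠ 1 → χ.1 y = D χ + δ * eta ζ χ y := by
    intro χ hχ y hy
    have h1 := h.fourier hχ y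
    simp only [hv, map_intCast] at h1
    have h2 : ∑ ψ : P →* ℂˣ, (ψ y : ℂ) = 0 := by rw [sum_lin h.comm, if_neg hy]
    have h3 : ∑ ψ ∈ Finset.univ.erase (1 : P →* ℂˣ), (ψ y : ℂ) = -1 := by
      rw [← Finset.add_sum_erase _ _ (Finset.mem_univ 1)] at h2
      simp only [MonoidHom.one_apply, Units.val_one] at h2
      linear_combination h2
    have h4 : eta ζ χ y = ∑ ψ ∈ Finset.univ.erase (1 : P →* ℂˣ), (if χ = ζ ψ then 1 else 0) * (ψ y : ℂ) := by
      rw [eta]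
      simp only [ite_mul, one_mul, zero_mul]
      rw [← Finset.sum_filter]
      exact Finset.sum_congr (by ext l; simp [mem_fib, eq_comm]) fun _ _ => rfl
    rw [h1, ← Finset.add_sum_erase _ _ (Finset.mem_univ 1), h4]
    have h5 : ∑ ψ ∈ Finset.univ.erase (1 : P →* ℂˣ), (v ψ χ : ℂ) * ψ y =
        ∑ ψ ∈ Finset.univ.erase (1 : P →* ℂˣ), (((v k χ : ℂ) - δ * (if χ = ζ k then 1 else 0)) * ψ y +
          δ * ((if χ = ζ ψ then 1 else 0) * (ψ y : ℂ))) := by
      refine Finset.sum_congr rfl fun ψ hψ => ?_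
      have := congrArg (Int.cast : ℤ → ℂ) (z2 ψ k (Finset.ne_of_mem_erase hψ) hk χ)
      push_cast at this
      linear_combination (ψ y : ℂ) * this
    rw [h5, Finset.sum_add_distrib, ← Finset.mul_sum, ← Finset.mul_sum, h3, hD]
    simp only [MonoidHom.one_apply, Units.val_one]
    push_cast
    ring
  have site : ∀ (f : IrrCharacter G → ℤ) (x : IrrCharacter G), ∑ χ, f χ * (if χ = x then 1 else 0) = f x := by
    intro f x; simp
  have Deq : ∀ x ∈ exc ζ, D x = D (ζ k) := by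
    intro x hx
    obtain ⟨a, ha, rfl⟩ := mem_exc.1 hx
    by_cases hak : R k a
    · rw [(z1 k a hk ha).2 hak]
    have hak' : ζ a ≠ ζ k := fun e => hak ((z1 k a hk ha).1 e.symm)
    have := h.gram_w hm hv 1 k k a
    have hka : ¬ R a k := fun e => hak (R_equiv.symm e)
    rw [Nn_one _ hk, Nn_one _ ha, Nn_pos _ hk (R_equiv.refl _), Nn_neg _ hk hka] at this
    have h2 : ∑ χ, (v 1 χ - v k χ) * (v k χ - v a χ) = -1 :=
      Int.cast_injective (α := ℂ) (this.trans (by norm_num))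
    simp only [z2 k a hk ha, mul_left_comm _ δ, mul_sub, Finset.sum_sub_distrib, ← Finset.mul_sum, site] at h2
    simp only [hD, hak', if_true, if_false]
    linear_combination (-δ) * h2 + (v 1 (ζ k) - v k (ζ k) - v 1 (ζ a) + v k (ζ a)) * δ2
  set X := Finset.univ.filter fun χ => χ ∈ principalBlock M G ∧ χ ∉ exc ζ with hX
  have mX : ∀ χ, χ ∈ X ↔ χ ∈ principalBlock M G ∧ χ ∉ exc ζ := fun χ => by simp [hX]
  have hdisj : Disjoint X (exc ζ) := Finset.disjoint_left.2 fun χ h1 h2 => ((mX χ).1 h1).2 h2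
  have kY : ζ k ∈ exc ζ := mem_exc.2 ⟨k, hk, rfl⟩
  have split : ∀ f : IrrCharacter G → ℂ, ∑ χ, ((v 1 χ - v k χ : ℤ) : ℂ) * f χ =
      ∑ χ ∈ X, D χ * f χ + (D (ζ k) * ∑ x ∈ exc ζ, f x - δ * f (ζ k)) := by
    intro f
    rw [← Finset.sum_subset (Finset.subset_univ (X ∪ exc ζ)), Finset.sum_union hdisj]
    · congr 1
      · refine Finset.sum_congr rfl fun χ hχ => ?_
        have : χ ≠ ζ k := fun e => ((mX χ).1 hχ).2 (e ▸ kY)
        simp [hD, this]
      · have : ∀ x ∈ exc ζ, ((v 1 x - v k x : ℤ) : ℂ) * f x = D (ζ k) * f x - δ * (if x = ζ k then f x else 0) := by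
          intro x hx
          rw [← Deq x hx, hD]
          split_ifs with e
          · simp [e]; ring
          · simp [e]
        rw [Finset.sum_congr rfl this, Finset.sum_sub_distrib, ← Finset.mul_sum, ← Finset.mul_sum,
          Finset.sum_ite_eq', if_pos kY]
    · intro χ _ hχ
      have : χ ∉ principalBlock M G := fun e => hχ (by
        by_cases e' : χ ∈ exc ζ
        · exact Finset.mem_union_right _ e'
        · exact Finset.mem_union_left _ ((mX χ).2 ⟨e, e'⟩))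
      simp [hv0 _ _ this]
  have cF : ∀ x ∈ exc ζ, (fib ζ x).card = m := by
    intro x hx
    obtain ⟨a, ha, rfl⟩ := mem_exc.1 hx
    rw [← hm, ← h.card_R ha]
    congr 1
    ext b
    simp only [mem_fib, Finset.mem_filter, Finset.mem_univ, true_and]
    exact ⟨fun e => (z1 a b ha e.1).1 e.2.symm, fun e => ⟨e.ne_one ha, ((z1 a b ha (e.ne_one ha)).2 e).symm⟩⟩
  have rg : ∀ x ∈ exc ζ, ∀ x' ∈ exc ζ, ∀ g, ¬ p ∣ orderOf g → x.1 g = x'.1 g := by
    intro x hx x' hx' g hg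
    obtain ⟨a, ha, rfl⟩ := mem_exc.1 hx
    obtain ⟨b, hb, rfl⟩ := mem_exc.1 hx'
    have := hreg a b g hg
    simp only [z2 a b ha hb] at this
    push_cast at this
    simp only [mul_assoc, ← Finset.mul_sum, sub_mul, ite_mul, one_mul, zero_mul, Finset.sum_sub_distrib,
      Finset.sum_ite_eq', Finset.mem_univ, if_true] at this
    exact sub_eq_zero.1 ((mul_eq_zero.1 this).resolve_left (by exact_mod_cast δ0))
  have eX : ∀ χ ∈ X, ∀ y : P, eta ζ χ y = 0 := by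
    intro χ hχ y
    rw [eta]
    exact Finset.sum_eq_zero fun l hl => absurd (mem_exc.2 ⟨l, mem_fib.1 hl⟩) ((mX χ).1 hχ).2
  obtain ⟨y₀, hy₀⟩ : ∃ y : P, y ≠ 1 := by
    haveI : Nontrivial P := Finite.one_lt_card_iff_nontrivial.1 (by omega)
    exact exists_ne 1
  refine ⟨X, ζ, D, D (ζ k), δ, ?_, hdisj, ?_, hδ, z1, cF, ?_, ?_, ?_, ?_, ?_, ?_, rg, ?_⟩
  · ext χ
    simp only [Set.mem_union, Finset.mem_coe, mX]
    exact ⟨fun e => by tauto, fun e => e.elim And.left (zB χ)⟩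
  · refine (mX _).2 ⟨irrOne_mem_principal, fun hx => ?_⟩
    obtain ⟨a, b, ha, hb, e⟩ := zne _ hx
    have : ∀ c : P →* ℂˣ, c ≠ 1 → v c (irrOne G) = 0 := by
      intro c hc
      have := hv c (irrOne G)
      rw [cf, if_pos irrOne_mem_principal, classInner] at this
      have h2 := sum_lin_mul_conj c 1
      rw [if_neg hc] at h2
      have h3 : ∑ y : P, (c y : ℂ) * conj ((irrOne G).1 y) = 0 := h2
      rw [h3, mul_zero] at this
      exact_mod_cast this.symm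
    rw [this a ha, this b hb] at e
    omega
  · have := sum_fib ζ (fun _ => 1)
    simp only [Finset.sum_const, nsmul_eq_mul, mul_one] at this
    rw [Finset.sum_congr rfl fun x hx => congrArg Nat.cast (cF x hx), Finset.sum_const, nsmul_eq_mul] at this
    have h3 : (Finset.univ.erase (1 : P →* ℂˣ)).card = Nat.card P - 1 := by
      rw [Finset.card_erase_of_mem (Finset.mem_univ _), Finset.card_univ, cL]
    have h2 : (exc ζ).card * m = Nat.card P - 1 := by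
      rw [← h3]
      rw [← Nat.cast_mul] at this
      rw [Nat.cast_injective this]
      congr 1
      ext; simp
    rw [mul_comm, h2]; omega
  · exact Finset.one_lt_card.2 ⟨_, kY, _, mem_exc.2 ⟨k', hk', rfl⟩, fun e => hkk ((z1 _ _ hk hk').1 e)⟩
  · intro χ hχ e
    have h1 := val χ ((mX χ).1 hχ).1 y₀ hy₀
    rw [eX χ hχ, e] at h1
    refine principal_ne_zero (p := p) ((mX χ).1 hχ).1 (g := y₀) ?_ (by simpa using h1)
    have := h.syl.not_dvd_of_le (h.syl_cent y₀.2).le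
    rwa [relIndex_top_right] at this
  · intro χ hχ g y hg hy
    rw [h.apply_ppart ((mX χ).1 hχ).1 hg hy, val χ ((mX χ).1 hχ).1 y hy, eX χ hχ]; simp
  · intro x hx g y hg hy
    rw [h.apply_ppart (zB x hx) hg hy, val x (zB x hx) y hy, Deq x hx]
  · have h1 := h.gram_w hm hv 1 k 1 k
    rw [Nn_one_one, Nn_one _ hk, Nn_neg _ hk (nR1 k hk), Nn_pos _ hk (R_equiv.refl _)] at h1
    have h2 := split fun χ => ((v 1 χ - v k χ : ℤ) : ℂ)
    have h3 : ∑ χ ∈ X, (D χ : ℂ) * ((v 1 χ - v k χ : ℤ) : ℂ) = ∑ χ ∈ X, (D χ : ℂ) ^ 2 := by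
      refine Finset.sum_congr rfl fun χ hχ => ?_
      have : χ ≠ ζ k := fun e => ((mX χ).1 hχ).2 (e ▸ kY)
      simp [hD, this, pow_two]
    have h4 : ∑ x ∈ exc ζ, ((v 1 x - v k x : ℤ) : ℂ) = (exc ζ).card * D (ζ k) - δ := by
      have : ∀ x ∈ exc ζ, ((v 1 x - v k x : ℤ) : ℂ) = D (ζ k) - δ * (if x = ζ k then 1 else 0) := by
        intro x hx
        rw [← Deq x hx, hD]
        split_ifs with e <;> simp [e]
      rw [Finset.sum_congr rfl this, Finset.sum_sub_distrib, ← Finset.mul_sum, Finset.sum_ite_eq', if_pos kY]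
      simp
    have h5 : ((v 1 (ζ k) - v k (ζ k) : ℤ) : ℂ) = D (ζ k) - δ := by simp [hD]
    rw [h3, h4, h5] at h2
    push_cast at h1 h2
    rw [h1] at h2
    have : (((D (ζ k) - δ) ^ 2 + ((exc ζ).card - 1) * D (ζ k) ^ 2 + ∑ χ ∈ X, D χ ^ 2 : ℤ) : ℂ) = ((m + 1 : ℤ) : ℂ) := by
      push_cast
      linear_combination -h2
    exact_mod_cast this
  · intro x hx g hg
    have h1 := split fun χ => χ.1 g
    rw [hreg 1 k g hg, Finset.sum_congr rfl fun x' hx' => rg x' hx' x hx g hg, rg _ kY x hx g hg,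
      Finset.sum_const, nsmul_eq_mul] at h1
    linear_combination -h1

omit hM in
theorem BD.finsum_eq {m : ℕ} {X : Finset (IrrCharacter G)} {ζ : (P →* ℂˣ) → IrrCharacter G}
    {a : IrrCharacter G → ℤ} {d δ : ℤ} (h : BD M p P m X ζ a d δ) {ψ : P →* ℂˣ} (h1 : ψ ≠ 1) (y : P) :
    ∑ᶠ ψ' ∈ {ψ' : P →* ℂˣ | R ψ ψ'}, ((ψ' y : ℂˣ) : ℂ) = eta ζ (ζ ψ) y := by
  have : {ψ' : P →* ℂˣ | R ψ ψ'} = ↑(fib ζ (ζ ψ)) := by
    ext b
    simp only [Set.mem_setOf_eq, Finset.mem_coe, mem_fib]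
    exact ⟨fun e => ⟨e.ne_one h1, ((h.rel _ _ h1 (e.ne_one h1)).2 e).symm⟩, fun e => (h.rel _ _ h1 e.1).1 e.2.symm⟩
  rw [this, finsum_mem_coe_finset, eta]

omit hM in
theorem BD.cardY' {m : ℕ} {X : Finset (IrrCharacter G)} {ζ : (P →* ℂˣ) → IrrCharacter G}
    {a : IrrCharacter G → ℤ} {d δ : ℤ} (h : BD M p P m X ζ a d δ) (hm : 0 < m) :
    (exc ζ).card = (Nat.card P - 1) / m := by
  rw [← h.cardY, Nat.add_sub_cancel, Nat.mul_div_cancel_left _ hm]

end CfsgBf
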