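import Cfsg.Agent.H3.Bf3
import Cfsg.Agent.H4.K4

/-! The principal block for an inertial action of order three. -/

set_option autoImplicit false
open Cfsg Subgroup CfsgH2
open CfsgH4 hiding cent_le_norm cent_sup
open CfsgH3 hiding cj cj_cj
open scoped ComplexConjugate

namespace CfsgBf

theorem three_elts {A : Type*} [Group A] [Fintype A] (h : Nat.card A = 3) :
    ∃ e : A, e ≠ 1 ∧ e * e * e = 1 ∧ (∀ x, x = 1 ∨ x = e ∨ x = e * e) ∧
      ∀ f : A → ℂ, ∑ x, f x = f 1 + f e + f (e * e) := by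
  classical
  haveI : Nontrivial A := Finite.one_lt_card_iff_nontrivial.1 (by omega)
  obtain ⟨e, he⟩ := exists_ne (1 : A)
  have h3 : e * e * e = 1 := by rw [← pow_card_eq_one' (x := e), h, pow_succ, pow_two]
  have h1 : e * e ≠ 1 := fun f => he (by rwa [f, one_mul] at h3)
  have h2 : e ≠ e * e := fun f => he (by simpa using f)
  have hu : ({1, e, e * e} : Finset A) = Finset.univ := by
    apply Finset.eq_univ_of_card
    rw [Finset.card_insert_of_notMem (by simp [he.symm, h1.symm]), Finset.card_pair h2, ← Nat.card_eq_fintype_card, h]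
  refine ⟨e, he, h3, fun x => by simpa [← hu] using Finset.mem_univ x, fun f => ?_⟩
  rw [← hu, Finset.sum_insert (by simp [he.symm, h1.symm]), Finset.sum_pair h2, add_assoc]

theorem descent (n : ℕ) : ∀ a b c : ℤ, a.natAbs + b.natAbs = n → a ^ 2 - a * b + b ^ 2 = c * (a * b * (a + b)) →
    a = 0 ∧ b = 0 := by
  induction n using Nat.strong_induction_on with
  | _ n ih =>
  intro a b c hn h
  by_cases h0 : n = 0
  · omega
  have ev : Even a ∧ Even b := by
    have h1 : Even (a ^ 2 - a * b + b ^ 2) := by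
      rw [h]
      refine Even.mul_left ?_ _
      rcases Int.even_or_odd a with ha | ha
      · exact (ha.mul_right _).mul_right _
      rcases Int.even_or_odd b with hb | hb
      · exact (hb.mul_left _).mul_right _
      · exact (ha.add_odd hb).mul_left _
    clear h
    rw [Int.even_add, Int.even_sub, Int.even_mul, Int.even_pow, Int.even_pow] at h1
    tauto
  obtain ⟨⟨a', rfl⟩, ⟨b', rfl⟩⟩ := ev
  have := ih (a'.natAbs + b'.natAbs) (by omega) a' b' (2 * c) rfl (by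
    apply mul_left_cancel₀ (show (4 : ℤ) ≠ 0 by norm_num)
    linear_combination h)
  omega

variable {G : Type*} [Group G] [Finite G] {p : ℕ} [hp : Fact p.Prime] {P : Subgroup G}
  {M : Ideal AlgInt} {m : ℕ} {X : Finset (IrrCharacter G)} {ζ : (P →* ℂˣ) → IrrCharacter G}
  {a : IrrCharacter G → ℤ} {d δ : ℤ}

theorem AF.inv_conj (h : AF p P) (h3 : C[P].relIndex N[P] = 3) {y : G} (hy : y ∈ P) (hc : IsConj y y⁻¹) :
    y * y = 1 := by
  by_cases h1 : y = 1
  · simp [h1]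
  obtain ⟨e, he⟩ := (h.isConj_iff_E (y := ⟨y, hy⟩) (y' := ⟨y, hy⟩⁻¹)).1 hc
  have h2 : e * e = 1 := h.free _ (y := ⟨y, hy⟩) (by simpa using h1) (by simp [he])
  have h4 : e ^ 3 = 1 := by rw [← h3, ← card_E, pow_card_eq_one']
  rw [pow_succ, pow_two, h2, one_mul] at h4
  subst h4
  exact mul_eq_one_iff_eq_inv.2 (congrArg Subtype.val he)

namespace BD
variable (h : BD M p P m X ζ a d δ)
include h

theorem a_one (hA : AF p P) : a (irrOne G) = 1 := by
  have h1 := h.cardY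
  have h2 := h.two
  obtain ⟨x, hx⟩ := Finset.card_pos.1 (by omega : 0 < (exc ζ).card)
  obtain ⟨l, hl, -⟩ := mem_exc.1 hx
  obtain ⟨y, hy⟩ : ∃ y, l y ≠ 1 := by
    by_contra hc
    push Not at hc
    exact hl (MonoidHom.ext hc)
  have := h.valX _ h.one y y (ppart_of_pelt (pelt_of_mem hA.syl.pg y.2)) (fun e => hy (by simp [e]))
  have e : (irrOne G).1 y = 1 := rfl
  rw [e] at this
  exact_mod_cast this.symm

theorem eta_eq [Fintype (E P)] (hA : AF p P) {ψ : P →* ℂˣ} (h1 : ψ ≠ 1) (y : P) :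
    eta ζ (ζ ψ) y = ∑ e : E P, (ψ (e.1 y) : ℂ) := by
  rw [eta]
  symm
  refine Finset.sum_bij (fun e _ => ψ.comp e.1.toMonoidHom) (fun e _ => ?_) (fun a _ b _ e => ?_) (fun b hb => ?_)
    fun e _ => rfl
  · have : R ψ (ψ.comp e.1.toMonoidHom) := R_equiv.symm (R_iff.2 ⟨e, rfl⟩)
    exact mem_fib.2 ⟨this.ne_one h1, ((h.rel _ _ h1 (this.ne_one h1)).2 this).symm⟩
  · have := hA.free_dual (a * b⁻¹) h1 (by
      ext z
      have := DFunLike.congr_fun e (b.1⁻¹ z)
      simpa using congrArg Units.val this)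
    exact mul_inv_eq_one.1 this
  · obtain ⟨e, he⟩ := R_iff.1 ((h.rel _ _ (mem_fib.1 hb).1 h1).1 (mem_fib.1 hb).2)
    exact ⟨e, Finset.mem_univ _, he⟩

open Classical in
theorem sum_block (f : IrrCharacter G → ℂ) :
    ∑ χ, (if χ ∈ principalBlock M G then f χ else 0) = ∑ χ ∈ X, f χ + ∑ x ∈ exc ζ, f x := by
  rw [← Finset.sum_filter, ← Finset.sum_union h.disj]
  exact Finset.sum_congr (by ext χ; simp [h.eq]) fun _ _ => rfl

theorem swap (hA : AF p P) (h2 : (exc ζ).card = 2) : ∃ ζ', BD M p P m X ζ' a (d - δ) (-δ) := by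
  classical
  obtain ⟨x₁, x₂, hne, hx⟩ := Finset.card_eq_two.1 h2
  have hex : exc (fun ψ => Equiv.swap x₁ x₂ (ζ ψ)) = exc ζ := by
    ext x
    have : x ∈ exc (fun ψ => Equiv.swap x₁ x₂ (ζ ψ)) ↔ Equiv.swap x₁ x₂ x ∈ exc ζ := by
      simp only [mem_exc, Equiv.swap_apply_eq_iff]
    rw [this, hx]
    simp only [Finset.mem_insert, Finset.mem_singleton, Equiv.swap_apply_eq_iff, Equiv.swap_apply_left,
      Equiv.swap_apply_right, or_comm]
  have hf : ∀ x, fib (fun ψ => Equiv.swap x₁ x₂ (ζ ψ)) x = fib ζ (Equiv.swap x₁ x₂ x) := by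
    intro x; ext l; simp only [mem_fib, Equiv.swap_apply_eq_iff]
  have hs : ∀ x ∈ exc ζ, Equiv.swap x₁ x₂ x ∈ exc ζ := by
    intro x; simp only [hx, Finset.mem_insert, Finset.mem_singleton]
    rintro (rfl | rfl) <;> simp
  refine ⟨fun ψ => Equiv.swap x₁ x₂ (ζ ψ), by rw [hex]; exact h.eq, by rw [hex]; exact h.disj, h.one,
    by rcases h.sgn with e | e <;> simp [e], fun a b ha hb => by rw [← h.rel a b ha hb, Equiv.apply_eq_iff_eq],
    fun x hx => by rw [hf]; exact h.cardF _ (hs x (hex ▸ hx)), by rw [hex]; exact h.cardY, by rw [hex]; exact h.two,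
    h.aX, h.valX, fun x hx' g y hg hy => ?_, ?_, by rw [hex]; exact h.reg, fun x hx' g hg => ?_⟩
  · rw [hex] at hx'
    have h3 := sum_eta hA.comm ζ hy
    rw [hx, Finset.sum_pair hne] at h3
    rw [h.valY x hx' g y hg hy, eta, eta, hf]
    rw [hx] at hx'
    simp only [eta] at h3
    push_cast
    rcases Finset.mem_insert.1 hx' with rfl | e
    · rw [Equiv.swap_apply_left]; linear_combination δ * h3
    · rw [Finset.mem_singleton.1 e, Equiv.swap_apply_right]; linear_combination δ * h3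
  · have := h.norm
    rw [hex, ← this, h2]; push_cast; ring
  · rw [hex] at hx' ⊢
    have := h.regX x hx' g hg
    rw [← this, h2]; push_cast; ring

end BD

theorem AF.exists_b3 [PMod p M] (hA : AF p P) (h3 : C[P].relIndex N[P] = 3) (h4 : 4 < Nat.card P) :
    ∃ X ζ a δ, BD M p P 3 X ζ a 0 δ ∧ X.card = 3 ∧ ∀ χ ∈ X, a χ = 1 ∨ a χ = -1 := by
  have key : ∀ X ζ a δ, BD M p P 3 X ζ a 0 δ → X.card = 3 ∧ ∀ χ ∈ X, a χ = 1 ∨ a χ = -1 := by
    intro X ζ a δ h
    have h1 : ∑ χ ∈ X, a χ ^ 2 = 3 := by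
      have := h.norm
      rcases h.sgn with e | e <;> rw [e] at this <;> push_cast at this <;> linarith
    have h2 : ∀ χ ∈ X, a χ = 1 ∨ a χ = -1 := by
      intro χ hχ
      have h5 : a χ ^ 2 ≤ 3 := h1 ▸ Finset.single_le_sum (f := fun χ => a χ ^ 2) (fun _ _ => sq_nonneg _) hχ
      have h6 := h.aX χ hχ
      have : a χ ≤ 1 := by nlinarith
      have : -1 ≤ a χ := by nlinarith
      omega
    refine ⟨?_, h2⟩
    rw [Finset.sum_congr rfl (g := fun _ => 1) fun χ hχ => by rcases h2 χ hχ with e | e <;> simp [e]] at h1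
    simp only [Finset.sum_const, nsmul_eq_mul, mul_one] at h1
    exact_mod_cast h1
  obtain ⟨X, ζ, a, d, δ, h⟩ := hA.exists_bd (M := M) h3 h4
  by_cases hd : d = 0
  · subst hd
    exact ⟨X, ζ, a, δ, h, key _ _ _ _ h⟩
  have h1 : 1 ≤ ∑ χ ∈ X, a χ ^ 2 := by
    have := Finset.single_le_sum (f := fun χ => a χ ^ 2) (fun _ _ => sq_nonneg _) h.one
    simpa [h.a_one hA] using this
  have hn := h.norm
  have h2 : (2 : ℤ) ≤ (exc ζ).card := by exact_mod_cast h.two
  have d1 : d ≤ 1 := by push_cast at hn; nlinarith [sq_nonneg (d - δ)]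
  have d2 : -1 ≤ d := by push_cast at hn; nlinarith [sq_nonneg (d - δ)]
  have dδ : d = δ := by
    by_contra hc
    have : d = -δ := by have := h.sgn; omega
    rcases h.sgn with e | e <;> rw [this, e] at hn <;> push_cast at hn <;> linarith
  subst dδ
  have hd2 : d ^ 2 = 1 := by rcases h.sgn with e | e <;> simp [e]
  rw [hd2, sub_self] at hn
  push_cast at hn
  have hY := h.cardY
  by_cases r2 : (exc ζ).card = 2
  · obtain ⟨ζ', h'⟩ := h.swap hA r2
    rw [sub_self] at h'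
    exact ⟨X, ζ', a, _, h', key _ _ _ _ h'⟩
  exfalso
  by_cases r3 : (exc ζ).card = 3
  · obtain ⟨k, hk⟩ := hA.syl.pg.exists_card_eq
    have e2 : 2 ∣ p ^ k := by rw [← hk, ← hY, r3]; norm_num
    have e5 : 5 ∣ p ^ k := by rw [← hk, ← hY, r3]; norm_num
    have := (Nat.prime_dvd_prime_iff_eq Nat.prime_two hp.out).1 (Nat.prime_two.dvd_of_dvd_pow e2)
    have := (Nat.prime_dvd_prime_iff_eq Nat.prime_five hp.out).1 (Nat.prime_five.dvd_of_dvd_pow e5)
    omega
  have r4 : (exc ζ).card = 4 := by omega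
  have hX : X = {irrOne G} := by
    classical
    refine Finset.eq_singleton_iff_unique_mem.2 ⟨h.one, fun χ hχ => by_contra fun hne => ?_⟩
    have := Finset.sum_le_sum_of_subset_of_nonneg (f := fun χ => a χ ^ 2) (s := {χ, irrOne G}) (t := X)
      (by intro x; simp only [Finset.mem_insert, Finset.mem_singleton]; rintro (rfl | rfl); exacts [hχ, h.one])
      fun _ _ _ => sq_nonneg _
    rw [Finset.sum_pair hne, h.a_one hA] at this
    have := sq_pos_of_ne_zero (h.aX χ hχ)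
    omega
  obtain ⟨x, hx⟩ := Finset.card_pos.1 (by omega : 0 < (exc ζ).card)
  have := h.regX x hx 1 (by simpa using hp.out.ne_one)
  rw [hX, Finset.sum_singleton, h.a_one hA, r4, irr_one_eq x] at this
  have h5 : (4 * d - d) * (charDegree x.1 : ℤ) + 1 = 0 := by
    have e : (irrOne G).1 1 = 1 := rfl
    rw [e] at this
    exact_mod_cast this
  rcases h.sgn with e | e <;> rw [e] at h5 <;> omega

omit hp in
theorem exists_two (h1 : irrOne G ∈ X) (h3 : X.card = 3) : ∃ χ₂ χ₃, χ₂ ≠ χ₃ ∧ χ₂ ≠ irrOne G ∧ χ₃ ≠ irrOne G ∧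
    (∀ χ, χ ∈ X ↔ χ = irrOne G ∨ χ = χ₂ ∨ χ = χ₃) ∧ ∀ f : IrrCharacter G → ℂ, ∑ χ ∈ X, f χ = f (irrOne G) + f χ₂ + f χ₃ := by
  classical
  obtain ⟨x, y, hne, e⟩ := Finset.card_eq_two.1 (show (X.erase (irrOne G)).card = 2 by
    rw [Finset.card_erase_of_mem h1, h3])
  have hx : x ≠ irrOne G := Finset.ne_of_mem_erase (s := X) (by rw [e]; simp)
  have hy : y ≠ irrOne G := Finset.ne_of_mem_erase (s := X) (by rw [e]; simp)
  refine ⟨x, y, hne, hx, hy, fun χ => ?_, fun f => ?_⟩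
  · rw [← Finset.insert_erase h1, e]; simp
  · rw [← Finset.add_sum_erase _ _ h1, e, Finset.sum_pair hne, add_assoc]

theorem AF.exists_normal_two {P : Subgroup G} (hA : AF 2 P) (h3 : C[P].relIndex N[P] = 3) (h4 : 4 < Nat.card P) :
    ∃ K : Subgroup G, K.Normal ∧ C[P] ≤ K ∧ K ≠ ⊤ := by
  classical
  haveI := Fintype.ofFinite G
  haveI := Fintype.ofFinite (E P)
  obtain ⟨M, hM⟩ := exists_pmod 2
  obtain ⟨X, ζ, a, δ, h, hX, ha⟩ := hA.exists_b3 (M := M) h3 h4
  obtain ⟨χ₂, χ₃, -, n2, -, mX, sX⟩ := exists_two h.one hX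
  obtain ⟨e, he1, he3, hall, hsum⟩ := three_elts (A := E P) (by rw [card_E, h3])
  have h2P : 2 ∣ Nat.card P := dvd_card_of_pgroup hA.syl.pg (by rintro rfl; simp at h4)
  obtain ⟨t, ht⟩ := exists_prime_orderOf_dvd_card' (G := P) 2 h2P
  have t1 : t ≠ 1 := by rintro rfl; simp at ht
  have tt : t * t = 1 := by rw [← pow_two, ← ht, pow_orderOf_eq_one]
  set u := e.1 t with hu
  set w := e.1 u with hw
  have ew : e.1 w = t := by
    have := congrArg (fun f : E P => f.1 t) he3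
    simpa using this
  have uu : u * u = 1 := by rw [hu, ← map_mul, tt, map_one]
  have ww : w * w = 1 := by rw [hw, ← map_mul, uu, map_one]
  have tuw : t * u * w = 1 := by
    by_contra hc
    refine he1 (hA.free e hc ?_)
    rw [map_mul, map_mul, ← hu, ← hw, ew, hA.comm _ t, mul_assoc]
  have tu : t * u = w := by rw [← mul_one (t * u), ← ww, ← mul_assoc, tuw, one_mul]
  have tw : t * w = u := by rw [← tu, ← mul_assoc, tt, one_mul]
  have uw : u * w = t := by rw [← tu, hA.comm t, ← mul_assoc, uu, one_mul]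
  obtain ⟨z, hz⟩ : ∃ z : P, z ∉ ({1, t, u, w} : Finset P) := by
    by_contra hc
    push Not at hc
    haveI := Fintype.ofFinite P
    have := Finset.card_le_card (fun x _ => hc x : Finset.univ ⊆ _)
    rw [Finset.card_univ, ← Nat.card_eq_fintype_card] at this
    have := Finset.card_le_four (a := 1) (b := t) (c := u) (d := w)
    omega
  simp only [Finset.mem_insert, Finset.mem_singleton, not_or] at hz
  have cj3 : ∀ x : P, IsConj (t : G) x → x = t ∨ x = u ∨ x = w := by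
    intro x hx
    obtain ⟨f, rfl⟩ := hA.isConj_iff_E.1 hx
    rcases hall f with rfl | rfl | rfl <;> simp [hu, hw]
  have pz : ppart 2 (z : G) = z := ppart_of_pelt (pelt_of_mem hA.syl.pg z.2)
  have pt : ppart 2 (t : G) = t := ppart_of_pelt (pelt_of_mem hA.syl.pg t.2)
  have key : ∀ x y : G, IsConj (t : G) x → IsConj (t : G) y → ppart 2 (x * y) ≠ z := by
    intro x y hx hy hc
    have sq : ∀ x : G, IsConj (t : G) x → x * x = 1 := by
      intro x hx
      obtain ⟨c, rfl⟩ := isConj_iff.1 hx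
      rw [conj_mul, ← coe_mul, tt]; simp
    have xx := sq x hx
    have yy := sq y hy
    have xi : x⁻¹ = x := inv_eq_of_mul_eq_one_right xx
    have yi : y⁻¹ = y := inv_eq_of_mul_eq_one_right yy
    have inv1 : x * (x * y) * x⁻¹ = (x * y)⁻¹ := by rw [← mul_assoc x, xx, one_mul, mul_inv_rev, yi]
    have inv2 : x * z * x⁻¹ = (z : G)⁻¹ := by rw [← hc, ← ppart_conj, inv1, ppart_inv]
    have zz := hA.inv_conj h3 z.2 (isConj_iff.2 ⟨x, inv2⟩)
    have zi : (z : G)⁻¹ = z := inv_eq_of_mul_eq_one_right zz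
    have xC : x ∈ C1[(z : G)] := mem_centralizer_singleton_iff.2 (mul_inv_eq_iff_eq_mul.1 (inv2.trans zi))
    have hxz : IsConj (t : G) (x * z) := by
      obtain ⟨n, hn⟩ := mem_zpowers_iff.1 (ppart_mem_zpowers 2 (x * y))
      rcases Int.even_or_odd' n with ⟨j, rfl | rfl⟩
      · exfalso
        apply hz.1
        have := congrArg (ppart 2) hn
        rw [ppart_ppart, ppart_zpow, hc, zpow_mul, zpow_two, zz, one_zpow] at this
        exact Subtype.ext this.symm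
      · refine hy.trans (isConj_iff.2 ⟨(x * y) ^ (-j), ?_⟩)
        have h5 : (x * y) ^ (-j) * x = x * (x * y) ^ j := by
          rw [zpow_neg, ← inv_zpow, ← inv1, conj_zpow, inv_mul_cancel_right]
        rw [← hc, ← hn]
        calc (x * y) ^ (-j) * y * ((x * y) ^ (-j))⁻¹ = (x * y) ^ (-j) * x * (x * y) * (x * y) ^ j := by
              rw [zpow_neg, inv_inv, mul_assoc _ x, ← mul_assoc x, xx, one_mul]
          _ = _ := by rw [h5, two_mul, add_right_comm, zpow_add, zpow_add_one]; simp only [mul_assoc]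
    obtain ⟨c, hc1, hc2⟩ := (hA.syl_cent z.2).exists_conj_le (Q := zpowers x)
      (isPGroup_zpowers (k := 1) (by rw [pow_one, pow_two, xx])) (zpowers_le.2 xC)
    have xP : c * x * c⁻¹ ∈ P := hc2 ⟨x, mem_zpowers x, rfl⟩
    have a1 := cj3 ⟨_, xP⟩ (hx.trans (isConj_iff.2 ⟨c, rfl⟩))
    have a2 := cj3 (⟨_, xP⟩ * z) (hxz.trans (isConj_iff.2 ⟨c, by
      rw [coe_mul, mul_assoc _ c⁻¹, mem_centralizer_singleton_iff.1 (inv_mem hc1)]; group⟩))
    generalize (⟨_, xP⟩ : P) = s at a1 a2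
    have ut := (hA.comm u t).trans tu
    have wt := (hA.comm w t).trans tw
    have wu := (hA.comm w u).trans uw
    have a3 : z = s * (s * z) := by rcases a1 with rfl | rfl | rfl <;> simp [← mul_assoc, tt, uu, ww]
    obtain ⟨z1, z2, z3, z4⟩ := hz
    rcases a1 with rfl | rfl | rfl <;> rcases a2 with a2 | a2 | a2 <;> rw [a2] at a3 <;> simp_all
  have S1 := sum_pair_eq_zero (isClassFunction_colB (principalBlock M G) z) (a := t) (b := t) (by
    intro x y hx hy
    refine colB_eq_zero isPBlock_principal.fB_mem (p := 2) fun hc => ?_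
    rw [pz] at hc
    obtain ⟨c, hc⟩ := isConj_iff.1 hc
    refine key (c * x * c⁻¹) (c * y * c⁻¹) (hx.trans (isConj_iff.2 ⟨c, rfl⟩)) (hy.trans (isConj_iff.2 ⟨c, rfl⟩)) ?_
    rw [conj_mul, ppart_conj, hc])
  have S2 : colB (principalBlock M G) z t = 0 := colB_eq_zero isPBlock_principal.fB_mem (p := 2) fun hc => by
    rw [pz, pt] at hc
    have := cj3 z hc
    tauto
  simp only [classInner_colB, ite_mul, zero_mul, ite_div, zero_div] at S1
  rw [colB_apply] at S2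
  replace S1 := (h.sum_block _).symm.trans (by convert S1)
  replace S2 := (h.sum_block _).symm.trans (by convert S2)
  have m2 : χ₂ ∈ X := (mX _).2 (by simp)
  have m3 : χ₃ ∈ X := (mX _).2 (by simp)
  have r1 : ¬ 2 ∣ orderOf (1 : G) := by simp
  obtain ⟨x₀, hx₀⟩ := Finset.card_pos.1 (by have := h.two; omega : 0 < (exc ζ).card)
  have S3 := h.regX x₀ hx₀ 1 r1
  have δ2 : (δ : ℂ) * δ = 1 := by rcases h.sgn with e | e <;> simp [e]
  have sq : ∀ x ∈ exc ζ, eta ζ x t * eta ζ x t = 3 + 2 * eta ζ x t := by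
    intro x hx
    obtain ⟨ψ, hψ, rfl⟩ := mem_exc.1 hx
    rw [h.eta_eq hA hψ, hsum]
    have k : ∀ a b c : P, a * b = c → (ψ a : ℂ) * ψ b = ψ c := by
      rintro a b _ rfl; rw [map_mul, Units.val_mul]
    have k1 := k _ _ _ tt
    have k2 := k _ _ _ uu
    have k3 := k _ _ _ ww
    rw [map_one, Units.val_one] at k1 k2 k3
    change ((ψ t : ℂ) + ψ u + ψ w) * (ψ t + ψ u + ψ w) = 3 + 2 * (ψ t + ψ u + ψ w)
    linear_combination k1 + k2 + k3 + 2 * k _ _ _ tu + 2 * k _ _ _ tw + 2 * k _ _ _ uw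
  have S4 : ∑ x ∈ exc ζ, conj (eta ζ x z) = -1 := by rw [← map_sum, sum_eta hA.comm ζ hz.1]; simp
  have n0 : ∀ χ : IrrCharacter G, χ.1 1 ≠ 0 := fun χ => by
    rw [irr_one_eq]; exact_mod_cast (charDegree_pos χ.2).ne'
  have T2 : ∑ x ∈ exc ζ, x.1 t * conj (x.1 z) = ∑ x ∈ exc ζ, eta ζ x t * conj (eta ζ x z) := by
    refine Finset.sum_congr rfl fun x hx => ?_
    rw [h.valY x hx _ t pt t1, h.valY x hx _ z pz hz.1]
    simp only [Int.cast_zero, zero_add, map_mul, map_intCast]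
    linear_combination (eta ζ x t * conj (eta ζ x z)) * δ2
  have T1 : ∑ x ∈ exc ζ, conj (x.1 z) * x.1 t * x.1 t / x.1 1 =
      δ * (3 * ∑ x ∈ exc ζ, conj (eta ζ x z) + 2 * ∑ x ∈ exc ζ, eta ζ x t * conj (eta ζ x z)) / x₀.1 1 := by
    rw [Finset.mul_sum, Finset.mul_sum, ← Finset.sum_add_distrib, Finset.mul_sum, Finset.sum_div]
    refine Finset.sum_congr rfl fun x hx => ?_
    rw [h.valY x hx _ t pt t1, h.valY x hx _ z pz hz.1, h.reg x hx x₀ hx₀ 1 r1]
    simp only [Int.cast_zero, zero_add, map_mul, map_intCast]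
    congr 1
    linear_combination (δ * conj (eta ζ x z) * eta ζ x t * eta ζ x t) * δ2 + δ * conj (eta ζ x z) * sq x hx
  have one : ∀ g, (irrOne G).1 g = 1 := fun _ => rfl
  have a2 : a χ₂ * a χ₂ = 1 := by rcases ha _ m2 with e | e <;> simp [e]
  have a3 : a χ₃ * a χ₃ = 1 := by rcases ha _ m3 with e | e <;> simp [e]
  have a2' : (a χ₂ : ℂ) * a χ₂ = 1 := by exact_mod_cast a2
  have a3' : (a χ₃ : ℂ) * a χ₃ = 1 := by exact_mod_cast a3
  rw [sX, T1, S4] at S1
  rw [sX, T2] at S2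
  rw [sX, h.a_one hA] at S3
  simp only [one, h.valX _ m2 _ t pt t1, h.valX _ m3 _ t pt t1, h.valX _ m2 _ z pz hz.1, h.valX _ m3 _ z pz hz.1,
    map_intCast, map_one, a2', a3'] at S1 S2 S3
  have S5 : ∑ x ∈ exc ζ, eta ζ x t * conj (eta ζ x z) = -3 := by linear_combination S2
  have S6 : x₀.1 1 = δ * (1 + a χ₂ * χ₂.1 1 + a χ₃ * χ₃.1 1) := by
    push_cast at S3
    linear_combination (-δ) * S3 - x₀.1 1 * δ2
  have S7 : (χ₂.1 1 * χ₃.1 1 + a χ₂ * χ₃.1 1 + a χ₃ * χ₂.1 1) * (1 + a χ₂ * χ₂.1 1 + a χ₃ * χ₃.1 1) =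
      9 * (χ₂.1 1 * χ₃.1 1) := by
    have b0 := n0 x₀
    have b2 := n0 χ₂
    have b3 := n0 χ₃
    rw [S5] at S1
    field_simp at S1
    rw [S6] at S1
    linear_combination δ * S1 + (9 * χ₂.1 1 * χ₃.1 1 -
      (χ₂.1 1 * χ₃.1 1 + a χ₂ * χ₃.1 1 + a χ₃ * χ₂.1 1) * (1 + a χ₂ * χ₂.1 1 + a χ₃ * χ₃.1 1)) * δ2
  have dv : ∀ χ ∈ X, ∃ k : ℤ, a χ * charDegree χ.1 = 1 + 2 * k := by
    intro χ hχ
    obtain ⟨k, hk⟩ := (Int.natCast_dvd_natCast.2 h2P).trans (card_dvd_sub_of_const χ.2.isCharacter.isGen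
      (irr_one_eq χ) fun x hx h1 => h.valX χ hχ x ⟨x, hx⟩ (ppart_of_pelt (pelt_of_mem hA.syl.pg hx)) (by simpa using h1))
    refine ⟨a χ * k, ?_⟩
    push_cast at hk
    rcases ha χ hχ with e | e <;> rw [e] at hk ⊢ <;> linarith
  obtain ⟨k₂, hk₂⟩ := dv _ m2
  obtain ⟨k₃, hk₃⟩ := dv _ m3
  rw [irr_one_eq χ₂, irr_one_eq χ₃] at S7
  have S8 : ((1 + 2 * k₂) * (1 + 2 * k₃) + (1 + 2 * k₂) + (1 + 2 * k₃)) * (1 + (1 + 2 * k₂) + (1 + 2 * k₃)) =
      9 * ((1 + 2 * k₂) * (1 + 2 * k₃)) := by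
    rw [← hk₂, ← hk₃]
    have : ((charDegree χ₂.1 : ℤ) * (charDegree χ₃.1 : ℤ) + a χ₂ * (charDegree χ₃.1 : ℤ) + a χ₃ * (charDegree χ₂.1 : ℤ)) *
        (1 + a χ₂ * (charDegree χ₂.1 : ℤ) + a χ₃ * (charDegree χ₃.1 : ℤ)) =
        9 * ((charDegree χ₂.1 : ℤ) * (charDegree χ₃.1 : ℤ)) := by exact_mod_cast S7
    linear_combination a χ₂ * a χ₃ * this -
      (1 + a χ₂ * (charDegree χ₂.1 : ℤ) + a χ₃ * (charDegree χ₃.1 : ℤ)) * a χ₃ * (charDegree χ₃.1 : ℤ) * a2 -
      (1 + a χ₂ * (charDegree χ₂.1 : ℤ) + a χ₃ * (charDegree χ₃.1 : ℤ)) * a χ₂ * (charDegree χ₂.1 : ℤ) * a3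
  have k0 := (descent _ k₂ k₃ (-1) rfl (by
    apply mul_left_cancel₀ (show (8 : ℤ) ≠ 0 by norm_num)
    linear_combination S8)).1
  rw [k0] at hk₂
  have dp := charDegree_pos χ₂.2
  have b1 : a χ₂ = 1 := (ha _ m2).resolve_right fun e => by rw [e] at hk₂; omega
  have b2 : χ₂.1 1 = 1 := by
    rw [b1] at hk₂
    rw [irr_one_eq, show (charDegree χ₂.1 : ℤ) = 1 by omega, Int.cast_one]
  have mem : ∀ (g : G) (y : P), ppart 2 g = y → y ≠ 1 → g ∈ charKer χ₂.1 := fun g y hg hy => by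
    rw [χ₂.2.isCharacter.mem_charKer, h.valX _ m2 g y hg hy, b1, b2, Int.cast_one]
  refine ⟨charKer χ₂.1, χ₂.2.isCharacter.charKer_normal, fun c hc => ?_,
    χ₂.2.charKer_ne_top fun e => n2 (Subtype.ext e)⟩
  have hP : ppart 2 c ∈ P := (hA.syl.mono hA.le_cent le_top).le_of_norm' (isPGroup_zpowers_of_pelt (pelt_ppart 2 c))
    (zpowers_le.2 (ppart_mem 2 hc)) (zpowers_le.2 (cent_le_norm _ (ppart_mem 2 hc))) (mem_zpowers _)
  by_cases h1 : ppart 2 c = 1
  · have := mem (c * t) t (by rw [ppart_mul_of_commute (mem_cent_iff.1 hc t t.2).symm, h1, pt, one_mul]) t1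
    exact (mul_mem_cancel_right (mem t t pt t1)).1 this
  · exact mem c ⟨_, hP⟩ rfl (by simpa using h1)

end CfsgBf
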