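import Cfsg.Agent.H1.Wielandt
import Cfsg.Agent.L0.G2

/-! Casolo's count of subnormalizers of `p`-subgroups. -/

set_option autoImplicit false

namespace CfsgCas

open Subgroup Cfsg CfsgH2 CfsgH1 Finset
open CfsgH9 (Sn)
open scoped Classical

section
variable {X : Type*} [PartialOrder X] [Fintype X]

/-- Möbius-type weight on a finite poset. -/
noncomputable def ee (P : Set X) : X → ℤ :=
  wellFounded_gt.fix fun R ih => 1 - ∑ Q : {Q // R < Q ∧ Q ∈ P}, ih Q.1 Q.2.1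

theorem ee_eq (P : Set X) (R : X) : ee P R = 1 - ∑ Q with R < Q ∧ Q ∈ P, ee P Q := by
  rw [ee, WellFounded.fix_eq, Finset.sum_subtype (p := fun Q => R < Q ∧ Q ∈ P) _ (by simp)]

theorem ee_sum {P : Set X} {R : X} (h : R ∈ P) : ∑ Q with R ≤ Q ∧ Q ∈ P, ee P Q = 1 := by
  rw [show univ.filter (fun Q => R ≤ Q ∧ Q ∈ P) = insert R (univ.filter fun Q => R < Q ∧ Q ∈ P) by
    ext Q; simp only [mem_filter, mem_univ, true_and, mem_insert, le_iff_eq_or_lt]; aesop,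
    sum_insert (by simp), ee_eq]
  ring

theorem ee_congr {P Q : Set X} (φ : X → X) (m : X) (h1 : ∀ R ∈ P, m < R → φ R ∈ Q ∧ m < φ R)
    (h2 : ∀ T ∈ Q, m < T → T ∈ P ∧ ∀ R ∈ P, m < R → (T ≤ φ R ↔ T ≤ R)) : ee P m = ee Q m := by
  let F : X → ℤ := fun T => ∑ R with (m < R ∧ R ∈ P) ∧ φ R = T, ee P R
  have fib : ∀ (s : Finset X), ∑ T ∈ s, F T = ∑ R with (m < R ∧ R ∈ P) ∧ φ R ∈ s, ee P R := fun s => by
    rw [← sum_fiberwise_of_maps_to (s := univ.filter fun R => (m < R ∧ R ∈ P) ∧ φ R ∈ s) (g := φ) (t := s)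
      fun R hR => (mem_filter.1 hR).2.2]
    refine sum_congr rfl fun T hT => sum_congr ?_ fun _ _ => rfl
    ext R; simp only [mem_filter, mem_univ, true_and]
    exact ⟨fun h => ⟨⟨h.1, h.2 ▸ hT⟩, h.2⟩, fun h => ⟨h.1.1, h.2⟩⟩
  have key : ∀ T ∈ Q, m < T → F T = ee Q T := by
    intro T
    induction T using WellFoundedGT.induction with
    | ind T ih =>
    intro hT mT
    have e1 := fib (univ.filter fun U => T ≤ U ∧ U ∈ Q)
    rw [show univ.filter (fun R => (m < R ∧ R ∈ P) ∧ φ R ∈ univ.filter fun U => T ≤ U ∧ U ∈ Q) =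
        univ.filter fun R => T ≤ R ∧ R ∈ P by
      ext R; simp only [mem_filter, mem_univ, true_and]
      exact ⟨fun h => ⟨((h2 T hT mT).2 R h.1.2 h.1.1).1 h.2.1, h.1.2⟩, fun h => ⟨⟨mT.trans_le h.1, h.2⟩,
        ((h2 T hT mT).2 R h.2 (mT.trans_le h.1)).2 h.1, (h1 R h.2 (mT.trans_le h.1)).1⟩⟩, ee_sum (h2 T hT mT).1,
      show univ.filter (fun U => T ≤ U ∧ U ∈ Q) = insert T (univ.filter fun U => T < U ∧ U ∈ Q) by
        ext U; simp only [mem_filter, mem_univ, true_and, mem_insert, le_iff_eq_or_lt]; aesop,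
      sum_insert (by simp), sum_congr rfl fun U hU => ih U (mem_filter.1 hU).2.1 (mem_filter.1 hU).2.2
        (mT.trans (mem_filter.1 hU).2.1)] at e1
    rw [ee_eq, ← e1]; ring
  rw [ee_eq, ee_eq Q, ← sum_congr rfl fun U hU => key U (mem_filter.1 hU).2.2 (mem_filter.1 hU).2.1, fib]
  congr 2
  ext R; simp only [mem_filter, mem_univ, true_and]
  exact ⟨fun h => ⟨h, (h1 R h.2 h.1).symm⟩, fun h => h.1⟩
end

variable {G : Type*} [Group G] [Fintype G] {p : ℕ} [Fact p.Prime]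

variable (p) in
/-- `g`-invariant `p`-subgroups of `L` -/
def PP (L : Subgroup G) (g : G) : Set (Subgroup G) := {R | PG[p, R] ∧ R ≤ L ∧ g ∈ N[R]}

theorem ee_norm {L R : Subgroup G} {g : G} (h : R ∈ PP p L g) : ee (PP p L g) R = ee (PP p (L ⊓ N[R]) g) R :=
  ee_congr (· ⊓ N[R]) R (fun Q hQ lt => ⟨⟨hQ.1.to_le inf_le_left, inf_le_inf_right _ hQ.2.1,
      mem_norm_inf hQ.2.2 (norm_le_norm_norm _ h.2.2)⟩, lt_inf_norm hQ.1.isNilpotent lt⟩)
    fun T hT _ => ⟨⟨hT.1, hT.2.1.trans inf_le_left, hT.2.2⟩, fun Q _ _ =>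
      ⟨fun e => e.trans inf_le_left, fun e => le_inf e (hT.2.1.trans inf_le_right)⟩⟩

theorem sum_syl {L R : Subgroup G} (hR : PG[p, R]) (hl : R ≤ L) (hn : L ≤ N[R]) :
    ∑ Q with R ≤ Q ∧ Syl p Q L, (o[(L ⊓ N[Q] : Subgroup G)] : ℤ) = o[L] := by
  obtain ⟨P, hP⟩ := exists_syl p L
  have := CfsgL0.ncard_eq_sum (X := (L : Set G)) (Set.toFinite _) (fun g => P.map (cj g))
    (Y := {Q | R ≤ Q ∧ Syl p Q L}) fun g hg => mem_filter.2 ⟨mem_univ _,
      (hP.map_cj_mem hg).le_of_norm hR hl ((hP.map_cj_mem hg).le.trans hn), hP.map_cj_mem hg⟩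
  rw [show o[L] = (L : Set G).ncard from rfl, this, Nat.cast_sum]
  refine sum_congr rfl fun Q hQ => congrArg _ ?_
  obtain ⟨g, hg, rfl⟩ := hP.conj (mem_filter.1 hQ).2.2
  rw [← Set.ncard_image_of_injective _ (mul_left_injective g⁻¹)]
  refine congrArg Set.ncard (Set.ext fun x => ⟨fun hx => ⟨x * g, ⟨mul_mem hx.1 hg, ?_⟩, by simp⟩, ?_⟩)
  · rw [← map_cj_cj, map_cj_eq hx.2]
  · rintro ⟨y, ⟨hy, e⟩, rfl⟩
    exact ⟨L.mul_mem hy (L.inv_mem hg), map_cj_eq_iff.1 (by rw [map_cj_cj, inv_mul_cancel_right, e])⟩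

theorem sum_ee (R : Subgroup G) : ∀ L, PG[p, R] → R ≤ L → ∑ g with g ∈ L ⊓ N[R], ee (PP p L g) R =
    if Syl p R L then (o[(L ⊓ N[R] : Subgroup G)] : ℤ) else 0 := by
  induction R using WellFoundedGT.induction with
  | ind R ih =>
  intro L hR hl
  set M := L ⊓ N[R] with hM
  have RM : R ≤ M := le_inf hl le_normalizer
  rw [sum_congr rfl fun g hg => (ee_norm ⟨hR, hl, (mem_filter.1 hg).2.2⟩).trans (ee_eq _ _), sum_sub_distrib, ← hM,
    sum_comm' (t' := {Q | R < Q ∧ PG[p, Q] ∧ Q ≤ M}) (s' := fun Q => {g | g ∈ M ⊓ N[Q]})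
      (by simp only [mem_filter, mem_univ, true_and, PP, Set.mem_setOf_eq, Subgroup.mem_inf (p := M)]; tauto),
    sum_congr rfl fun Q hQ => ih Q (mem_filter.1 hQ).2.1 M (mem_filter.1 hQ).2.2.1 (mem_filter.1 hQ).2.2.2,
    ← sum_filter, filter_filter, sum_const, nsmul_one, ← Fintype.card_subtype, ← Nat.card_eq_fintype_card,
    ← sum_syl hR RM inf_le_right]
  split_ifs with h
  · rw [sub_eq_self]
    refine sum_eq_zero fun Q hQ => ?_
    have := (mem_filter.1 hQ).2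
    exact absurd ((h.mono RM inf_le_left).eq_of_le this.2.pg this.1.1.le this.2.le) this.1.1.ne'
  · rw [sub_eq_zero]
    refine sum_congr ?_ fun _ _ => rfl
    ext Q; simp only [mem_filter, mem_univ, true_and]
    exact ⟨fun a => ⟨⟨lt_of_le_of_ne a.1 fun e => h (.of_norm hl (by rw [← hM, e]; exact a.2)), a.2.pg, a.2.le⟩, a.2⟩,
      fun a => ⟨a.1.1.le, a.2⟩⟩

theorem sn_iff {H : Subgroup G} (hH : PG[p, H]) (g : G) :
    Sn H (H ⊔ zpowers g) ↔ ∃ R, H ≤ R ∧ PG[p, R] ∧ g ∈ N[R] := by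
  refine ⟨fun h => ⟨O[{p}, H ⊔ zpowers g], (sn_iff_le_pCoreOf hH le_sup_left).1 h, isPGroup_piCoreOf,
    le_norm_piCoreOf (mem_sup_right (mem_zpowers g))⟩, fun ⟨R, a, b, c⟩ => ?_⟩
  exact (CfsgH9.sn_of_isPGroup (b.to_le inf_le_left) (le_inf a le_sup_left)).trans (.of_normal inf_le_right
    (le_norm_inf (sup_le (a.trans le_normalizer) (zpowers_le.2 c)) le_normalizer))

theorem casolo {H : Subgroup G} (hH : PG[p, H]) : (#{g | Sn H (H ⊔ zpowers g)} : ℤ) =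
    ∑ Q with H ≤ Q ∧ Syl p Q ⊤, (o[N[Q]] : ℤ) := by
  have : ∀ g, ∑ R with H ≤ R ∧ R ∈ PP p ⊤ g, ee (PP p ⊤ g) R = if Sn H (H ⊔ zpowers g) then 1 else 0 := by
    intro g
    split_ifs with h
    · obtain ⟨R, hR⟩ := (sn_iff hH g).1 h
      obtain ⟨m, -, ⟨a, b, c⟩, hm⟩ := exists_minimal_le (fun R => H ≤ R ∧ PG[p, R] ∧ g ∈ N[R]) hR
      rw [← ee_sum (P := PP p ⊤ g) (R := m) ⟨b, le_top, c⟩]
      refine sum_congr ?_ fun _ _ => rfl
      ext Q; simp only [mem_filter, mem_univ, true_and]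
      exact ⟨fun e => ⟨inf_eq_left.1 (hm _ ⟨le_inf a e.1, b.to_le inf_le_left, mem_norm_inf c e.2.2.2⟩ inf_le_left), e.2⟩,
        fun e => ⟨a.trans e.1, e.2⟩⟩
    · refine sum_eq_zero fun Q hQ => ?_
      have := (mem_filter.1 hQ).2
      exact absurd ((sn_iff hH g).2 ⟨Q, this.1, this.2.1, this.2.2.2⟩) h
  rw [card_filter, Nat.cast_sum, sum_congr rfl fun g _ => (Nat.cast_ite _ _ _).trans (this g).symm,
    sum_comm' (t' := {Q | H ≤ Q ∧ PG[p, Q]}) (s' := fun Q => {g | g ∈ ⊤ ⊓ N[Q]}) (by simp [PP]; tauto),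
    sum_congr rfl fun Q hQ => sum_ee Q ⊤ (mem_filter.1 hQ).2.2 le_top, ← sum_filter, filter_filter]
  refine sum_congr ?_ fun _ _ => by rw [top_inf_eq]
  ext Q; simp only [mem_filter, mem_univ, true_and]
  exact ⟨fun a => ⟨a.1.1, a.2⟩, fun a => ⟨⟨a.1, a.2.pg⟩, a.2⟩⟩

end CfsgCas
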