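import Cfsg.Agent.H3.Cas
import Cfsg.Agent.H3.Wiel
import Cfsg.Agent.H2.PG1

/-! Counting conjugates inside a Sylow subgroup; the Navarro–Rizo inequality. -/

set_option autoImplicit false

namespace CfsgCas

open Subgroup Cfsg CfsgH2 CfsgH1 CfsgH3 Finset
open scoped Classical IsMulCommutative

universe u
variable {G : Type u} [Group G] [Finite G] {p : ℕ}

theorem mem_zp_iff {x y z : G} (hx : x ∈ zpowers z) (hy : y ∈ zpowers z) :
    x ∈ zpowers y ↔ orderOf x ∣ orderOf y :=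
  ⟨orderOf_dvd_of_mem_zpowers, fun h => zpowers_le.1 (le_of_card_dvd_of_cyclic (C := zpowers z) inferInstance
    (zpowers_le.2 hx) (zpowers_le.2 hy) (by rwa [Nat.card_zpowers, Nat.card_zpowers]))⟩

theorem ncard_gen (y : G) : {x | zpowers x = zpowers y}.ncard = (orderOf y).totient := by
  haveI := Fintype.ofFinite G
  rw [← IsCyclic.card_orderOf_eq_totient (α := zpowers y) (d := orderOf y) (by rw [Fintype.card_zpowers]),
    ← Set.ncard_coe_finset, ← Set.ncard_image_of_injective _ Subtype.val_injective]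
  congr 1
  ext x
  simp only [Set.mem_setOf_eq, Set.mem_image, mem_coe, mem_filter, mem_univ, true_and]
  refine ⟨fun h => ⟨⟨x, h ▸ mem_zpowers x⟩, ?_, rfl⟩, ?_⟩
  · rw [← orderOf_coe, ← Nat.card_zpowers, h, Nat.card_zpowers]
  · rintro ⟨x, h, rfl⟩
    exact eq_of_le_of_card_ge (zpowers_le.2 x.2) (by rw [Nat.card_zpowers, Nat.card_zpowers, orderOf_coe, h])

/-- `#{g : H^g ≤ T}` -/
noncomputable def tau (H T : Subgroup G) : ℕ := {g | H.map (cj g) ≤ T}.ncard

theorem tau_step {H P M N : Subgroup G} [Fact p.Prime] [M.Normal] [N.Normal] (hP : Syl p P ⊤) (hH : PG[p, H])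
    (hl : M ≤ N) (hc : (M.relIndex N).Coprime p) :
    tau H (P ⊔ M) * o[N] = tau H (P ⊔ N) * {u | u ∈ N ∧ ∀ h ∈ H, h * u * h⁻¹ * u⁻¹ ∈ M}.ncard ∧
      o[(P ⊔ N : Subgroup G)] * o[M] = o[(P ⊔ M : Subgroup G)] * o[N] := by
  have nN : ∀ {A : Subgroup G}, A ≤ N[N] := fun {_} => le_normalizer_of_normal
  have nM : ∀ {A : Subgroup G}, A ≤ N[M] := fun {_} => le_normalizer_of_normal
  have i1 : (P ⊔ M) ⊓ N = M := by
    rw [sup_inf_of_norm' (.inl nM) hl, sup_eq_right]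
    intro x hx
    obtain ⟨k, hk⟩ := pgroup_mem_order hP.pg hx.1
    exact mem_of_pow_mem_coprime (pow_relIndex_mem' nM hx.2) (hk ▸ hc.symm.pow_left k)
  refine ⟨?_, by rw [← CfsgH2.card_sup_mul_card_inf (H := P ⊔ M) nN, i1, sup_assoc, sup_eq_right.2 hl]⟩
  set C := {u | u ∈ N ∧ ∀ h ∈ H, h * u * h⁻¹ * u⁻¹ ∈ M}
  set X := {x : G × G | x.1 ∈ N ∧ H.map (cj (x.1 * x.2)) ≤ P ⊔ M}
  have e1 : X.ncard = tau H (P ⊔ M) * o[N] := by
    rw [tau, show o[N] = (N : Set G).ncard from rfl, ← Set.ncard_prod]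
    refine Set.ncard_congr (fun x _ => (x.1 * x.2, x.1)) (fun x hx => ⟨hx.2, hx.1⟩) (fun x y _ _ e => ?_)
      fun y hy => ⟨(y.2, y.2⁻¹ * y.1), ⟨hy.2, by simpa using hy.1⟩, by simp⟩
    obtain ⟨a, b⟩ := Prod.ext_iff.1 e
    exact Prod.ext b (by simp only at a b; rw [b] at a; exact mul_left_cancel a)
  have fib : ∀ g, H.map (cj g) ≤ P ⊔ N → {x ∈ X | x.2 = g}.ncard = C.ncard := by
    intro g hg
    obtain ⟨n, hn, h0⟩ : ∃ n ∈ N, H.map (cj (n * g)) ≤ P := by
      obtain ⟨x, hx, e⟩ := (hP.mono le_sup_left le_top).exists_conj_le (hH.map _) hg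
      obtain ⟨y, hy, n, hn, rfl⟩ := (mem_sup_of_norm nN).1 hx
      rw [← map_cj_cj, map_cj_le_iff, map_cj_of_mem (inv_mem hy), map_cj_cj] at e
      exact ⟨n, hn, e⟩
    set k := n * g
    have key : ∀ u ∈ N, H.map (cj (k * u)) ≤ P ⊔ M ↔ ∀ h ∈ H, h * u * h⁻¹ * u⁻¹ ∈ M := by
      intro u hu
      rw [map_cj_le_iff']
      refine forall₂_congr fun h hh => ?_
      have a : k * h * k⁻¹ ∈ P ⊔ M := mem_sup_left (map_cj_le_iff'.1 h0 h hh)
      have b : k * (h * u * h⁻¹ * u⁻¹) * k⁻¹ ∈ N :=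
        Normal.conj_mem ‹_› _ (mul_mem (Normal.conj_mem ‹_› _ hu _) (inv_mem hu)) _
      rw [← inv_mem_iff, ← mul_mem_cancel_left a,
        show k * h * k⁻¹ * (k * u * h * (k * u)⁻¹)⁻¹ = k * (h * u * h⁻¹ * u⁻¹) * k⁻¹ by group]
      exact ⟨fun e => by simpa [mul_assoc] using Normal.conj_mem' ‹_› _ (i1.le ⟨e, b⟩) k,
        fun e => mem_sup_right (Normal.conj_mem ‹_› _ e k)⟩
    symm
    refine Set.ncard_congr (fun u _ => (k * u * g⁻¹, g)) (fun u hu => ⟨⟨?_, by simpa using (key u hu.1).2 hu.2⟩, rfl⟩)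
      (fun _ _ _ _ e => by simpa using e) ?_
    · simpa [k, mul_assoc] using mul_mem hn (Normal.conj_mem ‹_› _ hu.1 g)
    · rintro ⟨m, g'⟩ ⟨⟨a, b⟩, e⟩
      obtain rfl : g = g' := e.symm
      have : k⁻¹ * m * g ∈ N := by simpa [k, mul_assoc] using Normal.conj_mem' ‹_› _ (mul_mem (inv_mem hn) a) g
      exact ⟨k⁻¹ * m * g, ⟨this, (key _ this).1 (by simpa [mul_assoc] using b)⟩, by simp [mul_assoc]⟩
  rw [← e1]
  refine le_antisymm (CfsgL0.ncard_le_mul (·.2) (fun x hx => ?_) (fun g hg => (fib g hg).le) (Set.toFinite _)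
    (Set.toFinite _)) (CfsgL0.mul_le_ncard (·.2) (fun g hg => (fib g hg).ge) (Set.toFinite _) (Set.toFinite _))
  have := hx.2.trans (sup_le_sup_left hl P)
  rwa [← map_cj_cj, map_cj_le_iff, map_cj_of_mem (inv_mem (mem_sup_right hx.1))] at this

variable (p) in
/-- order of the fixed points on a `p'`-factor -/
noncomputable def cc (H M N : Subgroup G) : ℕ := if (M.relIndex N).Coprime p then
  {u | u ∈ N ∧ ∀ h ∈ H, h * u * h⁻¹ * u⁻¹ ∈ M}.ncard / o[M] else 1

theorem ncard_cc {H M N : Subgroup G} [M.Normal] (l : M ≤ N) : {u | u ∈ N ∧ ∀ h ∈ H, h * u * h⁻¹ * u⁻¹ ∈ M}.ncard =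
    o[M] * o[(N.map (QuotientGroup.mk' M) ⊓ C[H.map (QuotientGroup.mk' M)] : Subgroup _)] := by
  set π := QuotientGroup.mk' M
  set C := (N.map π ⊓ C[H.map π]).comap π with hC
  have eC : {u | u ∈ N ∧ ∀ h ∈ H, h * u * h⁻¹ * u⁻¹ ∈ M} = C := by
    ext u
    rw [SetLike.mem_coe, hC, comap_inf, comap_map_eq, QuotientGroup.ker_mk', sup_eq_left.2 l]
    simp [π, mem_centralizer_iff, ← QuotientGroup.eq_one_iff, mul_inv_eq_one, mul_inv_eq_iff_eq_mul]
  rw [eC, show (C : Set G).ncard = o[C] from rfl, ← CfsgH2.card_map_mul_card_inf_ker π C,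
    map_comap_eq_self_of_surjective (QuotientGroup.mk'_surjective M), inf_eq_right.2 (ker_le_comap _ _),
    QuotientGroup.ker_mk', mul_comm]

theorem cc_eq {H M N : Subgroup G} [M.Normal] (l : M ≤ N) (hc : (M.relIndex N).Coprime p) : cc p H M N =
    o[(N.map (QuotientGroup.mk' M) ⊓ C[H.map (QuotientGroup.mk' M)] : Subgroup _)] := by
  rw [cc, if_pos hc, ncard_cc l, Nat.mul_div_cancel_left _ (card_pos' _)]

theorem tau_chain {H P : Subgroup G} [Fact p.Prime] (hP : Syl p P ⊤) (hH : PG[p, H]) (n : ℕ) :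
    ∀ M : Fin (n + 1) → Subgroup G, M (Fin.last n) = ⊤ → Monotone M → (∀ i, (M i).Normal) →
    (∀ i : Fin n, (∃ m : ℕ, (M i.castSucc).relIndex (M i.succ) = p ^ m) ∨
      ((M i.castSucc).relIndex (M i.succ)).Coprime p) →
    tau H (P ⊔ M 0) = o[(P ⊔ M 0 : Subgroup G)] * ∏ i : Fin n, cc p H (M i.castSucc) (M i.succ) := by
  induction n with
  | zero => intro M h _ _ _; simp [show M 0 = ⊤ from h, tau]
  | succ n ih =>
    intro M h1 h2 h3 h4
    have e := ih (fun i => M i.succ) h1 (fun i j ij => h2 (Fin.succ_le_succ_iff.2 ij)) (fun i => h3 _) fun i => h4 i.succ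
    have l : M 0 ≤ M 1 := h2 (Fin.zero_le _)
    rw [Fin.prod_univ_succ]
    simp only [Fin.castSucc_zero, Fin.succ_zero_eq_one, Fin.castSucc_succ] at e ⊢
    haveI := h3 0
    haveI := h3 1
    by_cases hc : ((M 0).relIndex (M 1)).Coprime p
    · obtain ⟨a, b⟩ := tau_step hP hH l hc
      rw [ncard_cc l, ← cc_eq l hc, e] at a
      refine Nat.eq_of_mul_eq_mul_right (card_pos' (M 1)) ?_
      rw [a]
      generalize ∏ x : Fin n, cc p H (M x.castSucc.succ) (M x.succ.succ) = t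
      linear_combination (cc p H (M 0) (M 1) * t) * b
    · obtain ⟨m, hm⟩ := (h4 0).resolve_right hc
      rw [cc, if_neg hc, one_mul, ← show P ⊔ M 1 = P ⊔ M 0 from ?_, e]
      refine le_antisymm (sup_le le_sup_left ?_) (sup_le_sup_left l P)
      have := (hP.map (QuotientGroup.mk' (M 0))).le_of_norm (Q := (M 1).map (QuotientGroup.mk' (M 0)))
        (IsPGroup.of_card (n := m) (by
          rw [← hm, ← relIndex_ker, QuotientGroup.ker_mk']; rfl)) (map_mono le_top)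
        (by haveI := (h3 1).map _ (QuotientGroup.mk'_surjective (M 0)); exact le_normalizer_of_normal)
      rwa [Subgroup.map_le_map_iff, QuotientGroup.ker_mk'] at this

theorem nr_id {X : Type*} [Group X] [Fintype X] [hp : Fact p.Prime] (hX : IsPGroup p X) (χ : X → ℂ) :
    ∑ x, ((p : ℂ) * ((∑ y ∈ fs (zpowers x), χ y) / orderOf x) - (∑ y ∈ fs (zpowers (x ^ p)), χ y) / orderOf (x ^ p)) =
      (p - 1) * ∑ y, χ y := by
  have p0 : (p : ℂ) ≠ 0 := Nat.cast_ne_zero.2 hp.out.ne_zero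
  have ox : ∀ x : X, x ≠ 1 → ∃ k, orderOf x = p ^ (k + 1) ∧ orderOf (x ^ p) = p ^ k := fun x h => by
    obtain ⟨k, hk⟩ := IsPGroup.iff_orderOf.1 hX x
    obtain _ | k := k
    · exact absurd (orderOf_eq_one_iff.1 hk) h
    · exact ⟨k, hk, by rw [orderOf_pow_of_dvd hp.out.ne_zero (hk ▸ dvd_pow_self p k.succ_ne_zero), hk, pow_succ,
        Nat.mul_div_cancel _ hp.out.pos]⟩
  have e : ∀ x : X, (p : ℂ) * ((∑ y ∈ fs (zpowers x), χ y) / orderOf x) -
      (∑ y ∈ fs (zpowers (x ^ p)), χ y) / orderOf (x ^ p) =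
      ∑ y, if zpowers x = zpowers y then (p - 1) / ((orderOf y).totient : ℂ) * χ y else 0 := by
    intro x
    by_cases h : x = 1
    · subst h
      simp only [one_pow, zpowers_one_eq_bot, show fs (⊥ : Subgroup X) = {1} by ext; simp, eq_comm (a := ⊥),
        zpowers_eq_bot]
      simp; ring
    obtain ⟨k, a, b⟩ := ox x h
    rw [← sum_filter, ← sum_sdiff (s₁ := fs (zpowers (x ^ p))) (s₂ := fs (zpowers x))
      fun y hy => mem_fs.2 (zpowers_le.2 (npow_mem_zpowers x p) (mem_fs.1 hy)),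
      show fs (zpowers x) \ fs (zpowers (x ^ p)) = univ.filter fun y => zpowers x = zpowers y from ?_,
      sum_congr rfl (g := fun y => p / (p ^ (k + 1) : ℂ) * χ y) (f := fun y => (p - 1) / ((orderOf y).totient : ℂ) * χ y)
        fun y hy => ?_, ← mul_sum, a, b]
    · push_cast; field_simp; ring
    · have : (p : ℂ) - 1 ≠ 0 := sub_ne_zero.2 (by exact_mod_cast hp.out.ne_one)
      rw [← Nat.card_zpowers, ← (mem_filter.1 hy).2, Nat.card_zpowers, a, Nat.totient_prime_pow_succ hp.out]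
      push_cast [hp.out.one_le]; field_simp; ring
    · ext y
      simp only [mem_sdiff, mem_fs, mem_filter, mem_univ, true_and]
      refine ⟨fun ⟨c, d⟩ => (eq_of_le_of_card_ge (zpowers_le.2 c) ?_).symm, fun c => ⟨c ▸ mem_zpowers y, fun d => ?_⟩⟩
      · rw [mem_zp_iff c (npow_mem_zpowers x p), b] at d
        obtain ⟨j, hj, e⟩ := (Nat.dvd_prime_pow hp.out).1 (a ▸ orderOf_dvd_of_mem_zpowers c)
        rw [Nat.card_zpowers, Nat.card_zpowers, a, e]
        exact Nat.pow_le_pow_right hp.out.pos (by_contra fun z => d (e ▸ pow_dvd_pow p (by omega)))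
      · have := orderOf_dvd_of_mem_zpowers d
        rw [← Nat.card_zpowers, ← c, Nat.card_zpowers, a, b, Nat.pow_dvd_pow_iff_le_right hp.out.one_lt] at this
        omega
  rw [sum_congr rfl fun x _ => e x, sum_comm, mul_sum]
  refine sum_congr rfl fun y _ => ?_
  have : ((orderOf y).totient : ℂ) ≠ 0 := Nat.cast_ne_zero.2 (Nat.totient_pos.2 (orderOf_pos y)).ne'
  rw [← sum_filter, sum_const, nsmul_eq_mul, ← Set.ncard_coe_finset, coe_filter_univ, ncard_gen]
  field_simp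

theorem nr_elem {X : Type*} [Group X] [Fintype X] [hp : Fact p.Prime] (hX : IsPGroup p X) {r : ℕ} [hr : Fact r.Prime]
    (f : X →* G) {V : Subgroup G} (hV : IsElementaryAbelian r V) (hn : f.range ≤ N[V]) (hc : ¬ r ∣ Nat.card X) :
    (∏ x, o[(V ⊓ C1[f x] : Subgroup G)]) ^ p ≤ o[V] ^ Nat.card X * o[(V ⊓ C[f.range] : Subgroup G)] ^ ((p - 1) * Nat.card X) := by
  haveI := hV.1
  letI : Module (ZMod r) (Additive V) := AddCommGroup.zmodModule fun x =>
    Additive.toMul.injective (Subtype.ext (hV.2 _ x.toMul.2))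
  obtain ⟨χ, -, h2⟩ := exists_char_of_end hc ((conjEnd V).comp (f.codRestrict _ fun x => hn ⟨x, rfl⟩))
  have h3 : ∀ A : Subgroup X, ∃ d : ℕ, o[(V ⊓ C[A.map f] : Subgroup G)] = r ^ d ∧ ∑ a ∈ fs A, χ a = Nat.card A * d := by
    intro A
    obtain ⟨d, h3, h4⟩ := h2 A
    refine ⟨d, ?_, h4⟩
    rw [← h3, ← CfsgH2.card_subgroupOf (inf_le_left (b := C[A.map f]))]
    refine Nat.card_congr (Equiv.subtypeEquiv Additive.ofMul fun v => ?_)
    have key : ∀ a : X, (conjEnd V).comp (f.codRestrict _ fun x => hn ⟨x, rfl⟩) a (Additive.ofMul v) = Additive.ofMul v ↔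
        f a * v = v * f a := fun a => by
      rw [← mul_inv_eq_iff_eq_mul]
      exact Additive.toMul.injective.eq_iff.symm.trans Subtype.ext_iff
    rw [mem_subgroupOf, Subgroup.mem_inf, and_iff_right v.2, mem_cent_iff]
    constructor
    · exact fun h a ha => (key a).2 (h _ ⟨a, ha, rfl⟩)
    · rintro h _ ⟨a, ha, rfl⟩; exact (key a).1 (h a ha)
  choose d d1 d2 using h3
  have e := nr_id hX χ
  have o0 : ∀ x : X, (orderOf x : ℂ) ≠ 0 := fun x => Nat.cast_ne_zero.2 (orderOf_pos x).ne'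
  simp only [d2, Nat.card_zpowers, mul_div_cancel_left₀ _ (o0 _)] at e
  rw [show (univ : Finset X) = fs ⊤ by ext; simp, d2, ← show (univ : Finset X) = fs ⊤ by ext; simp, card_top,
    sum_sub_distrib, ← mul_sum, sub_eq_iff_eq_add] at e
  have e' : p * ∑ x, d (zpowers x) = (p - 1) * (Nat.card X * d ⊤) + ∑ x, d (zpowers (x ^ p)) := by
    apply Nat.cast_injective (R := ℂ); push_cast [hp.out.one_le]; exact e
  have b := d1 ⊥
  rw [Subgroup.map_bot, cent_bot, inf_top_eq] at b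
  have le : ∀ A, d A ≤ d ⊥ := fun A => (Nat.pow_le_pow_iff_right hr.out.one_lt).1 (by
    rw [← d1, ← b]; exact card_le_of_le inf_le_left)
  have := sum_le_card_nsmul univ (fun x : X => d (zpowers (x ^ p))) _ fun x _ => le _
  rw [card_univ, ← Nat.card_eq_fintype_card, smul_eq_mul] at this
  simp only [← cent_zpowers, ← MonoidHom.map_zpowers, d1, MonoidHom.range_eq_map]
  rw [b, prod_pow_eq_pow_sum, ← pow_mul, ← pow_mul, ← pow_mul, ← pow_add]
  exact Nat.pow_le_pow_right hr.out.pos (by nlinarith)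

theorem nr_sol {X : Type*} [Group X] [Fintype X] [hp : Fact p.Prime] (hX : IsPGroup p X) (n : ℕ) :
    ∀ (G : Type u) [Group G] [Finite G] (f : X →* G) (H : Subgroup G), o[H] = n → f.range ≤ N[H] → Sol[H] →
    (Nat.card X).Coprime o[H] → (∏ x, o[(H ⊓ C1[f x] : Subgroup G)]) ^ p ≤
      o[H] ^ Nat.card X * o[(H ⊓ C[f.range] : Subgroup G)] ^ ((p - 1) * Nat.card X) := by
  induction n using Nat.strong_induction_on with
  | _ n ih =>
  intro G _ _ f H hn hf hs hc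
  by_cases h0 : H = ⊥
  · subst h0; simp
  obtain ⟨r, _, N, hN, hN0, hn', hel, -⟩ := exists_min_norm hs h0 (sup_le (le_norm_of_le le_rfl) hf)
  have hHN := le_sup_left.trans hn'
  have hXN := le_sup_right.trans hn'
  have hcN : (Nat.card X).Coprime o[N] := hc.coprime_dvd_right (card_dvd_of_le hN)
  have hsN : Sol[N] := CfsgH1.isSolvable_of_le hN
  have h1 := nr_elem hX f hel hXN fun hp => (Fact.out : r.Prime).one_lt.ne'
    (Nat.eq_one_of_dvd_coprimes hcN hp (dvd_card_of_pgroup (elem_pgroup hel) hN0))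
  let g := (qmk N).comp (f.codRestrict _ fun x => hXN ⟨x, rfl⟩)
  have eg : g.range = qt N f.range := by
    ext y
    exact ⟨by rintro ⟨x, rfl⟩; exact qmk_mem_qt _ ⟨x, rfl⟩, fun h => by
      obtain ⟨⟨_, a⟩, ⟨x, rfl⟩, rfl⟩ := mem_qt.1 h; exact ⟨x, rfl⟩⟩
  have h2 := ih _ (hn ▸ card_qt_lt (K := N) (A := H) (by rwa [inf_eq_right.2 hN])) _ g _ rfl
    (eg ▸ qt_le_norm hf) (isSolvable_qt hs) (hc.coprime_dvd_right card_qt_dvd)
  have cr : o[f.range].Coprime o[N] := hcN.coprime_dvd_left (card_range_dvd f)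
  have e : ∀ x, o[(H ⊓ C1[f x] : Subgroup G)] = o[(N ⊓ C1[f x] : Subgroup G)] * o[(qt N H ⊓ C1[g x] : Subgroup _)] := by
    intro x
    have z : zpowers (f x) ≤ f.range := zpowers_le.2 ⟨x, rfl⟩
    rw [← cent_zpowers, card_inf_cent_qt (z.trans hXN) hHN hN (cr.coprime_dvd_left (card_dvd_of_le z)) hsN,
      qt_zpowers (hXN ⟨x, rfl⟩), cent_zpowers (qmk N _)]
    rfl
  simp only [e]
  rw [card_inf_cent_qt hXN hHN hN cr hsN, ← card_qt_mul' hHN hN, prod_mul_distrib, mul_pow, mul_pow, mul_pow,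
    mul_mul_mul_comm, ← eg]
  exact Nat.mul_le_mul h1 h2

theorem nr {X : Type*} [Group X] [Fintype X] [hp : Fact p.Prime] (hX : IsPGroup p X) (f : X →* G) {H : Subgroup G}
    (hf : f.range ≤ N[H]) (hc : (Nat.card X).Coprime o[H]) : (∏ x, o[(H ⊓ C1[f x] : Subgroup G)]) ^ p ≤
      o[H] ^ Nat.card X * o[(H ⊓ C[f.range] : Subgroup G)] ^ ((p - 1) * Nat.card X) := by
  have pr : PG[p, f.range] := hX.of_surjective _ f.rangeRestrict_surjective
  have cr : o[f.range].Coprime o[H] := hc.coprime_dvd_left (card_range_dvd f)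
  have sol : ∀ A ≤ f.range, Sol[A] := fun A hA => by haveI := (pr.to_le hA).isNilpotent; infer_instance
  have : ∀ r : o[H].primeFactors, ∃ R : Subgroup G, (∏ x, o[(R ⊓ C1[f x] : Subgroup G)]) ^ p ≤
      o[R] ^ Nat.card X * o[(R ⊓ C[f.range] : Subgroup G)] ^ ((p - 1) * Nat.card X) ∧
      ∀ A ≤ f.range, o[(R ⊓ C[A] : Subgroup G)] = r ^ o[(H ⊓ C[A] : Subgroup G)].factorization r := fun r => by
    haveI := Fact.mk (Nat.prime_of_mem_primeFactors r.2)
    obtain ⟨R, r1, r2⟩ := exists_inv_syl r hf cr (.inl (sol _ le_rfl))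
    haveI := r1.pg.isNilpotent
    exact ⟨R, nr_sol hX _ G f R rfl r2 inferInstance (hc.coprime_dvd_right (card_dvd_of_le r1.le)), fun A hA =>
      (r1.inf_cent (hA.trans hf) (cr.coprime_dvd_left (card_dvd_of_le hA)) (.inl (sol A hA)) (hA.trans r2)).card_eq⟩
  choose R r1 r2 using this
  have e : ∀ A ≤ f.range, o[(H ⊓ C[A] : Subgroup G)] = ∏ r, o[(R r ⊓ C[A] : Subgroup G)] := fun A hA => by
    simp only [r2 _ A hA]
    rw [prod_coe_sort _ fun r => r ^ o[(H ⊓ C[A] : Subgroup G)].factorization r]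
    conv_lhs => rw [← Nat.factorization_prod_pow_eq_self (card_pos' (H ⊓ C[A])).ne']
    exact Finsupp.prod_of_support_subset _ (Nat.primeFactors_mono (card_dvd_of_le inf_le_left) (card_pos' H).ne') _
      (by simp)
  have e0 := e ⊥ bot_le
  simp only [cent_bot, inf_top_eq] at e0
  simp only [← cent_zpowers] at r1 ⊢
  rw [prod_congr rfl fun x _ => e _ (zpowers_le.2 ⟨x, rfl⟩), e _ le_rfl, prod_comm, ← prod_pow, ← prod_pow]
  rw [congrArg (· ^ Nat.card X) e0, ← prod_pow _ (Nat.card X), ← prod_mul_distrib]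
  exact prod_le_prod' fun r _ => r1 r

theorem tau_syl {H P : Subgroup G} [Fact p.Prime] (hP : Syl p P ⊤) :
    tau H P = {Q | H ≤ Q ∧ Syl p Q ⊤}.ncard * o[N[P]] := by
  have fib : ∀ Q ∈ {Q | H ≤ Q ∧ Syl p Q ⊤}, {g ∈ {g | H.map (cj g) ≤ P} | P.map (cj g⁻¹) = Q}.ncard = o[N[P]] := by
    intro Q hQ
    obtain ⟨k, -, rfl⟩ := hP.conj hQ.2
    refine Set.ncard_congr (fun g _ => g * k) (fun g hg => inv_mem_iff.1 (map_cj_eq_iff.1 ?_)) (by simp)
      fun n hn => ⟨n * k⁻¹, ⟨?_, ?_⟩, by simp⟩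
    · rw [mul_inv_rev, ← map_cj_cj, hg.2, map_cj_inv_cj]
    · show H.map (cj (n * k⁻¹)) ≤ P
      rw [← map_cj_cj]; exact map_cj_le_of_norm (le_map_cj_iff.1 hQ.1) hn
    · rw [mul_inv_rev, inv_inv, ← map_cj_cj, map_cj_eq (inv_mem hn)]
  exact le_antisymm (CfsgL0.ncard_le_mul (fun g => P.map (cj g⁻¹))
    (fun g hg => ⟨map_cj_le_iff.1 hg, hP.map_cj_mem (mem_top _)⟩) (fun Q hQ => (fib Q hQ).le) (Set.toFinite _)
    (Set.toFinite _)) (CfsgL0.mul_le_ncard _ (fun Q hQ => (fib Q hQ).ge) (Set.toFinite _) (Set.toFinite _))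

theorem tau_conj {H P : Subgroup G} : tau H P = {K | K ≤ P ∧ ∃ g, K = H.map (cj g)}.ncard * o[N[H]] := by
  have fib : ∀ K ∈ {K | K ≤ P ∧ ∃ g, K = H.map (cj g)},
      {g ∈ {g | H.map (cj g) ≤ P} | H.map (cj g) = K}.ncard = o[N[H]] := by
    rintro _ ⟨a, k, rfl⟩
    refine Set.ncard_congr (fun g _ => k⁻¹ * g) (fun g hg => map_cj_eq_iff.1 ?_) (by simp)
      fun n hn => ⟨k * n, ⟨?_, ?_⟩, by simp⟩
    · rw [← map_cj_cj, hg.2, map_cj_inv_cj]
    · show H.map (cj (k * n)) ≤ P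
      rwa [← map_cj_cj, map_cj_eq hn]
    · rw [← map_cj_cj, map_cj_eq hn]
  exact le_antisymm (CfsgL0.ncard_le_mul (fun g => H.map (cj g))
    (fun g hg => ⟨hg, g, rfl⟩) (fun Q hQ => (fib Q hQ).le) (Set.toFinite _)
    (Set.toFinite _)) (CfsgL0.mul_le_ncard _ (fun Q hQ => (fib Q hQ).ge) (Set.toFinite _) (Set.toFinite _))

theorem casolo_tau {H P : Subgroup G} [Fact p.Prime] (hP : Syl p P ⊤) (hH : PG[p, H]) :
    Nat.card {g : G // (H.subgroupOf (H ⊔ zpowers g)).IsSubnormal} = tau H P := by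
  haveI := Fintype.ofFinite G
  have := casolo hH
  rw [sum_congr rfl (g := fun _ => (o[N[P]] : ℤ)) fun Q hQ => by
    obtain ⟨k, -, rfl⟩ := hP.conj (mem_filter.1 hQ).2.2
    rw [normalizer_map_cj, card_map_cj], sum_const, nsmul_eq_mul, ← Set.ncard_coe_finset, ← Set.ncard_coe_finset,
    coe_filter_univ, coe_filter_univ] at this
  simp only [← CfsgH9.sn_iff_subgroupOf le_sup_left]
  rw [tau_syl hP]
  exact_mod_cast this

theorem tau_ineq {P : Subgroup G} [hp : Fact p.Prime] [Fintype P] (hP : Syl p P ⊤) (hG : IsPSolvable p G) :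
    (∏ x : P, tau (zpowers (x : G)) P) ^ p ≤ Nat.card G ^ o[P] * o[N[P]] ^ ((p - 1) * o[P]) := by
  obtain ⟨n, M, h0, h1, h2, h3, h4⟩ := hG
  have e : ∀ H ≤ P, tau H P = o[P] * ∏ i : Fin n, cc p H (M i.castSucc) (M i.succ) := fun H hH => by
    have := tau_chain hP (hP.pg.to_le hH) n M h1 h2 h3 h4
    rwa [h0, sup_bot_eq] at this
  have e1 : tau ⊥ P = Nat.card G := by simp [tau]
  have e2 : tau P P = o[N[P]] := congrArg Set.ncard (Set.ext fun g => ⟨mem_norm_of_map_le, fun h => (map_cj_eq h).le⟩)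
  rw [← e1, ← e2, e _ bot_le, e _ le_rfl, prod_congr rfl fun (x : P) _ => e _ (zpowers_le.2 x.2), prod_mul_distrib,
    prod_comm, prod_const, card_univ, ← Nat.card_eq_fintype_card, mul_pow, mul_pow, mul_pow, mul_mul_mul_comm,
    ← pow_add, ← pow_mul, ← prod_pow, ← prod_pow, ← prod_pow, ← prod_mul_distrib]
  refine Nat.mul_le_mul (Nat.pow_le_pow_right (card_pos' P) ?_) (prod_le_prod' fun i _ => ?_)
  · obtain ⟨k, rfl⟩ := Nat.exists_eq_add_of_le' hp.out.one_le
    simp only [Nat.add_sub_cancel]; nlinarith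
  by_cases hc : ((M i.castSucc).relIndex (M i.succ)).Coprime p
  · have l : M i.castSucc ≤ M i.succ := h2 i.castSucc_lt_succ.le
    haveI := h3 i.castSucc
    haveI := (h3 i.succ).map _ (QuotientGroup.mk'_surjective (M i.castSucc))
    have := nr hP.pg ((QuotientGroup.mk' (M i.castSucc)).comp P.subtype)
      (H := (M i.succ).map (QuotientGroup.mk' _)) le_normalizer_of_normal (coprime_of_pgroup hP.pg (by
        rw [← relIndex_ker, QuotientGroup.ker_mk']; exact (coprime_iff_not_dvd hp.out).1 hc))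
    simp only [cc_eq l hc, MonoidHom.map_zpowers, cent_zpowers, Subgroup.map_bot, cent_bot, inf_top_eq]
    rwa [MonoidHom.range_comp, range_subtype] at this
  · simp [cc, hc]

end CfsgCas
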