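import Cfsg.Agent.H3.Cd1
import Cfsg.Agent.H2.BG0

/-! Homogeneous restrictions, Mackey, Berger's theorem. -/

set_option autoImplicit false
set_option linter.unusedSectionVars false

open Cfsg CfsgH3 CfsgH4 CfsgH1 Function Subgroup
open CfsgH2 hiding cj cj_apply isPGroup_pCore le_pCore isNilpotent_map card_mul_relIndex
open scoped ComplexConjugate commutatorElement CfsgH2

namespace CfsgCd

universe u

variable {G : Type*} [Group G] {χ ψ ξ : G → ℂ} {H K L M : Subgroup G} {e p : ℕ}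

theorem ind_comp {A : Type*} [Group A] [Fintype A] [Fintype G] (f : A →* G)
    (h : ∀ g, ∃ a, (f a)⁻¹ * g ∈ H) {θ : H → ℂ} (hθ : IsClassFunction H θ) (a : A) :
    indFun H θ (f a) = indFun (H.comap f) (fun x => θ ⟨f x, x.2⟩) a := by
  classical
  have e : ∀ y : A, extendByZero (H.comap f) (fun x => θ ⟨f x, x.2⟩) y = extendByZero H θ (f y) :=
    fun y => by
    by_cases hy : f y ∈ H
    · rw [extendByZero_of_mem _ hy, extendByZero_of_mem _ (show y ∈ H.comap f from hy)]
    · rw [extendByZero_of_not_mem _ hy, extendByZero_of_not_mem _ (show y ∉ H.comap f from hy)]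
  rw [indFun_apply, indFun_apply]
  simp only [e, map_mul, map_inv]
  set F := fun x : G => extendByZero H θ (x⁻¹ * f a * x) with hF
  have hF : ∀ g, ∀ k ∈ H, F (g * k) = F g := fun g k hk => by
    simp only [hF]; rw [← extendByZero_conj_mem hθ hk (g⁻¹ * f a * g)]; congr 1; group
  rw [sum_eq_card_smul_sum_quotient H F hF, sum_eq_card_smul_sum_quotient (H.comap f)
    (fun y => F (f y)) (fun g k hk => by rw [map_mul]; exact hF _ _ hk), nsmul_eq_mul, nsmul_eq_mul,
    inv_mul_cancel_left₀ (natCard_ne_zero _), inv_mul_cancel_left₀ (natCard_ne_zero _)]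
  let m : A ⧸ H.comap f → G ⧸ H := Quotient.map' f fun a b h => by
    rw [QuotientGroup.leftRel_apply] at h ⊢; simpa using h
  refine (Fintype.sum_bijective m ⟨fun a b e => ?_, fun g => ?_⟩ _ _ fun q => ?_).symm
  · induction a using Quotient.inductionOn'
    induction b using Quotient.inductionOn'
    exact QuotientGroup.eq.2 (by simpa using QuotientGroup.eq.1 e)
  · induction g using Quotient.inductionOn' with
    | h g =>
    obtain ⟨t, e⟩ := h g
    exact ⟨t, QuotientGroup.eq.2 e⟩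
  · have : ((f q.out : G) : G ⧸ H) = ((m q).out : G) := by
      rw [QuotientGroup.out_eq']; conv_rhs => rw [← QuotientGroup.out_eq' q]
      rfl
    rw [← hF _ _ (QuotientGroup.eq.1 this), mul_inv_cancel_left]

/-- homogeneous restriction -/
def Hm (M : Subgroup G) (χ : G → ℂ) : Prop :=
  ∃ (φ : M → ℂ) (e : ℕ), IsIrrCharacter M φ ∧ (fun m : M => χ m) = (e : ℂ) • φ

theorem Hm.eq [Fintype M] (h : Hm M χ) {θ : M → ℂ} (hθ : IsIrrCharacter M θ)
    (h1 : classInner (fun m : M => χ m) θ ≠ 0) : ∃ e : ℕ, e ≠ 0 ∧ ∀ m : M, χ m = e * θ m := by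
  obtain ⟨φ, e, a, b⟩ := h
  rw [b, classInner_smul_left] at h1
  obtain rfl := a.eq_of_classInner_ne_zero hθ (right_ne_zero_of_mul h1)
  exact ⟨e, by simpa using left_ne_zero_of_mul h1, congrFun b⟩

theorem Hm.inv [Fintype M] [M.Normal] (h : Hm M χ) (hχ : IsClassFunction G χ) {θ : M → ℂ}
    (hθ : IsIrrCharacter M θ) (h1 : classInner (fun m : M => χ m) θ ≠ 0) (g : G) : cj g θ = θ := by
  obtain ⟨e, a, b⟩ := h.eq hθ h1
  exact funext fun n => mul_left_cancel₀ (Nat.cast_ne_zero.2 a : (e : ℂ) ≠ 0) (by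
    rw [cj_apply, ← b, ← b]; exact hχ _ _)

theorem hm_of_inv [Finite G] [Fintype M] [M.Normal] (hχ : IsIrrCharacter G χ) {θ : M → ℂ}
    (hθ : IsIrrCharacter M θ) (h1 : classInner (fun m : M => χ m) θ ≠ 0) (h : ∀ g, cj g θ = θ) :
    Hm M χ := by
  haveI := Fintype.ofFinite G
  obtain ⟨e, he⟩ := (hχ.isCharacter.restrict M).exists_nat_classInner hθ.isCharacter
  exact ⟨θ, e, hθ, he ▸ clifford_of_invariant hχ hθ h1 h⟩

theorem exists_ind_of_not_hm [Fintype G] [M.Normal] (hχ : IsIrrCharacter G χ) (h : ¬ Hm M χ) :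
    ∃ T : Subgroup G, T ≠ ⊤ ∧ M ≤ T ∧ ∃ ψ, IsIrrCharacter T ψ ∧ indFun T ψ = χ := by
  haveI := Fintype.ofFinite M
  obtain ⟨θ, a, b⟩ := hχ.exists_irr_under (H := M)
  obtain ⟨ψ, c, d, -⟩ := exists_over_inertia a rfl (le_inertia a.isClassFunction) hχ b
  exact ⟨_, fun e => h (hm_of_inv hχ a b fun g => mem_inertia.1 (e ▸ mem_top g)),
    le_inertia a.isClassFunction, ψ, c, d⟩

theorem Hm.comp {A : Type*} [Group A] [Finite A] (f : A →* G) {M : Subgroup A} (h : Hm (M.map f) χ) :
    Hm M fun a => χ (f a) := by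
  obtain ⟨φ, e, a, b⟩ := h
  exact ⟨_, e, a.comp_of_surjective (f.subgroupMap M) (f.subgroupMap_surjective M),
    funext fun m => congrFun b (f.subgroupMap M m)⟩

theorem exists_pCore [Finite G] [Group.IsSolvable G] [Nontrivial G] :
    ∃ p : ℕ, p.Prime ∧ pCore p G ≠ ⊥ := by
  by_contra h
  push Not at h
  exact fitting_ne_bot (eq_bot_iff.2 (fitting_le_of_forall_pCore_le fun p hp => (h p hp).le))

theorem sol_quot [L.Normal] [K.Normal] (h : L ≤ K) (hs : Group.IsSolvable (G ⧸ L)) :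
    Group.IsSolvable (G ⧸ K) :=
  solvable_of_surjective (f := QuotientGroup.map L K (MonoidHom.id G) h) fun x => by
    obtain ⟨x, rfl⟩ := QuotientGroup.mk_surjective x
    exact ⟨x, rfl⟩

theorem exists_compl_core [Finite G] (hH : IsCoatom H) (hs : Group.IsSolvable (G ⧸ H.normalCore)) :
    ∃ (p : ℕ) (K : Subgroup G), p.Prime ∧ K.Normal ∧ K ⊓ H = H.normalCore ∧ K ⊔ H = ⊤ ∧
      (∃ a, H.normalCore.relIndex K = p ^ a) ∧
      (K = ⊤ ∨ ∃ M : Subgroup G, M.Normal ∧ K < M ∧ ¬ p ∣ K.relIndex M) := by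
  set L := H.normalCore
  haveI : Nontrivial (G ⧸ L) := QuotientGroup.nontrivial_iff.2 fun e =>
    hH.1 (top_le_iff.1 (e.ge.trans H.normalCore_le))
  obtain ⟨p, hp, h0⟩ := exists_pCore (G := G ⧸ L)
  haveI := Fact.mk hp
  let π := QuotientGroup.mk' L
  have sj := QuotientGroup.mk'_surjective L
  set K := (pCore p (G ⧸ L)).comap π with hK
  have mK : K.map π = pCore p _ := map_comap_eq_self_of_surjective sj _
  have lK : L ≤ K := (QuotientGroup.ker_mk' L).ge.trans (ker_le_comap _ _)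
  have nK : ¬ K ≤ H := fun h => h0 (by
    rw [← mK, Subgroup.map_eq_bot_iff, QuotientGroup.ker_mk']; exact normal_le_normalCore.2 h)
  have cX : ((K ⊓ H).map π).comap π = K ⊓ H := by
    rw [comap_map_eq, QuotientGroup.ker_mk', sup_of_le_left (le_inf lK H.normalCore_le)]
  have ra : ∃ a, L.relIndex K = p ^ a := by
    rw [← card_map_mk', mK]; exact (isPGroup_pCore p).exists_card_eq
  refine ⟨p, K, hp, inferInstance, le_antisymm ?_ (le_inf lK H.normalCore_le),
    hH.2 _ (right_lt_sup.2 nK), ra, ?_⟩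
  · obtain ⟨y, hy, ny⟩ := SetLike.exists_of_lt (lt_inf_norm (P := (K ⊓ H).map π)
      (isPGroup_pCore (G := G ⧸ L) p).isNilpotent (lt_of_le_of_ne (mK ▸ Subgroup.map_mono inf_le_left)
        fun e => nK (by rw [hK, ← e, cX]; exact inf_le_right)))
    obtain ⟨y, rfl⟩ := sj y
    have : y ∈ N[K ⊓ H] := by rw [← cX, ← comap_normalizer_eq_of_surjective _ sj]; exact hy.2
    haveI : (K ⊓ H).Normal := normalizer_eq_top_iff.1 (hH.2 _ (lt_of_le_of_ne
      (le_norm_inf le_normalizer_of_normal le_normalizer) fun e =>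
        ny (mem_map_of_mem π ⟨hy.1, e ▸ this⟩)))
    exact normal_le_normalCore.2 inf_le_right
  by_cases hT : K = ⊤
  · exact .inl hT
  haveI := QuotientGroup.nontrivial_iff.2 hT
  haveI := sol_quot lK hs
  obtain ⟨q, hq, h1⟩ := exists_pCore (G := G ⧸ K)
  haveI := Fact.mk hq
  set M := (pCore q (G ⧸ K)).comap (QuotientGroup.mk' K)
  have mM : M.map (QuotientGroup.mk' K) = pCore q _ :=
    map_comap_eq_self_of_surjective (QuotientGroup.mk'_surjective K) _
  have lM : K ≤ M := (QuotientGroup.ker_mk' K).ge.trans (ker_le_comap _ _)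
  have nM : ¬ M ≤ K := fun h => h1 (by rwa [← mM, Subgroup.map_eq_bot_iff, QuotientGroup.ker_mk'])
  obtain ⟨b, hb⟩ : ∃ a, K.relIndex M = q ^ a := by
    rw [← card_map_mk', mM]; exact (isPGroup_pCore q).exists_card_eq
  refine .inr ⟨M, inferInstance, lt_of_le_not_ge lM nM, fun d => nM ?_⟩
  obtain rfl := (Nat.prime_dvd_prime_iff_eq hp hq).1 (hp.dvd_of_dvd_pow (hb ▸ d))
  obtain ⟨a, ha⟩ := ra
  haveI : (M.map π).Normal := Normal.map inferInstance _ sj
  exact map_le_iff_le_comap.1 (le_pCore (IsPGroup.of_card (n := a + b) (by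
    rw [card_map_mk', ← relIndex_mul_relIndex L K M lK lM, ha, hb, pow_add])))

theorem sq_of_res [Fintype G] {θ : H → ℂ} (hχ : IsIrrCharacter G χ) (hθ : IsIrrCharacter H θ) {c : ℂ}
    (h : ∀ x : H, χ x = c * θ x) (h0 : ∀ g, g ∉ H → χ g = 0) : ‖c‖ ^ 2 = H.index := by
  classical
  have a := sum_norm_sq_of_irr hχ
  have b := sum_norm_sq_of_irr hθ
  rw [← Finset.sum_filter_of_ne (p := (· ∈ H)) fun g _ hg => by
    by_contra h; simp [h0 g h] at hg, ← sum_subgroup_eq H fun g => ‖χ g‖ ^ 2] at a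
  simp only [h, norm_mul, mul_pow, ← Finset.mul_sum, b, ← H.index_mul_card, Nat.cast_mul] at a
  exact mul_right_cancel₀ (by exact_mod_cast Nat.card_pos.ne') a

theorem not_hm [Fintype G] [L.Normal] (hLH : L ≤ H) (hH : IsCoatom H) (hs : Group.IsSolvable (G ⧸ L))
    {θ : H → ℂ} (hθ : IsIrrCharacter H θ) (hL : IsIrrCharacter L (resLE hLH θ))
    (hi : IsIrrCharacter G (indFun H θ)) : ∃ M : Subgroup G, M.Normal ∧ L ≤ M ∧ ¬ Hm M (indFun H θ) := by
  classical
  have l0 : L ≤ H.normalCore := normal_le_normalCore.2 hLH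
  obtain ⟨p, K, hp, nK, a, b, ⟨k, hk⟩, c⟩ := exists_compl_core hH (sol_quot l0 hs)
  set C := H.normalCore
  have lC : C ≤ H := H.normalCore_le
  have lK : C ≤ K := a.ge.trans inf_le_left
  have ir : ∀ (U : Subgroup G) (h : U ≤ H), L ≤ U → IsIrrCharacter U (resLE h θ) := fun U h h' =>
    (hθ.isCharacter.resLE h).isIrr_of_comp (inclusion h') hL
  by_contra hh
  push Not at hh
  set χ := indFun H θ with hχ
  have n : H.index = p ^ k := by
    rw [index_eq_rel (P := K) fun g => ?_, ← inf_relIndex_left, a, hk]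
    obtain ⟨n, hn, x, hx, rfl⟩ := mem_sup_of_normal_right.1 (sup_comm K H ▸ b ▸ mem_top g)
    exact ⟨x, hx, by simpa using hn⟩
  have o : classInner (fun x : H => χ x) θ ≠ 0 := by
    rw [← classInner_indFun_right _ hi.isClassFunction, hi.classInner_self]; simp
  have θ1 := hθ.apply_one_ne_zero
  have rC : ∀ x : C, χ x = H.index * resLE lC θ x := by
    obtain ⟨e, -, he⟩ := (hh C inferInstance l0).eq (ir C lC l0) (over_trans lC hi.isCharacter hθ
      (ir C lC l0) o (by rw [(ir C lC l0).classInner_self]; simp))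
    have := he 1
    rw [OneMemClass.coe_one, hχ, indFun_apply_one] at this
    rwa [mul_right_cancel₀ θ1 this]
  obtain ⟨ψ, f, iψ, hf⟩ := hh K nK (l0.trans lK)
  have f0 : (f : ℂ) ≠ 0 := fun e => hi.apply_one_ne_zero (by simpa [e] using congrFun hf 1)
  have f2 : f ^ 2 = p ^ k := by
    have := sq_of_res (c := H.index / f) iψ ((isIrr_subOf_iff lK).2 (ir C lC l0)) (fun x => by
      have := (congrFun hf x).symm.trans (rC ⟨x, x.2⟩)
      field_simp; rw [mul_comm]; exact this) fun g hg => mul_left_cancel₀ f0 ((congrFun hf g).symm.trans (by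
        rw [mul_zero]
        exact indFun_eq_zero_of_not_conj θ fun x hx => hg (by
          have := Normal.conj_mem (inferInstance : C.Normal) _
            (a.le ⟨Normal.conj_mem' nK _ g.2 x, hx⟩) x
          simpa [mul_assoc, mem_subgroupOf] using this)))
    rw [← relIndex, hk, n, norm_div, Complex.norm_natCast, Complex.norm_natCast] at this
    have f0' : (f : ℝ) ≠ 0 := by exact_mod_cast f0
    have p0 : ((p ^ k : ℕ) : ℝ) ≠ 0 := by exact_mod_cast (pow_pos hp.pos k).ne'
    field_simp at this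
    exact_mod_cast this.symm
  obtain ⟨M, nM, lM, d⟩ := c.resolve_left fun e => by
    subst e
    have := (hi.comp_equiv topEquiv).classInner_self
    rw [show (fun x => χ (topEquiv x)) = _ from hf, classInner_smul_left, classInner_smul_right,
      iψ.classInner_self, Complex.conj_natCast, mul_one, ← sq] at this
    have : f ^ 2 = 1 := by exact_mod_cast this
    exact hH.1 (index_eq_one.1 (by omega))
  obtain ⟨ξ, g, iξ, hg⟩ := hh M nM (l0.trans (lK.trans lM.le))
  have g0 : (g : ℂ) ≠ 0 := fun e => hi.apply_one_ne_zero (by simpa [e] using congrFun hg 1)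
  have rξ : ∀ x : K.subgroupOf M, ξ x = f / g * subOf M ψ x := fun x => by
    have := (congrFun hg x).symm.trans (congrFun hf ⟨x, x.2⟩)
    field_simp; rw [mul_comm]; exact this
  have iψ' := (isIrr_subOf_iff lM.le).2 iψ
  have gf : g = f := by
    obtain ⟨m, h1, h2⟩ := exists_mult_dvd_of_inv iψ' (fun t => funext fun x =>
      mul_left_cancel₀ (div_ne_zero f0 g0) (by rw [cj_apply, ← rξ, ← rξ]; exact iξ.isClassFunction _ _))
      iξ (by rw [funext rξ]; exact (classInner_smul_left _ _ _).trans_ne (by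
        simp [iψ'.classInner_self, f0, g0]))
    have := mul_right_cancel₀ iψ'.apply_one_ne_zero ((h2 1).symm.trans (rξ 1))
    have e : m * g = f := by field_simp at this; exact_mod_cast this
    obtain ⟨j, -, rfl⟩ := (Nat.dvd_prime_pow hp).1 (((Dvd.intro _ e).trans (dvd_pow_self f two_ne_zero)).trans f2.dvd)
    rcases j with _ | j
    · simpa using e
    · exact absurd ((dvd_pow_self p j.succ_ne_zero).trans h1) d
  subst gf
  have mk := ind_comp M.subtype (H := H) (fun y => by
    obtain ⟨x, hx, n, hn, rfl⟩ := mem_sup_of_normal_left.1 (b ▸ mem_top y)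
    exact ⟨⟨x, lM.le hx⟩, by simpa using hn⟩) hθ.isClassFunction
  set U := H.comap M.subtype
  set η : U → ℂ := fun x => θ ⟨M.subtype x, x.2⟩
  have lM' := lK.trans lM.le
  let j : C →* U := (inclusion lM').codRestrict U fun x => lC x.2
  have cη : IsCharacter U η := hθ.isCharacter.comp (M.subtype.subgroupComap H)
  have iη : IsIrrCharacter U η := cη.isIrr_of_comp j (ir C lC l0)
  have iU : U.index = g ^ 2 := by
    rw [f2, ← n, index_eq_rel (P := M) fun y => ?_]; · rfl
    obtain ⟨n, hn, x, hx, rfl⟩ := mem_sup_of_normal_right.1 (sup_comm K H ▸ b ▸ mem_top y)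
    exact ⟨x, lM.le hx, by simpa using hn⟩
  have e1 : indFun U η = (g : ℂ) • ξ := (funext mk).symm.trans hg
  have e2 : classInner (fun x : U => ξ x) η = g := by
    rw [← classInner_indFun_right _ iξ.isClassFunction, e1, classInner_smul_right, iξ.classInner_self]
    simp
  have e3 := ((iξ.isCharacter.restrict U).sub_constituent iη e2 le_rfl).eq_zero_of_apply_one (by
    have := congrFun e1 1
    rw [indFun_apply_one, iU] at this
    simp only [Pi.sub_apply, Pi.smul_apply, smul_eq_mul, OneMemClass.coe_one] at this ⊢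
    refine mul_left_cancel₀ g0 ?_
    rw [mul_sub, ← this]; push_cast; ring)
  rw [sub_eq_zero] at e3
  have v := (vz_of_irr iξ iη iU.le (congrFun e3)).1
  obtain ⟨y, hy, ny⟩ := SetLike.exists_of_lt lM
  obtain ⟨x, hx, n, hn, rfl⟩ := mem_sup_of_normal_left.1 (b ▸ mem_top y)
  have nM' : n ∈ M := (M.mul_mem_cancel_left (lM.le hx)).1 hy
  have iC : IsIrrCharacter (C.subgroupOf H) fun x => θ x := (isIrr_subOf_iff lC).2 (ir C lC l0)
  have s := coset_sum_self hθ iC ⟨n, hn⟩
  obtain ⟨z, -, hz⟩ := Finset.exists_ne_zero_of_sum_ne_zero (s ▸ natCard_ne_zero _)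
  have zM : (z : G) * n ∈ M := mul_mem (lM' z.2) nM'
  have c0 : χ (z * n) ≠ 0 := by
    rw [show χ (z * n) = _ from congrFun hg ⟨_, zM⟩, Pi.smul_apply,
      show ξ ⟨_, zM⟩ = _ from v.res ⟨⟨_, zM⟩, mul_mem z.1.2 hn⟩]
    exact mul_ne_zero g0 (mul_ne_zero g0 (left_ne_zero_of_mul hz))
  refine ny (mul_mem hx (lK ((C.mul_mem_cancel_left z.2).1 fun t => ?_)))
  by_contra ht
  have := v.van ⟨_, nM.conj_mem _ zM t⟩ ht
  refine c0 ((hi.isClassFunction _ t).symm.trans ((congrFun hg ⟨_, nM.conj_mem _ zM t⟩).trans ?_))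
  simp [this]

theorem irr_of_mul [Finite G] {a τ : G → ℂ} (ha : IsCharacter G a) (hτ : IsCharacter G τ)
    (h : IsIrrCharacter G (a * τ)) : IsIrrCharacter G a := by
  haveI := Fintype.ofFinite G
  have h1 := h.apply_one_ne_zero
  obtain ⟨γ, i, o⟩ := ha.isClassFunction.exists_constituent fun e => h1 (by simp [e])
  have c := i.isCharacter.mul hτ
  obtain ⟨δ, j, o'⟩ := c.isClassFunction.exists_constituent fun e =>
    mul_ne_zero i.apply_one_ne_zero (right_ne_zero_of_mul h1) (congrFun e 1)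
  have := classInner_ne_zero_of_add ((ha.sub_of_constituent i o).mul hτ) c j o'
  rw [← add_mul, sub_add_cancel] at this
  obtain rfl := h.eq_of_classInner_ne_zero j this
  obtain ⟨m, hm⟩ := ha.exists_nat_apply_one
  obtain ⟨n, hn⟩ := i.isCharacter.exists_nat_apply_one
  obtain ⟨t, ht⟩ := hτ.exists_nat_apply_one
  have l1 := c.degree_le_of_constituent h o' (m := m * t) (n := n * t) (by simp [*]) (by simp [*])
  have l2 := ha.degree_le_of_constituent i o hn hm
  have t0 : 0 < t := Nat.pos_of_ne_zero fun e => h1 (by simp [ht, e])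
  rwa [ha.eq_of_constituent_of_apply_one i o (by
    rw [hm, hn, le_antisymm (Nat.le_of_mul_le_mul_right l1 t0) l2])]

theorem cc_le [Fintype G] {θ : H → ℂ} (hθ : IsCharacter H θ) (hi : IsIrrCharacter G (indFun H θ)) :
    charCenter (indFun H θ) ≤ H := fun z hz => by
  have c := hi.isCharacter
  by_contra hh
  have := indFun_eq_zero_of_not_conj θ (g := z) fun x hx => hh (by
    obtain ⟨h, -⟩ := mem_of_indFun_apply_eq hθ (fun e => hi.apply_one_ne_zero (by
      rw [indFun_apply_one, e, mul_zero])) (c.mem_charKer.1 (c.commutator_mem_charKer hz x⁻¹))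
    simpa [mul_assoc] using mul_mem (inv_mem h) hx)
  rw [c.mem_charCenter, this, norm_zero, eq_comm, norm_eq_zero] at hz
  exact hi.apply_one_ne_zero hz

theorem cj_of_under [Finite G] [M.Normal] [Fintype M] (h : M ≤ K) {ζ : K → ℂ} (hζ : IsIrrCharacter K ζ)
    {β γ : M → ℂ} (hβ : IsIrrCharacter M β) (hγ : IsIrrCharacter M γ)
    (h1 : classInner (resLE h ζ) β ≠ 0) (h2 : classInner (resLE h ζ) γ ≠ 0) : ∃ t ∈ K, γ = cj t β := by
  classical
  haveI := Fintype.ofFinite K
  obtain ⟨t, ht⟩ := mem_cjOrbit.1 (mem_cjOrbit_of_constituents hζ ((isIrr_subOf_iff h).2 hβ)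
    ((isIrr_subOf_iff h).2 hγ) (by rwa [inner_subOf h]) (by rwa [inner_subOf h]))
  exact ⟨t, t.2, subOf_injective h (by rw [ht, cj_subOf])⟩

theorem cc_le_inertia [Finite G] [M.Normal] [Fintype M] (hχ : IsCharacter G χ) {β : M → ℂ}
    (hβ : IsIrrCharacter M β) (h : classInner (fun m : M => χ m) β ≠ 0) : charCenter χ ≤ inertia β :=
  fun z hz => funext fun m => by
    have n : M.Normal := inferInstance
    have k : z * m * z⁻¹ * m⁻¹ ∈ M := mul_mem (n.conj_mem _ m.2 z) (inv_mem m.2)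
    have := (hχ.restrict M).apply_eq_of_constituent hβ h (g := ⟨_, k⟩) (hχ.mem_charKer.1 (by
      simpa [mul_assoc] using inv_mem (hχ.commutator_mem_charKer hz m)))
    rw [cj_apply, ← hβ.isCharacter.apply_mul_of_eq' this m]
    congr 1; ext; simp

/-- primitive -/
def BP (n : ℕ) : Prop := ∀ (G : Type u) [Group G] [Fintype G] [Group.IsSolvable G] (χ : G → ℂ),
  IsIrrCharacter G χ → (charCenter χ).index = n → (∀ N : Subgroup G, N.Normal → Hm N χ) →
    ∀ K : Subgroup G, K ≠ ⊤ → ∀ ψ, IsCharacter K ψ → indFun K ψ ≠ χ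

theorem berger1 {n : ℕ} (ih : ∀ m < n, BP.{u} m) {G : Type u} [Group G] [Fintype G]
    [Group.IsSolvable G] {χ : G → ℂ} (hχ : IsIrrCharacter G χ) (hn : (charCenter χ).index = n)
    (hq : ∀ N : Subgroup G, N.Normal → Hm N χ) {S M : Subgroup G} (hS : S ≠ ⊤) {ψ : S → ℂ}
    (hψ : IsCharacter S ψ) (e : indFun S ψ = χ) [M.Normal] (hM : M ≤ S) : M ≤ charCenter χ := by
  classical
  by_contra hh
  haveI := hχ.isCharacter.charCenter_normal
  set N := M ⊔ charCenter χ
  have lN : N ≤ S := sup_le hM (e ▸ cc_le hψ (e ▸ hχ))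
  obtain ⟨θ, iθ, oθ⟩ := hχ.exists_irr_under (H := N)
  obtain ⟨k, Γ, _, _, π, i, τ, lam, c⟩ := exists_ct' iθ ((hq N inferInstance).inv hχ.isClassFunction iθ oθ)
  obtain ⟨ξ, iξ, x1, x2, x3⟩ := c.exists_xi hχ oθ
  haveI := Fintype.ofFinite Γ
  haveI : Group.IsSolvable π.ker := isSolvable_of_comm fun a b => Subtype.ext (c.comm a b).symm
  haveI : Group.IsSolvable Γ := solvable_of_ker_le_range π.ker.subtype π (by simp)
  haveI := c.normal
  have lc := c.norm_xi iξ.isCharacter x1 x2
  have li : i.range ≤ N.comap π := by rintro _ ⟨x, rfl⟩; simp [c.pi_i]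
  have ir : ∀ U : Subgroup Γ, i.range ≤ U → IsIrrCharacter (i.range.subgroupOf U) fun x => τ x :=
    fun U h => (isIrr_subOf_iff h).2 c.irr_range
  have x1' : ∀ x ∈ i.range, ξ x = ξ 1 := by rintro _ ⟨x, rfl⟩; exact x1 x
  have iχ := hχ.comp_of_surjective π c.surj
  have iψ := (hψ.isIrr_of_ind (e ▸ hχ)).comp_of_surjective (π.subgroupComap S)
    (π.subgroupComap_surjective_of_surjective S c.surj)
  have lS : i.range ≤ S.comap π := li.trans (comap_mono lN)
  obtain ⟨β, iβ, b1, b2⟩ := exists_eq_mul_of_restrict_irr (c.chr.restrict (S.comap π)) (ir _ lS) iψ (by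
    obtain ⟨γ, a, b⟩ := iψ.exists_irr_under (H := i.range.subgroupOf (S.comap π))
    obtain ⟨γ, rfl⟩ := exists_subOf lS γ
    have a' := (isIrr_subOf_iff lS).1 a
    have o : classInner (fun x : S.comap π => χ (π x)) (fun x => ψ (π.subgroupComap S x)) ≠ 0 := by
      rw [← classInner_indFun_right _ iχ.isClassFunction, show indFun (S.comap π) _ = fun x => χ (π x) from
        funext fun x => (e ▸ ind_comp π (fun g => let ⟨a, h⟩ := c.surj g; ⟨a, by simp [h]⟩)
          hψ.isClassFunction x).symm, iχ.classInner_self]; simp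
    have := over_trans lS iχ.isCharacter iψ a' o (inner_subOf lS (fun x => ψ (π.subgroupComap S x)) γ ▸ b)
    rw [show (fun x : i.range => χ (π x)) = ξ 1 • fun x : i.range => τ x from funext fun x => by
      simp [x3, x1' x x.2], classInner_smul_left] at this
    obtain rfl := c.irr_range.eq_of_classInner_ne_zero a' (right_ne_zero_of_mul this)
    exact b)
  have e2 : ξ * τ = indFun (S.comap π) β * τ := by
    rw [← indFun_mul_restrict _ c.chr.isClassFunction, ← b2]
    funext x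
    rw [Pi.mul_apply, ← x3, ← e]
    exact ind_comp π (fun g => let ⟨a, h⟩ := c.surj g; ⟨a, by simp [h]⟩) hψ.isClassFunction x
  have e3 : (fun x => χ (π x)) = ξ * τ := funext x3
  refine ih _ ?_ Γ ξ iξ rfl (fun W nW => ?_) (S.comap π) (fun e => hS ?_) β iβ.isCharacter
    (eq_of_mul_eq_of_restrict_irr c.chr c.irr_range iξ x1'
      (irr_of_mul iβ.isCharacter.ind c.chr (e2 ▸ e3 ▸ iχ))
      (fun x hx => indFun_apply_of_normal_le_ker lS (fun a ha => b1 a ha) hx) e2).symm
  · refine (index_antitone lc).trans_lt ?_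
    rw [c.index_comap, ← hn]
    exact index_strictAnti (right_lt_sup.2 hh)
  · set U := W ⊔ N.comap π
    have lU : i.range ≤ U := li.trans le_sup_right
    obtain ⟨γ, iγ, oγ⟩ := iξ.exists_irr_under (H := W)
    obtain ⟨ζ, iζ, o1, o2⟩ := exists_mid (K := U) le_sup_left iξ.isCharacter iγ oγ
    have kζ : ∀ g, ∀ x ∈ i.range.subgroupOf U, cj g ζ x = cj g ζ 1 := fun g x hx => by
      rw [cj_apply_one, cj_apply]
      exact (iξ.isCharacter.restrict U).apply_eq_of_constituent iζ o1
        (x1' _ (c.normal.conj_mem _ hx g))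
    have cU := c.chr.restrict U
    have k1 := kζ 1
    rw [cj_one] at k1
    have im := isIrr_mul_of_restrict_irr cU (ir U lU) iζ k1
    have hU := (hq (U.map π) (Normal.map inferInstance _ c.surj)).comp π
    have inv : ∀ g, cj g ζ = ζ := fun g => eq_of_mul_eq_of_restrict_irr cU (ir U lU) (iζ.cj g) (kζ g) iζ k1 (by
      rw [← hU.inv iχ.isClassFunction im (by
        have := classInner_ne_zero_of_add (((iξ.isCharacter.restrict U).sub_of_constituent iζ o1).mul cU)
          im.isCharacter im (by simp [im.classInner_self])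
        rw [← add_mul, sub_add_cancel] at this
        simp only [x3]; exact this) g]
      funext x
      simp only [Pi.mul_apply, cj_apply, c.chr.isClassFunction _ g])
    refine hm_of_inv iξ iγ oγ fun g => ?_
    obtain ⟨t, ht, e⟩ := cj_of_under le_sup_left iζ iγ (iγ.cj g) o2 (by
      rwa [← inv g, show resLE _ (cj g ζ) = cj g (resLE (le_sup_left : W ≤ U) ζ) from rfl, classInner_cj])
    rw [e]
    exact (sup_le (le_inertia iγ.isClassFunction) (lc.trans (cc_le_inertia iξ.isCharacter iγ oγ)) :) ht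
  · rw [← map_comap_eq_self_of_surjective c.surj S, e, map_top_of_surjective _ c.surj]

theorem berger (n : ℕ) : BP.{u} n := by
  induction n using Nat.strong_induction_on with
  | _ n ih =>
  intro G _ _ _ χ hχ hn hq K hK ψ hψ e
  classical
  obtain ⟨H, hH, lK⟩ := (eq_top_or_exists_le_coatom K).resolve_left hK
  have cχ := hχ.isCharacter
  set θ := indFun (K.subgroupOf H) (subOf H ψ)
  have cθ : IsCharacter H θ := ((isCharacter_subOf_iff lK).2 hψ).ind
  have e1 : indFun H θ = χ := (indFun_indFun K H lK ψ).trans e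
  have iθ := cθ.isIrr_of_ind (e1 ▸ hχ)
  haveI := cχ.charCenter_normal
  have eL : H.normalCore = charCenter χ := le_antisymm
    (berger1 ih hχ hn hq hH.1 cθ e1 H.normalCore_le) (normal_le_normalCore.2 (e1 ▸ cc_le cθ (e1 ▸ hχ)))
  obtain ⟨-, J, -, nJ, a, b, -⟩ := exists_compl_core hH inferInstance
  rw [eL] at a
  set Z := charCenter χ
  have lZ : Z ≤ H := a.ge.trans inf_le_right
  have n1 := hχ.apply_one_ne_zero
  let ω : G → ℂ := fun z => χ z / χ 1
  have w1 : ∀ g, ∀ z ∈ Z, ω (g * z) = ω g * ω z := fun g z hz => by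
    have := cχ.apply_mul_of_norm_eq (cχ.mem_charCenter.1 hz) g
    simp only [ω]; field_simp; rw [mul_comm]; exact this
  have w0 : ω 1 = 1 := div_self n1
  have w2 : ∀ g x, ω (x * g * x⁻¹) = ω g := fun g x => by simp only [ω, hχ.isClassFunction g x]
  have wn : ∀ z ∈ Z, ‖ω z‖ = 1 := fun z hz => by
    simp only [ω, norm_div, cχ.mem_charCenter.1 hz]; exact div_self (norm_ne_zero_iff.2 n1)
  have o : classInner (fun x : H => χ x) θ ≠ 0 := by
    rw [← classInner_indFun_right _ hχ.isClassFunction, e1, hχ.classInner_self]; simp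
  have w3 : ∀ (h z : H), (z : G) ∈ Z → θ (h * z) = θ h * ω z := fun h z hz => by
    let l : Z →* ℂ := ⟨⟨fun z => conj (ω z), by simp [w0]⟩, fun a b => by simp [w1 _ _ b.2]⟩
    have cl := (isIrr_of_monoidHom l).isCharacter
    have wc : conj (ω z) * ω z = 1 := by rw [Complex.conj_mul', wn z hz]; simp
    have := (cl.mul (cθ.resLE lZ)).apply_eq_of_add (cl.mul (((cχ.restrict H).sub_of_constituent iθ o).resLE lZ))
      (g := ⟨z, hz⟩) (by
        simp only [Pi.add_apply, Pi.mul_apply, resLE, Pi.sub_apply, ← mul_add, add_sub_cancel, map_one,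
          one_mul, OneMemClass.coe_one]
        show conj (ω z) * χ z = _
        rw [show χ z = ω z * χ 1 by simp only [ω]; field_simp, ← mul_assoc, wc, one_mul])
    have e : θ z = ω z * θ 1 := by
      have e : conj (ω z) * θ z = conj (ω 1) * θ 1 := this
      rw [w0, map_one, one_mul] at e
      rw [← e, ← mul_assoc, mul_comm (ω z), wc, one_mul]
    refine mul_left_cancel₀ iθ.apply_one_ne_zero ?_
    rw [cθ.apply_mul_of_norm_eq (by rw [e, norm_mul, wn z hz, one_mul]), e]; ring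
  let Γ : Subgroup (G × H) := ((QuotientGroup.mk' J).comp (MonoidHom.fst G H)).eqLocus
    ((QuotientGroup.mk' J).comp (H.subtype.comp (MonoidHom.snd G H)))
  let p1 : Γ →* G := (MonoidHom.fst G H).comp Γ.subtype
  let p2 : Γ →* H := (MonoidHom.snd G H).comp Γ.subtype
  have s1 : Surjective p1 := fun g => by
    obtain ⟨x, hx, y, hy, rfl⟩ := mem_sup_of_normal_left.1 (b ▸ mem_top g)
    exact ⟨⟨(x * y, ⟨y, hy⟩), show ((x * y : G) : G ⧸ J) = y by simpa using hx⟩, rfl⟩
  have s2 : Surjective p2 := fun h => ⟨⟨(h, h), rfl⟩, rfl⟩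
  have mz : ∀ x : Γ, p1 x ∈ H → ((p2 x : G))⁻¹ * p1 x ∈ Z := fun x hx =>
    a.le ⟨QuotientGroup.eq.1 (Eq.symm x.2), H.mul_mem (H.inv_mem (p2 x).2) hx⟩
  let μ : H.comap p1 →* ℂ := ⟨⟨fun x => ω (((p2 x : G))⁻¹ * p1 x), by simp [w0]⟩, fun x y => by
    simp only [coe_mul, map_mul]
    rw [← w2 (_ * p1 x) ((p2 y : G))⁻¹, ← w1 _ _ (mz y y.2)]; congr 1; group⟩
  have iμ := isIrr_of_monoidHom μ
  have c2 := cθ.comp p2
  have i1 := hχ.comp_of_surjective p1 s1
  have e2 : (fun x => χ (p1 x)) = indFun (H.comap p1) (fun x => μ x) * fun x => θ (p2 x) := by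
    rw [← indFun_mul_restrict _ c2.isClassFunction]
    funext x
    rw [← e1, ind_comp p1 (fun g => let ⟨a, h⟩ := s1 g; ⟨a, by simp [h]⟩) cθ.isClassFunction x]
    congr 1; funext y
    rw [Pi.mul_apply, mul_comm]
    exact (congrArg θ (Subtype.ext (by simp))).trans (w3 (p2 y) ⟨_, lZ (mz y y.2)⟩ (mz y y.2))
  have iY := irr_of_mul iμ.isCharacter.ind c2 (e2 ▸ i1)
  have lL : Z.comap p1 ≤ H.comap p1 := comap_mono lZ
  have iL : IsIrrCharacter _ (resLE lL fun x => μ x) :=
    (iμ.isCharacter.resLE lL).isIrr_of_apply_one (map_one μ)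
  obtain ⟨M, nM, lM, hM⟩ := not_hm lL (isCoatom_comap_of_surjective s1 hH) inferInstance iμ iL iY
  obtain ⟨T, hT, lT, ν, iν, eν⟩ := exists_ind_of_not_hm iY hM
  have cc : charCenter (fun x => χ (p1 x)) = Z.comap p1 := Subgroup.ext fun x => by
    rw [i1.isCharacter.mem_charCenter, map_one, mem_comap, cχ.mem_charCenter]
  have := berger1 ih i1 (by rw [cc, index_comap_of_surjective _ s1, hn])
    (fun N nN => (hq _ (nN.map _ s1)).comp p1) hT (iν.isCharacter.mul (c2.restrict T))
    (by rw [indFun_mul_restrict _ c2.isClassFunction, eν, e2]) lT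
  obtain rfl : M = Z.comap p1 := le_antisymm (cc ▸ this) lM
  refine hM (hm_of_inv iY iL (over_trans lL iY.isCharacter iμ iL ?_ (by simp [iL.classInner_self]))
    fun g => funext fun x => ?_)
  · rw [← classInner_indFun_right _ iY.isClassFunction, iY.classInner_self]; simp
  have m2 : ((p2 x : G))⁻¹ ∈ Z := (Z.mul_mem_cancel_right x.2).1 (mz x (lL x.2))
  show ω (((p2 (g * x * g⁻¹) : G))⁻¹ * p1 (g * x * g⁻¹)) = ω (((p2 x : G))⁻¹ * p1 x)
  have x2 : p1 x ∈ Z := x.2
  rw [w1 _ _ x2, ← w2 ((p2 x : G))⁻¹ (p2 g), ← w2 (p1 x) (p1 g),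
    ← w1 _ _ (Normal.conj_mem inferInstance _ x2 _)]
  simp [mul_assoc]

end CfsgCd
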