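import Cfsg.Agent.H3.Cd2
import Cfsg.Agent.H3.Brauer

/-! Going down, relative M-groups, Dade's theorem. -/

set_option autoImplicit false
set_option linter.unusedSectionVars false

open Cfsg CfsgH3 CfsgH4 CfsgH1 Function Subgroup
open CfsgH2 hiding cj cj_apply isPGroup_pCore le_pCore isNilpotent_map card_mul_relIndex
open scoped ComplexConjugate commutatorElement CfsgH2

namespace CfsgCd

universe u

variable {G : Type*} [Group G] {χ ψ ξ : G → ℂ} {H K L M : Subgroup G} {e p : ℕ}

theorem res_irr_of_lin [Finite G] [L.Normal] (hχ : IsIrrCharacter G χ) (hL : commutator G ≤ L)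
    (h : ∀ β : G → ℂ, IsCharacter G β → β 1 = 1 → (∀ n ∈ L, β n = 1) → β * χ = χ → β = fun _ => 1) :
    IsIrrCharacter L fun n => χ n := by
  classical
  haveI := Fintype.ofFinite G
  haveI := Fintype.ofFinite L
  refine (hχ.isCharacter.restrict L).isIrr_of_inner_eq_one ?_
  rw [← classInner_indFun_left _ hχ.isClassFunction, indFun_restrict hχ.isClassFunction,
    classInner_mul_left, (isClassFunction_indFun _).classInner_eq_sum_irr,
    Finset.sum_eq_single (⟨fun _ => 1, isIrr_one⟩ : IrrCharacter G) ?_ (by simp)]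
  · rw [← classInner_mul_left]
    show classInner (indFun L fun _ => 1) (fun _ => 1) * classInner ((fun _ => 1) * χ) χ = 1
    rw [classInner_indFun_one_of_le_ker isIrr_one (fun _ _ => rfl), const_one_mul, hχ.classInner_self, one_mul]
  · intro β _ hβ
    by_contra h0
    obtain ⟨h1, h2⟩ := mul_ne_zero_iff.1 h0
    have h3 := (classInner_indFun_one_ne_zero_iff β.2).1 h1
    have h4 : β.1 1 = 1 := lin_of_comm β.2 fun g hg => h3 g (hL hg)
    rw [← classInner_mul_left] at h2
    obtain ⟨l, hl⟩ := β.2.isCharacter.exists_monoidHom h4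
    have h5 : IsIrrCharacter G (β.1 * χ) := by
      rw [hl]
      exact isIrr_lin_mul hχ l
    exact hβ (Subtype.ext (h _ β.2.isCharacter h4 (fun n hn => (h3 n hn).trans h4)
      (h5.eq_of_classInner_ne_zero hχ h2)))

theorem going_down [Finite G] [hK : K.Normal] [L.Normal] (hLK : L ≤ K)
    (hchief : ∀ M : Subgroup G, M.Normal → L ≤ M → M ≤ K → M = L ∨ M = K) (hab : ⁅K, K⁆ ≤ L)
    {ϑ : K → ℂ} (hϑ : IsIrrCharacter K ϑ) (hinv : ∀ g : G, cj g ϑ = ϑ) :
    IsIrrCharacter L (resLE hLK ϑ) ∨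
      (∃ (φ : L → ℂ) (e : ℕ), IsIrrCharacter L φ ∧ resLE hLK ϑ = (e : ℂ) • φ ∧ e ^ 2 = L.relIndex K) ∨
      ∃ F : Finset (L → ℂ), (∀ φ ∈ F, IsIrrCharacter L φ) ∧ F.card = L.relIndex K ∧
        resLE hLK ϑ = ∑ φ ∈ F, φ := by
  classical
  haveI := Fintype.ofFinite K
  haveI := Fintype.ofFinite L
  haveI := Fintype.ofFinite (L.subgroupOf K)
  let S : Set G := {g | ∃ h : g ∈ K, ϑ ⟨g, h⟩ ≠ 0}
  have hSn : (closure S).Normal := by
    refine normal_of_top_le_norm fun g _ => mem_norm_of_map_le ?_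
    rw [MonoidHom.map_closure, closure_le]
    rintro _ ⟨s, ⟨hs, h0⟩, rfl⟩
    exact subset_closure ⟨hK.conj_mem s hs g, by
      have := congrFun (hinv g) ⟨s, hs⟩
      rw [CfsgH3.cj_apply] at this
      exact fun h => h0 (this.symm.trans h)⟩
  have hSK : closure S ≤ K := (closure_le K).2 fun g hg => hg.1
  have hcomm : commutator K ≤ L.subgroupOf K := by
    rw [commutator_def, commutator_le]
    intro a _ b _
    exact hab (commutator_mem_commutator a.2 b.2)
  rcases hchief (L ⊔ closure S) inferInstance le_sup_left (sup_le hLK hSK) with hV | hV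
  swap
  · left
    rw [← isIrr_subOf_iff hLK, subOf_resLE]
    refine res_irr_of_lin hϑ hcomm fun β hβ h1 h2 h3 => ?_
    obtain ⟨l, rfl⟩ := hβ.exists_monoidHom h1
    have : K ≤ l.ker.map K.subtype := by
      refine hV.ge.trans (sup_le (fun x hx => ⟨⟨x, hLK hx⟩, Units.ext (h2 _ hx), rfl⟩) ((closure_le _).2 ?_))
      rintro x ⟨hx, h0⟩
      exact ⟨⟨x, hx⟩, Units.ext (mul_right_cancel₀ h0 ((congrFun h3 ⟨x, hx⟩).trans (one_mul _).symm)), rfl⟩
    funext x
    obtain ⟨y, hy, e⟩ := this x.2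
    rw [← (Subtype.ext e : y = x), (hy : l y = 1), Units.val_one]
  right
  have h0 : ∀ g : K, g ∉ L.subgroupOf K → ϑ g = 0 := by
    intro g hg
    by_contra h
    exact hg (hV.le (mem_sup_right (subset_closure ⟨g.2, h⟩)))
  obtain ⟨φ', hφ', hc'⟩ := hϑ.exists_irr_under (H := L.subgroupOf K)
  obtain ⟨φ, rfl⟩ := exists_subOf hLK φ'
  have hφ := (isIrr_subOf_iff hLK).1 hφ'
  have hc : classInner (resLE hLK ϑ) φ ≠ 0 := by rwa [← inner_subOf]
  have hLT : L ≤ K ⊓ inertia φ := le_inf hLK (le_inertia hφ.isClassFunction)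
  have hnorm : (K ⊓ inertia φ).Normal := by
    refine normal_of_top_le_norm fun g _ => ?_
    have h1 : classInner (resLE hLK ϑ) (cj g⁻¹ φ) ≠ 0 := by
      have : cj g (resLE hLK ϑ) = resLE hLK ϑ := by
        funext n
        exact congrFun (hinv g) ⟨n, hLK n.2⟩
      rwa [← classInner_cj g, this, cj_cj, inv_mul_cancel, cj_one]
    obtain ⟨t, ht, e⟩ := cj_of_under hLK hϑ hφ (hφ.cj g⁻¹) hc h1
    have h2 : t * g ∈ inertia φ := by
      have := cj_eq_cj_iff.1 e.symm
      rwa [inv_inv] at this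
    have h3 : K ≤ N[K ⊓ inertia φ] := le_norm_of_commutator_le (hab.trans hLT) inf_le_left
    have h4 : inertia φ ≤ N[K ⊓ inertia φ] :=
      le_norm_inf (le_top.trans (top_le_norm_iff.2 hK)) le_normalizer
    have := Subgroup.mul_mem _ (h3 (K.inv_mem ht)) (h4 h2)
    rwa [inv_mul_cancel_left] at this
  rcases hchief _ hnorm hLT inf_le_left with hT | hT
  · right
    have hin : inertia (subOf K φ) ≤ L.subgroupOf K := by
      intro t ht
      rw [mem_inertia, cj_subOf] at ht
      exact hT.le ⟨t.2, subOf_injective hLK ht⟩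
    have hi := isIrr_indFun_of_inertia_le hφ' hin
    have h1 : classInner (fun x : L.subgroupOf K => ϑ x) (subOf K φ) = 1 := by
      rw [← classInner_indFun_right _ hϑ.isClassFunction] at hc' ⊢
      rw [hϑ.eq_of_classInner_ne_zero hi hc', hi.classInner_self]
    have h2 := clifford hϑ hφ' hc'
    rw [h1, one_smul] at h2
    let e := (subgroupOfEquivOfLe hLK).symm
    have hinj : Injective fun (ψ : L.subgroupOf K → ℂ) (x : L) => ψ (e x) := fun a b h =>
      funext fun y => by simpa using congrFun h (e.symm y)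
    refine ⟨(cjOrbit (subOf K φ)).map ⟨_, hinj⟩, ?_, ?_, ?_⟩
    · intro ψ hψ
      obtain ⟨η, hη, rfl⟩ := Finset.mem_map.1 hψ
      obtain ⟨g, rfl⟩ := mem_cjOrbit.1 hη
      exact (hφ'.cj g).comp_equiv e
    · rw [Finset.card_map, card_cjOrbit, le_antisymm hin (le_inertia hφ'.isClassFunction)]
      rfl
    · rw [Finset.sum_map]
      funext x
      have := congrFun h2 (e x)
      rw [Finset.sum_apply] at this ⊢
      exact this
  · left
    have h1 := resLE_eq_smul hLK hϑ hφ (hT.ge.trans inf_le_right) hc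
    obtain ⟨n, hn⟩ := (hϑ.isCharacter.resLE hLK).exists_nat_classInner hφ.isCharacter
    rw [hn] at h1
    refine ⟨φ, n, hφ, h1, ?_⟩
    have := sq_of_res hϑ hφ' (c := n) (fun x => congrFun h1 ⟨x.1, x.2⟩) h0
    rw [Complex.norm_natCast] at this
    exact_mod_cast this

def NSq {G : Type*} [Group G] (N : Subgroup G) : Prop :=
  ∀ (H K L : Subgroup G), N ≤ L → L < K → K ≤ H → (∀ h ∈ H, ∀ k ∈ K, h * k * h⁻¹ ∈ K) →
    (∀ h ∈ H, ∀ l ∈ L, h * l * h⁻¹ ∈ L) →
    (∀ M : Subgroup G, L ≤ M → M ≤ K → (∀ h ∈ H, ∀ m ∈ M, h * m * h⁻¹ ∈ M) → M = L ∨ M = K) →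
    ¬ IsSquare (L.relIndex K)

theorem NSq.sub {A T : Subgroup G} (h : NSq A) (hT : A ≤ T) : NSq (A.subgroupOf T) := by
  intro H K L h1 h2 h3 h4 h5 h6
  have hi := T.subtype_injective
  rw [← relIndex_map_map_of_injective L K hi]
  refine h (H.map T.subtype) _ _ (fun a ha => ⟨⟨a, hT ha⟩, h1 ha, rfl⟩) ((map_lt_map_iff_of_injective hi).2 h2)
    (Subgroup.map_mono h3) ?_ ?_ ?_
  · rintro _ ⟨a, ha, rfl⟩ _ ⟨b, hb, rfl⟩
    exact ⟨_, h4 a ha b hb, rfl⟩
  · rintro _ ⟨a, ha, rfl⟩ _ ⟨b, hb, rfl⟩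
    exact ⟨_, h5 a ha b hb, rfl⟩
  · intro M a b c
    have hM : (M.subgroupOf T).map T.subtype = M :=
      map_subgroupOf_eq_of_le (b.trans (map_subtype_le K))
    rw [← hM]
    refine (h6 (M.subgroupOf T) (map_le_iff_le_comap.1 a) (fun x hx => ?_)
      (fun x hx y hy => c x ⟨x, hx, rfl⟩ y hy)).imp (congrArg _) (congrArg _)
    obtain ⟨y, hy, e⟩ := b hx
    rwa [← (Subtype.ext e : y = x)]

theorem comm_le_of_chief [K.Normal] [L.Normal] (hLK : L < K) (hs : Group.IsSolvable (G ⧸ L))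
    (hchief : ∀ M : Subgroup G, M.Normal → L ≤ M → M ≤ K → M = L ∨ M = K) : ⁅K, K⁆ ≤ L := by
  rcases hchief (L ⊔ ⁅K, K⁆) inferInstance le_sup_left (sup_le hLK.le (commutator_le_self K)) with h | h
  · exact le_sup_right.trans h.le
  exfalso
  have h1 : K.map (QuotientGroup.mk' L) ≠ ⊥ := by
    rw [Ne, Subgroup.map_eq_bot_iff, QuotientGroup.ker_mk']
    exact not_le_of_gt hLK
  refine (IsSolvable.commutator_lt_of_ne_bot h1).ne ?_
  rw [← map_commutator]
  conv_rhs => rw [← h, Subgroup.map_sup, (Subgroup.map_eq_bot_iff L).2 (QuotientGroup.ker_mk' L).ge, bot_sup_eq]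

theorem relM (n : ℕ) : ∀ (G : Type u) [Group G] [Fintype G] (A : Subgroup G) [A.Normal], Nat.card G ≤ n →
    Group.IsSolvable (G ⧸ A) → NSq A → ∀ χ, IsIrrCharacter G χ →
    ∃ (H : Subgroup G) (h : A ≤ H) (ψ : H → ℂ), IsIrrCharacter H ψ ∧ indFun H ψ = χ ∧
      IsIrrCharacter A (resLE h ψ) := by
  induction n with
  | zero => intro G _ _ A _ h; exact absurd h (Nat.not_le.2 Nat.card_pos)
  | succ n ih =>
    intro G _ _ A _ hn hs hq χ hχ
    classical
    have htop : IsIrrCharacter (⊤ : Subgroup G) fun x => χ x := hχ.comp_equiv topEquiv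
    obtain ⟨K, -, ⟨hK, hAK, hKi⟩, hmin⟩ := exists_minimal_le
      (fun K : Subgroup G => K.Normal ∧ A ≤ K ∧ IsIrrCharacter K fun x => χ x) (H := ⊤) ⟨inferInstance, le_top, htop⟩
    by_cases hKA : K = A
    · subst hKA
      exact ⟨⊤, le_top, _, htop, indFun_top hχ.isClassFunction, hKi⟩
    obtain ⟨L, hAL, ⟨hL, hLK⟩, hmax⟩ := exists_maximal_ge (fun L : Subgroup G => L.Normal ∧ L < K) (H := A)
      ⟨inferInstance, lt_of_le_of_ne hAK (Ne.symm hKA)⟩
    have hchief : ∀ M : Subgroup G, M.Normal → L ≤ M → M ≤ K → M = L ∨ M = K := fun M a b c =>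
      (eq_or_lt_of_le c).symm.imp (fun h => hmax M ⟨a, h⟩ b) id
    have hhm : ¬ Hm L χ := by
      haveI := Fintype.ofFinite L
      rcases going_down hLK.le hchief (comm_le_of_chief hLK (sol_quot hAL hs) hchief) hKi
        (cj_restrict hχ.isClassFunction) with h | ⟨φ, e, -, -, h⟩ | ⟨F, h1, h2, h3⟩
      · exact absurd (hmin L ⟨hL, hAL, h⟩ hLK.le) hLK.ne
      · refine absurd ⟨e, by rw [← h, pow_two]⟩ (hq ⊤ K L hAL hLK le_top (fun g _ k hk => hK.conj_mem k hk g)
          (fun g _ k hk => hL.conj_mem k hk g) fun M a b c => hchief M ⟨fun m hm g => c g (mem_top g) m hm⟩ a b)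
      · rintro ⟨φ, e, hφ, he⟩
        have hF : ∀ θ ∈ F, θ = φ := by
          intro θ hθ
          have h4 : classInner (∑ φ ∈ F, φ) θ = 1 := by
            rw [classInner_sum_left, Finset.sum_eq_single θ
              (fun b hb hne => (h1 b hb).classInner_of_ne (h1 θ hθ) hne) (fun h => absurd hθ h),
              (h1 θ hθ).classInner_self]
          rw [← h3, resLE_restrict, he, classInner_smul_left] at h4
          exact (hφ.eq_of_classInner_ne_zero (h1 θ hθ) (right_ne_zero_of_mul_eq_one h4)).symm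
        have h5 : F.card ≤ 1 := Finset.card_le_one.2 fun a ha b hb => (hF a ha).trans (hF b hb).symm
        have := relIndex_pos L K
        exact not_le_of_gt hLK (relIndex_eq_one.1 (by omega))
    obtain ⟨T, hT, hLT, η, hη, rfl⟩ := exists_ind_of_not_hm hχ hhm
    haveI := Fintype.ofFinite T
    have hAT := hAL.trans hLT
    have hs' : Group.IsSolvable (T ⧸ A.subgroupOf T) :=
      solvable_of_solvable_injective (f := QuotientGroup.map _ A T.subtype le_rfl) (by
        rw [injective_iff_map_eq_one]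
        intro q hq
        induction q using QuotientGroup.induction_on with
        | H t => exact (QuotientGroup.eq_one_iff t).2 ((QuotientGroup.eq_one_iff (t : G)).1 hq))
    obtain ⟨H, h1, ψ, h2, h3, h4⟩ := ih T (A.subgroupOf T)
      (Nat.lt_succ_iff.1 (lt_of_lt_of_le (CfsgH2.card_lt_of_ne_top hT) hn)) hs' (hq.sub hAT) η hη
    refine ⟨H.map T.subtype, fun a ha => ⟨⟨a, hAT ha⟩, h1 ha, rfl⟩, _, h2.comp_equiv
      (H.equivMapOfInjective T.subtype T.subtype_injective).symm, by rw [← indFun_indFun', h3], ?_⟩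
    rw [← isIrr_subOf_iff hAT]
    convert h4 using 1
    funext x
    refine congrArg ψ ?_
    rw [MulEquiv.symm_apply_eq]
    rfl

def AbP {G : Type*} [Group G] (A : Subgroup G) : Prop :=
  ∀ p : ℕ, p.Prime → ∀ P ≤ A, IsPGroup p P → ∀ a ∈ P, ∀ b ∈ P, a * b = b * a

theorem mono_of_res (n : ℕ) : ∀ (G : Type u) [Group G] [Fintype G] [Group.IsSolvable G] (A : Subgroup G)
    [A.Normal], Nat.card G ≤ n → AbP A → ∀ χ, IsIrrCharacter G χ → (IsIrrCharacter A fun x => χ x) →
    IsMonomial χ := by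
  induction n with
  | zero => intro G _ _ _ A _ h; exact absurd h (Nat.not_le.2 Nat.card_pos)
  | succ n ih =>
    intro G _ _ _ A _ hn hA χ hχ hr
    by_cases hind : ∃ T : Subgroup G, T ≠ ⊤ ∧ ∃ ψ : T → ℂ, IsIrrCharacter T ψ ∧ indFun T ψ = χ
    · obtain ⟨T, hT, ψ, hψ, rfl⟩ := hind
      haveI := Fintype.ofFinite T
      haveI := Fintype.ofFinite A
      haveI := Fintype.ofFinite (A ⊓ T : Subgroup G)
      haveI := Fintype.ofFinite ((A ⊓ T).subgroupOf T)
      haveI := Fintype.ofFinite ((A ⊓ T).subgroupOf A)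
      haveI : ((A ⊓ T).subgroupOf T).Normal := by rw [inf_subgroupOf_right]; infer_instance
      refine IsMonomial.ind (ih T ((A ⊓ T).subgroupOf T)
        (Nat.lt_succ_iff.1 (lt_of_lt_of_le (CfsgH2.card_lt_of_ne_top hT) hn)) ?_ ψ hψ ?_)
      · intro p hp P hP hp' a ha b hb
        exact Subtype.ext (hA p hp (P.map T.subtype) (map_le_iff_le_comap.2 fun x hx => (hP hx).1)
          (hp'.map _) _ ⟨a, ha, rfl⟩ _ ⟨b, hb, rfl⟩)
      obtain ⟨μ', hμ', hc'⟩ := hψ.exists_irr_under (H := (A ⊓ T).subgroupOf T)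
      obtain ⟨μ, rfl⟩ := exists_subOf inf_le_right μ'
      have hμ := (isIrr_subOf_iff inf_le_right).1 hμ'
      have h1 : classInner (fun x : T => indFun T ψ x) ψ ≠ 0 := by
        rw [← classInner_indFun_right _ hχ.isClassFunction, hχ.classInner_self]
        exact one_ne_zero
      have h2 := over_trans inf_le_right hχ.isCharacter hψ hμ h1 (by rwa [← inner_subOf])
      have h3 := deg_le_index_mul (H := (A ⊓ T).subgroupOf A) ((isCharacter_subOf_iff inf_le_left).2 hμ.isCharacter)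
        hr ((inner_subOf inf_le_left (fun x : A => indFun T ψ x) μ).trans_ne h2)
      have h4 : ((A ⊓ T).subgroupOf A).index ≤ T.index := by
        rw [inf_subgroupOf_left, ← relIndex_top_right T]
        exact relIndex_le_of_le_right le_top (relIndex_pos _ _).ne'
      have h5 : charDegree (fun x : A => indFun T ψ x) = T.index * charDegree ψ := by
        rw [← deg_indFun hψ.isCharacter]
        exact charDegree_eq (coe_charDegree hχ.isCharacter).symm
      have h6 : charDegree ψ ≤ charDegree (subOf T μ) := by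
        rw [h5] at h3
        exact Nat.le_of_mul_le_mul_left (h3.trans (Nat.mul_le_mul_right _ h4)) (index_pos T)
      have h7 := deg_le_of_under hμ' hψ.isCharacter hc'
      rw [(hψ.isCharacter.restrict _).eq_of_constituent_of_apply_one hμ' hc' ?_]
      · exact hμ'
      · rw [← coe_charDegree hμ'.isCharacter, ← le_antisymm h6 h7, coe_charDegree hψ.isCharacter]
        rfl
    refine isMonomial_of_apply_one hχ.isCharacter (hr.apply_one_of_commutator fun a b => ?_)
    haveI := hχ.isCharacter.charKer_normal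
    let π := QuotientGroup.mk' (charKer χ)
    haveI : (A.map π).Normal := Subgroup.Normal.map inferInstance _ (QuotientGroup.mk'_surjective _)
    have key : ∀ (p : ℕ) [Fact p.Prime], O[{p}, A.map π] ≤ center _ := by
      intro p hp
      obtain ⟨P, hP⟩ := exists_syl p A
      have hle : O[{p}, A.map π] ≤ P.map π :=
        (hP.map π).le_of_norm isPGroup_piCoreOf piCoreOf_le ((hP.map π).le.trans le_norm_piCoreOf)
      have hc : (O[{p}, A.map π]).comap π ≤ charCenter χ := by
        by_contra hc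
        obtain ⟨T, hT, -, h⟩ := hχ.exists_proper_ind _ (fun a ha b hb => by
          obtain ⟨a', ha', ea⟩ := hle ha
          obtain ⟨b', hb', eb⟩ := hle hb
          refine hχ.isCharacter.mem_charKer.1 ((QuotientGroup.eq_one_iff _).1 ?_)
          show π (a * b * a⁻¹ * b⁻¹) = 1
          simp only [map_mul, map_inv]
          rw [← ea, ← eb, ← map_mul, hA p hp.out P hP.le hP.pg _ ha' _ hb', map_mul]
          group) hc
        exact hind ⟨T, hT, h⟩
      intro z hz
      obtain ⟨z, rfl⟩ := QuotientGroup.mk'_surjective _ z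
      rw [mem_center_iff]
      intro g
      obtain ⟨g, rfl⟩ := QuotientGroup.mk'_surjective _ g
      have := (QuotientGroup.eq_one_iff _).2 (hχ.isCharacter.commutator_mem_charKer (hc hz) g)
      rw [← commutatorElement_eq_one_iff_mul_comm]
      exact this
    have hF : F[A.map π] ≤ center _ := fit_le_of_cores fun p _ _ => key p
    have hle : A.map π ≤ center _ := le_trans (le_trans (le_inf le_rfl
      (le_centralizer_iff.1 (hF.trans (center_le_centralizer _)))) (cent_fit_le inferInstance)) hF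
    refine hχ.isCharacter.mem_charKer.1 ((QuotientGroup.eq_one_iff _).1 ?_)
    show π ((a : G) * b * (a : G)⁻¹ * (b : G)⁻¹) = 1
    simp only [map_mul, map_inv]
    rw [mem_center_iff.1 (hle ⟨b, b.2, rfl⟩)]
    group

def swapEq (A E : Subgroup G) : A.subgroupOf E ≃* E.comap A.subtype where
  toFun x := ⟨⟨x.1.1, x.2⟩, x.1.2⟩
  invFun x := ⟨⟨x.1.1, x.2⟩, x.1.2⟩
  left_inv _ := rfl
  right_inv _ := rfl
  map_mul' _ _ := rfl

theorem inner_res_ind [Fintype G] {A E : Subgroup G} [A.Normal] [Fintype A] [Fintype (A.subgroupOf E)]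
    (h : E ⊔ A = ⊤) {η : E → ℂ} (hη : IsClassFunction E η) {a b : A → ℂ} (ha : IsClassFunction A a)
    (hb : IsClassFunction A b) :
    classInner ((fun n : A => indFun E η n) * a) b =
      classInner ((fun x : A.subgroupOf E => η x) * subOf E a) (subOf E b) := by
  haveI := Fintype.ofFinite (E.comap A.subtype)
  have e : (fun n : A => indFun E η n) = indFun (E.comap A.subtype) fun x => η ⟨A.subtype x, x.2⟩ :=
    funext fun n => ind_comp A.subtype (fun g => by
      obtain ⟨x, hx, y, hy, rfl⟩ := (mem_sup_of_norm' (H := A) (K := E)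
        (le_top.trans (top_le_norm_iff.2 inferInstance))).1 (by rw [sup_comm, h]; exact mem_top g)
      exact ⟨⟨x, hx⟩, by simpa using hy⟩) hη n
  rw [e, ← indFun_mul_restrict _ ha, classInner_indFun_left _ hb,
    ← classInner_comp_equiv (swapEq A E).toEquiv]
  rfl

theorem inner_res_ind_le [Fintype G] {A : Subgroup G} [A.Normal] [Fintype A] (h : A ≤ M) (η : M → ℂ)
    {ϑ : A → ℂ} (hinv : ∀ g : G, cj g ϑ = ϑ) :
    classInner ((fun n : A => indFun M η n) * ϑ) ϑ = M.index * classInner (resLE h η * ϑ) ϑ := by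
  have e : (fun n : A => indFun M η n) * ϑ = (Nat.card M : ℂ)⁻¹ • ∑ g : G, cj g (resLE h η * ϑ) := by
    funext n
    rw [Pi.mul_apply, indFun_apply', Pi.smul_apply, Finset.sum_apply, smul_eq_mul, mul_assoc, Finset.sum_mul]
    congr 1
    refine Finset.sum_congr rfl fun g _ => ?_
    rw [extendByZero_of_mem _ (h (Subgroup.Normal.conj_mem inferInstance _ n.2 g)), ← congrFun (hinv g) n]
    rfl
  have e2 : ∀ g : G, classInner (cj g (resLE h η * ϑ)) ϑ = classInner (resLE h η * ϑ) ϑ := fun g => by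
    rw [← classInner_cj g (resLE h η * ϑ) ϑ, hinv g]
  rw [e, classInner_smul_left, classInner_sum_left, Finset.sum_congr rfl fun g _ => e2 g, Finset.sum_const,
    Finset.card_univ, ← Nat.card_eq_fintype_card, ← M.index_mul_card, nsmul_eq_mul, Nat.cast_mul]
  have := natCard_ne_zero M
  field_simp

theorem dade {G : Type u} [Group G] [Fintype G] [hp : Fact p.Prime] {A : Subgroup G} [A.Normal]
    (hA : IsPGroup p (G ⧸ A)) {ϑ : A → ℂ} (hϑ : IsIrrCharacter A ϑ) (hinv : ∀ g : G, cj g ϑ = ϑ) :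
    ∃ (E : Subgroup G) (β : A.subgroupOf E → ℂ) (_ : Fintype (A.subgroupOf E)), IsElementary p E ∧ E ⊔ A = ⊤ ∧
      IsIrrCharacter _ β ∧ (∀ g : E, cj g β = β) ∧ ∃ m : ℕ, ¬ p ∣ m ∧ classInner (subOf E ϑ) β = m := by
  classical
  haveI := Fintype.ofFinite A
  by_contra hcon
  push Not at hcon
  obtain ⟨m, hm, hs⟩ := exists_const_mem_indSpan (G := G) hp.out
  have key : ∀ f ∈ indSpan G (fun E => IsElementary p E),
      ∃ z : ℤ, classInner ((fun n : A => f n) * ϑ) ϑ = (p * z : ℤ) := by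
    intro f hf
    induction hf using Submodule.span_induction with
    | zero =>
      refine ⟨0, ?_⟩
      rw [show (fun n : A => (0 : G → ℂ) n) * ϑ = 0 from zero_mul ϑ, classInner_zero_left]
      simp
    | add a b _ _ ha hb =>
      obtain ⟨x, hx⟩ := ha
      obtain ⟨y, hy⟩ := hb
      refine ⟨x + y, ?_⟩
      rw [mul_add, Int.cast_add, ← hx, ← hy, ← classInner_add_left, ← add_mul]
      rfl
    | smul c a _ ha =>
      obtain ⟨x, hx⟩ := ha
      refine ⟨c * x, ?_⟩
      rw [mul_left_comm, Int.cast_mul, ← hx, ← classInner_zsmul_left, ← smul_mul_assoc]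
      rfl
    | mem f hf =>
      obtain ⟨E, hE, η, hη, rfl⟩ := hf
      by_cases hM : E ⊔ A = ⊤
      swap
      · haveI := Fintype.ofFinite (E ⊔ A : Subgroup G)
        rw [← indFun_indFun_subOf le_sup_left (T := E ⊔ A), inner_res_ind_le le_sup_right _ hinv]
        obtain ⟨n, hn⟩ := ((((isCharacter_subOf_iff (T := E ⊔ A) le_sup_left).2 hη).ind.resLE
          le_sup_right).mul hϑ.isCharacter).exists_nat_classInner hϑ.isCharacter
        obtain ⟨k, hk⟩ := IsPGroup.iff_card.1 hA
        obtain ⟨j, -, hj⟩ := (Nat.dvd_prime_pow hp.out).1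
          ((index_dvd_of_le (le_sup_right : A ≤ E ⊔ A)).trans (dvd_of_eq hk))
        rcases j with _ | j
        · exact absurd (index_eq_one.1 hj) hM
        · refine ⟨(p ^ j * n : ℕ), ?_⟩
          rw [hn, hj]
          push_cast
          ring
      haveI := Fintype.ofFinite (A.subgroupOf E)
      haveI := Fintype.ofFinite E
      rw [inner_res_ind hM hη.isClassFunction hϑ.isClassFunction hϑ.isClassFunction]
      have hc : IsCharacter _ (subOf E ϑ) := hϑ.isCharacter.comp
        ((E.subtype.comp (A.subgroupOf E).subtype).codRestrict A fun x => x.2)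
      have hc' := (hη.restrict (A.subgroupOf E)).mul hc
      have hci : ∀ g : E, cj g (subOf E ϑ) = subOf E ϑ := fun g => by rw [cj_subOf, hinv]
      have hci' : ∀ g : E, cj g ((fun x : A.subgroupOf E => η x) * subOf E ϑ) =
          (fun x : A.subgroupOf E => η x) * subOf E ϑ := fun g => by
        rw [← cj_restrict hη.isClassFunction g, ← hci g, cj_restrict hη.isClassFunction g, hci g]
        conv_rhs => rw [← cj_restrict hη.isClassFunction g, ← hci g]
        rfl
      let a : (A.subgroupOf E → ℂ) → ℕ := fun β => ⌊(classInner (subOf E ϑ) β).re⌋₊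
      let b : (A.subgroupOf E → ℂ) → ℕ := fun β =>
        ⌊(classInner ((fun x : A.subgroupOf E => η x) * subOf E ϑ) β).re⌋₊
      have ha : ∀ β, IsIrrCharacter _ β → classInner (subOf E ϑ) β = a β := fun β hβ => by
        obtain ⟨n, hn⟩ := hc.exists_nat_classInner hβ.isCharacter
        simp [a, hn]
      have hb : ∀ β, IsIrrCharacter _ β →
          classInner ((fun x : A.subgroupOf E => η x) * subOf E ϑ) β = b β := fun β hβ => by
        obtain ⟨n, hn⟩ := hc'.exists_nat_classInner hβ.isCharacter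
        simp [b, hn]
      have hq : IsPGroup p (E ⧸ A.subgroupOf E) := hA.of_injective (QuotientGroup.map _ A E.subtype le_rfl) (by
        rw [injective_iff_map_eq_one]
        intro q hq
        induction q using QuotientGroup.induction_on with
        | H t => exact (QuotientGroup.eq_one_iff t).2 ((QuotientGroup.eq_one_iff (t : G)).1 hq))
      have h1 := dvd_sum_not_inv hq (fun β => (b β * a β : ℕ)) fun g β _ => by
        simp only [a, b]
        rw [← classInner_cj g (subOf E ϑ) β, ← classInner_cj g (_ * _) β, hci, hci']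
      have h2 : (p : ℤ) ∣ ∑ β : IrrCharacter (A.subgroupOf E) with ∀ g, cj g β.1 = β.1, ((b β * a β : ℕ) : ℤ) := by
        refine Finset.dvd_sum fun β hβ => Int.natCast_dvd_natCast.2 (Dvd.dvd.mul_left ?_ _)
        by_contra h
        exact hcon E β.1 _ hE hM β.2 (Finset.mem_filter.1 hβ).2 _ h (ha _ β.2)
      obtain ⟨z, hz⟩ := dvd_add h2 h1
      rw [Finset.sum_filter_add_sum_filter_not] at hz
      refine ⟨z, ?_⟩
      rw [← hz, hc'.isClassFunction.classInner_eq_sum_irr]
      push_cast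
      refine Finset.sum_congr rfl fun β _ => ?_
      rw [hb _ β.2, β.2.isCharacter.classInner_comm hc, ha _ β.2]
  obtain ⟨z, hz⟩ := key _ hs
  have : classInner ((fun n : A => (m : ℂ)) * ϑ) ϑ = m := by
    rw [show (fun n : A => (m : ℂ)) * ϑ = (m : ℂ) • ϑ from rfl, classInner_smul_left, hϑ.classInner_self, mul_one]
  exact hm ⟨z, Int.cast_injective (this.symm.trans hz)⟩

theorem mem_of_pow_pow {x : G} {a b : ℕ} (h : a.Coprime b) (h1 : x ^ a ∈ H) (h2 : x ^ b ∈ H) : x ∈ H := by
  have := H.mul_mem (H.zpow_mem h1 (a.gcdA b)) (H.zpow_mem h2 (a.gcdB b))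
  rwa [← zpow_natCast, ← zpow_natCast, ← zpow_mul, ← zpow_mul, ← zpow_add, ← Nat.gcd_eq_gcd_ab, h,
    Nat.cast_one, zpow_one] at this

theorem dade_ext {G : Type u} [Group G] [Fintype G] [hp : Fact p.Prime] {A P : Subgroup G} [A.Normal]
    (hA : IsPGroup p (G ⧸ A)) (hP : Syl p P ⊤) (hcent : ∀ x ∈ P ⊓ A, ∀ y ∈ P, x * y = y * x)
    (hlin : ∀ lam : (P ⊓ A : Subgroup G) → ℂ, IsCharacter _ lam → lam 1 = 1 →
      ∃ μ : P → ℂ, IsCharacter P μ ∧ μ 1 = 1 ∧ ∀ x : (P ⊓ A : Subgroup G), μ ⟨x, x.2.1⟩ = lam x)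
    {ϑ : A → ℂ} (hϑ : IsIrrCharacter A ϑ) (hinv : ∀ g : G, cj g ϑ = ϑ) :
    ∃ χ, IsIrrCharacter G χ ∧ ∀ n : A, χ n = ϑ n := by
  classical
  haveI := Fintype.ofFinite A
  obtain ⟨E, β, _, ⟨x, hx, hxp, k, hk⟩, hM, hβ, hβi, m, hm, hmi⟩ := dade hA hϑ hinv
  obtain ⟨Q⟩ : Nonempty (Sylow p E) := inferInstance
  haveI : Group.IsNilpotent E := (show IsElementary p E from ⟨x, hx, hxp, k, hk⟩).isNilpotent hp.out
  haveI : (Q : Subgroup E).Normal := Sylow.normal_of_normalizerCondition normalizerCondition_of_isNilpotent Q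
  haveI : (zpowers x).Normal := CfsgH3.normal_of_le_center (zpowers_le.2 hx)
  have cop : (p ^ k).Coprime (Q : Subgroup E).index :=
    ((Nat.Prime.coprime_iff_not_dvd hp.out).2 Q.not_dvd_index).pow_left k
  have c1 : ∀ e : E, e ^ p ^ k ∈ center E := fun e => zpowers_le.2 hx (hk ▸ (zpowers x).pow_index_mem e)
  obtain ⟨g, -, hg⟩ := hP.exists_conj_le (Q.2.map E.subtype) le_top
  have hgP : ∀ y : (Q : Subgroup E), g * y * g⁻¹ ∈ P := fun y => hg (conj_mem_map_cj ⟨y, y.2, rfl⟩)
  have c2 : ∀ d ∈ A.subgroupOf E, d ∈ center E := by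
    intro d hd
    refine mem_of_pow_pow cop (c1 d) (mem_center_iff.2 fun e => mem_centralizer_singleton_iff.1
      (mem_of_pow_pow cop (center_le_centralizer _ (c1 e)) (mem_centralizer_singleton_iff.2 ?_)))
    have := hcent _ ⟨hgP ⟨_, (Q : Subgroup E).pow_index_mem d⟩, Subgroup.Normal.conj_mem inferInstance _
      (A.pow_mem hd _) g⟩ _ (hgP ⟨_, (Q : Subgroup E).pow_index_mem e⟩)
    simp only [conj_mul, mul_left_inj, mul_right_inj] at this
    exact Subtype.ext this.symm
  obtain ⟨l, rfl⟩ := hβ.isCharacter.exists_monoidHom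
    (hβ.apply_one_of_comm fun a b => Subtype.ext (mem_center_iff.1 (c2 _ b.2) _))
  have hl : ∀ (g : E) (n : A.subgroupOf E), l ⟨g * n * g⁻¹, Subgroup.Normal.conj_mem inferInstance _ n.2 g⟩ = l n :=
    fun g n => Units.ext (congrFun (hβi g) n)
  obtain ⟨ν, hν⟩ : ∃ ν : (Q : Subgroup E) →* ℂˣ, ∀ (y : (Q : Subgroup E)) (h : y.1 ∈ A.subgroupOf E),
      ν y = l ⟨y, h⟩ := by
    let B : Subgroup G := (E ⊓ A).map (CfsgH2.cj g) ⊓ P
    have hB : B ≤ P ⊓ A := le_inf inf_le_right
      (inf_le_left.trans (map_cj_le_of_norm inf_le_right (top_le_norm_iff.2 inferInstance (mem_top g))))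
    let f : B →* A.subgroupOf E := MonoidHom.mk'
      (fun b => ⟨⟨g⁻¹ * b * g, (mem_map_cj.1 b.2.1).1⟩, (mem_map_cj.1 b.2.1).2⟩)
      fun a b => Subtype.ext (Subtype.ext (by simp [mul_assoc]))
    haveI := Fintype.ofFinite B
    have hθ := isIrr_of_unitsHom (l.comp f)
    obtain ⟨lam, hlam, hc⟩ := exists_over_LE hB hθ
    have h1 : lam 1 = 1 := hlam.apply_one_of_comm fun a b => Subtype.ext (hcent _ a.2 _ b.2.1)
    have h2 := (hlam.isCharacter.resLE hB).eq_of_constituent_of_apply_one hθ hc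
      (h1.trans (by simp))
    obtain ⟨μ, hμ, hμ1, hμe⟩ := hlin lam hlam.isCharacter h1
    obtain ⟨μ', rfl⟩ := hμ.exists_monoidHom hμ1
    refine ⟨μ'.comp (MonoidHom.mk' (fun y => ⟨_, hgP y⟩) fun a b => Subtype.ext (by simp [mul_assoc])),
      fun y h => Units.ext ?_⟩
    have h3 : g * y * g⁻¹ ∈ B := ⟨conj_mem_map_cj ⟨y.1.2, h⟩, hgP y⟩
    refine (hμe ⟨_, hB h3⟩).trans ((congrFun h2 ⟨_, h3⟩).trans ?_)
    refine congrArg (fun t => (l t : ℂ)) (Subtype.ext (Subtype.ext ?_))
    show g⁻¹ * (g * y * g⁻¹) * g = y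
    group
  obtain ⟨ψ, hψ⟩ : ∃ ψ : E →* ℂˣ, ∀ n : A.subgroupOf E, ψ n = l n := by
    have h1 := index_mem_extExp hl le_rfl l fun _ => rfl
    have h2 : (((Q : Subgroup E).index * (Q : Subgroup E).index : ℕ) : ℤ) ∈
        extExp (fun n : A.subgroupOf E => (n : E)) l := by
      refine mem_extExp.2 ⟨MonoidHom.transfer ν ^ (Q : Subgroup E).index, fun n => ?_⟩
      rw [MonoidHom.pow_apply, ← map_pow, zpow_natCast, pow_mul, ← map_pow]
      refine transfer_eq_of_forall ν fun y => ?_
      have e : y⁻¹ * (n : E) ^ (Q : Subgroup E).index * y = (n : E) ^ (Q : Subgroup E).index := by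
        rw [mem_center_iff.1 (Subgroup.pow_mem _ (c2 _ n.2) _), inv_mul_cancel_right]
      refine ⟨e.symm ▸ (Q : Subgroup E).pow_index_mem _, ?_⟩
      rw [hν _ (by show y⁻¹ * _ * y ∈ _; rw [e]; exact Subgroup.pow_mem _ n.2 _)]
      exact congrArg l (Subtype.ext e)
    obtain ⟨j, hj⟩ := IsPGroup.iff_card.1 hA
    obtain ⟨ψ, hψ⟩ := mem_extExp.1 (one_mem_of_coprime h1 h2 (Nat.Coprime.coprime_dvd_left
      ((relIndex_dvd_index_of_normal A E).trans (dvd_of_eq hj)) (Nat.Coprime.pow_left j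
        ((Nat.Prime.coprime_iff_not_dvd hp.out).2 fun h => Q.not_dvd_index ((hp.out.dvd_mul.1 h).elim id id)))))
    exact ⟨ψ, fun n => by rw [hψ, zpow_one]⟩
  by_contra hcon
  have key : ∀ ξ, IsCharacter G ξ → ∃ z : ℕ, classInner (fun n : A => ξ n) ϑ = (p * z : ℕ) := by
    intro ξ hξ
    refine hξ.induction_on (P := fun ξ : G → ℂ => ∃ z : ℕ, classInner (fun n : A => ξ n) ϑ = (p * z : ℕ))
      ⟨0, (classInner_zero_left ϑ).trans (by simp)⟩ (fun χ hχ => ?_) ?_
    · obtain ⟨n, hn⟩ := (hχ.isCharacter.restrict A).exists_nat_classInner hϑ.isCharacter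
      have : p ∣ n := by
        by_contra h
        have h0 : classInner (fun n : A => χ n) ϑ ≠ 0 := by
          rw [hn, Nat.cast_ne_zero]
          rintro rfl
          exact h (dvd_zero p)
        have h1 := clifford_of_invariant hχ hϑ h0 hinv
        rw [hn] at h1
        obtain ⟨j, hj⟩ := IsPGroup.iff_card.1 hA
        exact hcon (exists_ext_of_coprime_mult hϑ hχ (congrFun h1) (by
          rw [index_eq_card, hj]
          exact ((Nat.Prime.coprime_iff_not_dvd hp.out).2 h).pow_left j))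
      obtain ⟨z, rfl⟩ := this
      exact ⟨z, hn⟩
    · rintro a b ⟨u, hu⟩ ⟨v, hv⟩
      refine ⟨u + v, ?_⟩
      rw [mul_add, Nat.cast_add, ← hu, ← hv, ← classInner_add_left]
      rfl
  haveI := Fintype.ofFinite E
  have hψc := (isIrr_of_unitsHom ψ).isCharacter
  obtain ⟨z, hz⟩ := key _ hψc.ind
  have := inner_res_ind hM hψc.isClassFunction (isClassFunction_const 1) hϑ.isClassFunction
  rw [mul_const_one, hz, show subOf E (fun _ : A => (1 : ℂ)) = fun _ => 1 from rfl, mul_const_one,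
    funext fun n => congrArg Units.val (hψ n), ← conj_classInner, hmi, map_natCast, Nat.cast_inj] at this
  exact hm ⟨z, this.symm⟩

end CfsgCd
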