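import Cfsg.Agent.H3.Cd3
import Cfsg.Agent.H3.CTI
import Cfsg.Agent.H1.Schmidt
import Cfsg.Agent.S4456

/-! Broline-Garrison, groups with two character degrees. -/

set_option autoImplicit false
set_option linter.unusedSectionVars false

open Cfsg CfsgH3 CfsgH4 CfsgH1 Function Subgroup
open CfsgH2 hiding cj cj_apply isPGroup_pCore le_pCore isNilpotent_map card_mul_relIndex
open scoped ComplexConjugate commutatorElement CfsgH2

namespace CfsgCd

universe u

variable {G : Type*} [Group G] {χ ψ ξ : G → ℂ} {H K L M : Subgroup G} {e p : ℕ}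

theorem mem_core_of_ext [Fintype G] [Fintype H] (hχ : IsIrrCharacter G χ) (hH : IsIrrCharacter H fun x => χ x)
    (h : ∀ ψ, IsIrrCharacter G ψ → classInner (fun x : H => ψ x) (fun x => χ x) ≠ 0 → charDegree ψ ≤ charDegree χ)
    {x : G} (hx : x ∈ H) (h0 : χ x ≠ 0) : x ∈ H.normalCore := by
  have hI : IsCharacter G (indFun H fun x => χ x) := hH.isCharacter.ind
  have key : ∀ y ∈ H, indFun H (fun x => χ x) y =
      (∑ ψ : IrrCharacter G, classInner (indFun H fun x => χ x) ψ) * χ y := by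
    intro y hy
    rw [hI.isClassFunction.apply_eq_sum_irr, Finset.sum_mul]
    refine Finset.sum_congr rfl fun ψ _ => ?_
    by_cases h1 : classInner (indFun H fun x => χ x) ψ = 0
    · rw [h1, zero_mul, zero_mul]
    rw [classInner_indFun_left _ ψ.2.isClassFunction, classInner_eq_zero_comm] at h1
    have h2 := deg_le_of_under hH ψ.2.isCharacter h1
    have h3 : charDegree (fun x : H => χ x) = charDegree χ := charDegree_eq (coe_charDegree hχ.isCharacter).symm
    have h4 := (ψ.2.isCharacter.restrict H).eq_of_constituent_of_apply_one hH h1 (by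
      show ψ.1 1 = χ 1
      rw [← coe_charDegree ψ.2.isCharacter, ← coe_charDegree hχ.isCharacter,
        le_antisymm (h _ ψ.2 h1) (h3 ▸ h2)])
    rw [show ψ.1 y = χ y from congrFun h4 ⟨y, hy⟩]
  have h1 := key 1 H.one_mem
  have h2 := key x hx
  rw [indFun_restrict hχ.isClassFunction, Pi.mul_apply] at h1 h2
  rw [← mul_right_cancel₀ hχ.apply_one_ne_zero h1] at h2
  have h3 := mul_right_cancel₀ h0 h2
  intro g
  exact (mem_of_indFun_apply_eq isCharacter_one one_ne_zero
    (((isClassFunction_indFun _) x g).trans h3)).1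

theorem irr_res_of_ker [Finite G] (hχ : IsIrrCharacter G χ) [K.Normal] (hK : ∀ k ∈ K, χ k = χ 1)
    (h : K ⊔ H = ⊤) : IsIrrCharacter H fun x => χ x := by
  obtain ⟨β, -, hβ, e⟩ := hχ.isCharacter.exists_deflation K hK
  have := (hβ hχ).comp_of_surjective ((QuotientGroup.mk' K).comp H.subtype) (by
    intro q
    induction q using QuotientGroup.induction_on with
    | H g =>
      obtain ⟨a, ha, b, hb, rfl⟩ := (mem_sup_of_norm' (H := K) (K := H)
        (le_top.trans (top_le_norm_iff.2 inferInstance))).1 (h ▸ mem_top g)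
      exact ⟨⟨b, hb⟩, by simp [(QuotientGroup.eq_one_iff a).2 ha]⟩)
  simpa [e] using this

theorem bg_step [Finite G] (hχ : IsIrrCharacter G χ) (hH : IsCoatom H) (h : ¬ charKer χ ≤ H) :
    (∃ ψ, IsIrrCharacter G ψ ∧ charDegree χ < charDegree ψ ∧ charKer ψ < charKer χ) ∨
      ∀ x ∈ H, χ x ≠ 0 → x ∈ H.normalCore := by
  haveI := Fintype.ofFinite G
  haveI := Fintype.ofFinite H
  haveI := hχ.isCharacter.charKer_normal
  have hi := irr_res_of_ker hχ (fun k hk => hχ.isCharacter.mem_charKer.1 hk) (sup_eq_top_of_isCoatom hH h)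
  by_cases h1 : ∀ ψ, IsIrrCharacter G ψ → classInner (fun x : H => ψ x) (fun x => χ x) ≠ 0 →
      charDegree ψ ≤ charDegree χ
  · exact Or.inr fun x hx h0 => mem_core_of_ext hχ hi h1 hx h0
  push Not at h1
  obtain ⟨ψ, hψ, h2, h3⟩ := h1
  refine Or.inl ⟨ψ, hψ, h3, ?_⟩
  haveI := hψ.isCharacter.charKer_normal
  have h4 : charKer ψ ≤ H := by
    by_contra h4
    have := (irr_res_of_ker hψ (fun k hk => hψ.isCharacter.mem_charKer.1 hk)
      (sup_eq_top_of_isCoatom hH h4)).eq_of_classInner_ne_zero hi h2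
    exact h3.ne (congrArg (fun z : ℂ => ⌊z.re⌋₊) (congrFun this 1).symm)
  refine lt_of_le_of_ne (fun x hx => hχ.isCharacter.mem_charKer.2 ?_) fun e => h (e ▸ h4)
  exact (hψ.isCharacter.restrict H).apply_eq_of_constituent hi h2 (g := ⟨x, h4 hx⟩)
    (hψ.isCharacter.mem_charKer.1 hx)

theorem broline [Finite G] (hχ : IsIrrCharacter G χ) (h : ¬ charKer χ ≤ fittingSubgroup G ∨
    (charKer χ = fittingSubgroup G ∧ Group.IsSolvable G ∧ charKer χ ≠ ⊤)) :
    ∃ ψ, IsIrrCharacter G ψ ∧ charDegree χ < charDegree ψ ∧ charKer ψ < charKer χ := by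
  haveI := hχ.isCharacter.charKer_normal
  by_contra hcon
  have key : ∀ H, IsCoatom H → ¬ charKer χ ≤ H → ∀ x ∈ H, χ x ≠ 0 → x ∈ H.normalCore := fun H hH h =>
    (bg_step hχ hH h).resolve_left hcon
  rcases h with h | ⟨h1, hs, h2⟩
  · refine h (@le_fitting _ _ _ _ (nil_of_syl fun p _ _ => ?_))
    obtain ⟨P, hP⟩ := exists_syl p (charKer χ)
    refine ⟨P, hP, ?_⟩
    by_contra hn
    obtain ⟨H, hH, hPH⟩ := (eq_top_or_exists_le_coatom N[P]).resolve_left fun e => hn (e ▸ le_top)
    have hK : ¬ charKer χ ≤ H := fun h => hH.1 (eq_top_iff.2 (by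
      rw [← hP.frattini_sup le_top (top_le_norm_iff.2 inferInstance)]
      exact sup_le h (inf_le_right.trans hPH)))
    have hP' : Syl p P (charKer χ ⊓ H.normalCore) := hP.mono (le_inf hP.le fun x hx =>
      key H hH hK x (hPH (le_normalizer hx)) (by
        rw [hχ.isCharacter.mem_charKer.1 (hP.le hx)]; exact hχ.apply_one_ne_zero)) inf_le_left
    refine hH.1 (eq_top_iff.2 ?_)
    rw [← hP'.frattini_sup le_top (top_le_norm_iff.2 inferInstance)]
    exact sup_le (inf_le_right.trans (normalCore_le H)) (inf_le_right.trans hPH)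
  · haveI := Fintype.ofFinite G
    have hv : ∀ g, g ∉ charKer χ → χ g = 0 := by
      intro g hg
      by_contra h0
      apply hg
      have hc : ∀ k ∈ charKer χ, ⁅g, k⁆ ∈ frattini G := by
        intro k hk
        rw [← zpowers_le, le_frattini_iff]
        intro H hH
        rw [zpowers_le]
        by_cases hK : charKer χ ≤ H
        · exact hK (commutator_le_right ⊤ _ (commutator_mem_commutator (mem_top g) hk))
        obtain ⟨b, hb, a, ha, rfl⟩ := (mem_sup_of_norm (H := H) (K := charKer χ)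
          (le_top.trans (top_le_norm_iff.2 inferInstance))).1
          (by rw [sup_comm, sup_eq_top_of_isCoatom hH hK]; exact mem_top g)
        rw [hχ.isCharacter.apply_mul_of_eq (hχ.isCharacter.mem_charKer.1 ha)] at h0
        rw [commutator_mul_left']
        refine H.mul_mem (H.mul_mem (H.mul_mem hb ?_) (H.inv_mem hb)) (normalCore_le H
          (commutator_le_left _ ⊤ (commutator_mem_commutator (key H hH hK b hb h0) (mem_top k))))
        haveI : Group.IsNilpotent (charKer χ) := h1 ▸ inferInstance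
        exact le_frattini_iff.1 ((commutator_le_frattiniOf _).trans (frattiniOf_le_frattini _)) H hH
          (commutator_mem_commutator ha hk)
      have h3 : (g : G ⧸ frattini G) ∈ fittingSubgroup (G ⧸ frattini G) := by
        refine centralizer_fitting_le (mem_cent_iff.2 ?_)
        rw [← map_mk'_fitting _ le_rfl, ← h1]
        rintro _ ⟨k, hk, rfl⟩
        symm
        rw [← commutatorElement_eq_one_iff_mul_comm]
        exact (QuotientGroup.eq_one_iff _).2 (hc k hk)
      rw [← map_mk'_fitting _ le_rfl] at h3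
      have := (comap_map_eq (QuotientGroup.mk' (frattini G)) (fittingSubgroup G)).le h3
      rwa [QuotientGroup.ker_mk', sup_eq_left.2 frattini_le_fitting, ← h1] at this
    have h3 : χ = fun _ => 1 := by
      refine hχ.eq_of_classInner_ne_zero isIrr_one ?_
      classical
      rw [classInner_one_right, ← Finset.sum_filter_add_sum_filter_not Finset.univ (· ∈ charKer χ),
        Finset.sum_eq_zero (s := Finset.univ.filter (¬ · ∈ charKer χ)) fun g hg => hv g (Finset.mem_filter.1 hg).2,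
        add_zero, Finset.sum_congr rfl fun g hg => hχ.isCharacter.mem_charKer.1 (Finset.mem_filter.1 hg).2,
        Finset.sum_const, nsmul_eq_mul]
      refine mul_ne_zero (inv_ne_zero (natCard_ne_zero G)) (mul_ne_zero (Nat.cast_ne_zero.2
        (Finset.card_ne_zero.2 ⟨1, by simp⟩)) hχ.apply_one_ne_zero)
    exact h2 (eq_top_iff.2 fun g _ => hχ.isCharacter.mem_charKer.2 (by rw [h3]))

def cds (G : Type*) [Group G] : Set ℕ := {d | ∃ χ : IrrCharacter G, charDegree (χ : G → ℂ) = d}

theorem cds_finite [Finite G] : (cds G).Finite := Set.finite_range fun χ : IrrCharacter G => charDegree χ.1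

theorem deg_one [Finite G] : charDegree (fun _ : G => (1 : ℂ)) = 1 := charDegree_eq (by simp)

theorem one_mem_cds [Finite G] : 1 ∈ cds G := ⟨⟨_, isIrr_one⟩, deg_one⟩

theorem garrison (n : ℕ) : ∀ (G : Type u) [Group G] [Finite G] [Group.IsSolvable G], (cds G).ncard ≤ n →
    ∃ N : ℕ → Subgroup G, N 0 = ⊥ ∧ N n = ⊤ ∧ Monotone N ∧ (∀ i, (N i).Normal) ∧
      ∀ i, ∀ _ : ((N i).subgroupOf (N (i + 1))).Normal,
        Group.IsNilpotent (N (i + 1) ⧸ (N i).subgroupOf (N (i + 1))) := by
  induction n with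
  | zero =>
    intro G _ _ _ h
    exact absurd ((Set.ncard_eq_zero cds_finite).1 (Nat.le_zero.1 h) ▸ one_mem_cds) (Set.notMem_empty 1)
  | succ n ih =>
    intro G _ _ _ h
    by_cases hF : fittingSubgroup G = ⊤
    · haveI := fitting_eq_top_iff.1 hF
      refine ⟨fun i => if i = 0 then ⊥ else ⊤, rfl, rfl, monotone_nat_of_le_succ fun i => le_top,
        fun i => by beta_reduce; split_ifs <;> infer_instance, fun i _ => inferInstance⟩
    obtain ⟨b, ⟨χ, hχ⟩, hb⟩ := Set.exists_max_image (cds G) id cds_finite ⟨1, one_mem_cds⟩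
    have hsub : cds (G ⧸ fittingSubgroup G) ⊆ cds G \ {b} := by
      rintro _ ⟨β, rfl⟩
      have h1 := irr_inflate β.2
      refine ⟨⟨⟨_, h1⟩, deg_inflate _⟩, fun e => ?_⟩
      have h2 : fittingSubgroup G ≤ charKer fun g : G => β.1 g := fun x hx =>
        h1.isCharacter.mem_charKer.2 (by simp [(QuotientGroup.eq_one_iff x).2 hx])
      obtain ⟨ψ, hψ, h3, -⟩ := broline h1 (by
        by_cases h4 : (charKer fun g : G => β.1 g) ≤ fittingSubgroup G
        · exact Or.inr ⟨le_antisymm h4 h2, inferInstance, fun e => hF (top_le_iff.1 (e ▸ h4))⟩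
        · exact Or.inl h4)
      rw [deg_inflate, Set.mem_singleton_iff.1 e] at h3
      exact h3.not_ge (hb _ ⟨⟨ψ, hψ⟩, rfl⟩)
    obtain ⟨N, h0, h1, h2, h3, h4⟩ := ih (G ⧸ fittingSubgroup G) (by
      have := Set.ncard_le_ncard hsub (cds_finite.subset Set.diff_subset)
      rw [Set.ncard_diff_singleton_of_mem (show b ∈ cds G from ⟨χ, hχ⟩)] at this
      omega)
    let π := QuotientGroup.mk' (fittingSubgroup G)
    refine ⟨fun i => Nat.rec ⊥ (fun j _ => (N j).comap π) i, rfl, by simp [h1],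
      monotone_nat_of_le_succ fun i => ?_, fun i => ?_, fun i _ => ?_⟩
    · cases i with
      | zero => exact bot_le
      | succ i => exact comap_mono (h2 (Nat.le_succ i))
    · cases i with
      | zero => exact (inferInstance : (⊥ : Subgroup G).Normal)
      | succ i => exact (h3 i).comap π
    · cases i with
      | zero =>
        haveI : Group.IsNilpotent ((N 0).comap π) := by
          rw [h0, MonoidHom.comap_bot, QuotientGroup.ker_mk']
          infer_instance
        exact Group.nilpotent_quotient_of_nilpotent (G := (N 0).comap π) _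
      | succ i =>
        haveI := h3 i
        haveI := h4 i inferInstance
        refine Subgroup.isNilpotent_of_ker_le_center (QuotientGroup.map (((N i).comap π).subgroupOf ((N (i + 1)).comap π))
          ((N i).subgroupOf (N (i + 1))) (π.subgroupComap _) le_rfl) fun q hq => ?_
        induction q using QuotientGroup.induction_on with
        | H t =>
          have : (π.subgroupComap _ t : N (i + 1) ⧸ (N i).subgroupOf (N (i + 1))) = 1 := hq
          have h5 := (QuotientGroup.eq_one_iff _).1 this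
          rw [(QuotientGroup.eq_one_iff t).2 h5]
          exact Subgroup.one_mem _

theorem der_le_of_index [Finite G] (h : ∀ χ, IsIrrCharacter G χ → charDegree χ = 1 ∨ H.index ≤ charDegree χ) :
    commutator G ≤ H := by
  haveI := Fintype.ofFinite G
  haveI := Fintype.ofFinite H
  intro x hx
  have hI : IsCharacter G (indFun H fun _ => 1) := isCharacter_one.ind
  refine (mem_of_indFun_apply_eq isCharacter_one one_ne_zero ?_).1
  rw [hI.isClassFunction.apply_eq_sum_irr, hI.isClassFunction.apply_eq_sum_irr 1]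
  refine Finset.sum_congr rfl fun ψ _ => ?_
  by_cases h1 : classInner (indFun H fun _ => 1) ψ = 0
  · rw [h1, zero_mul, zero_mul]
  have h3 : ψ.1 1 = 1 := by
    rcases h _ ψ.2 with h2 | h2
    · exact (charDegree_eq_one ψ.2.isCharacter).1 h2
    · have h4 := indFun_eq_of_le isCharacter_one ψ.2 (by
        rwa [classInner_indFun_left _ ψ.2.isClassFunction, classInner_eq_zero_comm] at h1)
        (by rwa [deg_one, mul_one])
      have h5 : classInner ψ.1 (fun _ => 1) ≠ 0 := by
        rw [← h4, classInner_indFun_left _ (isClassFunction_const 1), isIrr_one.classInner_self]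
        exact one_ne_zero
      rw [ψ.2.eq_of_classInner_ne_zero isIrr_one h5]
  rw [lin_comm ψ.2.isCharacter h3 hx, h3]

theorem inertia_lin [Finite G] {A : Subgroup G} [A.Normal] (hc : A.index.Coprime (Nat.card A)) {θ : A → ℂ}
    (hθ : IsIrrCharacter A θ) {β : inertia θ → ℂ} (hβ : IsIrrCharacter _ β)
    (h : ∀ x : inertia θ, (x : G) ∈ A → β x = β 1) :
    ∃ χ, IsIrrCharacter G χ ∧ charDegree χ = (inertia θ).index * (charDegree β * charDegree θ) := by
  haveI := Fintype.ofFinite G
  haveI := Fintype.ofFinite A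
  haveI := Fintype.ofFinite (inertia θ)
  have hle := le_inertia hθ.isClassFunction
  have hθ' := (isIrr_subOf_iff hle).2 hθ
  obtain ⟨η, hη, e, -⟩ := exists_ext_of_coprime hθ' (fun t => by rw [cj_subOf, mem_inertia.1 t.2]) (by
    rw [CfsgH2.card_subgroupOf hle]
    exact hc.coprime_dvd_left (relIndex_dvd_index_of_normal A _))
  have h1 := isIrr_mul_of_restrict_irr (N := A.subgroupOf (inertia θ)) hη.isCharacter
    (by rw [funext e]; exact hθ') hβ h
  have h2 : resLE hle (β * η) = β 1 • θ := by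
    funext a
    show β ⟨a, hle a.2⟩ * η ⟨a, hle a.2⟩ = β 1 * θ a
    rw [h _ a.2, e ⟨⟨a, hle a.2⟩, a.2⟩]
    rfl
  refine ⟨_, isIrr_indFun_of_over_inertia hθ rfl hle h1 ?_, ?_⟩
  · rw [h2, classInner_smul_left, hθ.classInner_self, mul_one]
    exact hβ.apply_one_ne_zero
  · rw [deg_indFun h1.isCharacter]
    congr 1
    refine charDegree_eq ?_
    rw [Nat.cast_mul, coe_charDegree hβ.isCharacter, coe_charDegree hθ.isCharacter, Pi.mul_apply]
    exact congrArg _ (e 1)

theorem le_center_of_inv [Finite G] {A : Subgroup G} [A.Normal] (hA : ∀ a b : A, a * b = b * a)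
    (h : ∀ θ, IsIrrCharacter A θ → inertia θ = ⊤) : A ≤ center G := by
  intro a ha
  rw [mem_center_iff]
  intro g
  obtain ⟨c, hc⟩ := isConj_iff.1 (isConj_of_irr_eq (g := ⟨a, ha⟩)
    (h := ⟨g * a * g⁻¹, Subgroup.Normal.conj_mem inferInstance a ha g⟩) fun θ hθ =>
      (mem_inertia'.1 (h θ hθ ▸ mem_top g) ⟨a, ha⟩).symm)
  rw [hA c, mul_inv_cancel_right] at hc
  exact (mul_inv_eq_iff_eq_mul.1 (congrArg Subtype.val hc).symm)

theorem cd_two [Finite G] {m : ℕ} (hcd : ∀ χ, IsIrrCharacter G χ → charDegree χ = 1 ∨ charDegree χ = m)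
    (hm : ∃ χ, IsIrrCharacter G χ ∧ charDegree χ = m) (hm1 : m ≠ 1) :
    (∃ A : Subgroup G, A.Normal ∧ (∀ a ∈ A, ∀ b ∈ A, a * b = b * a) ∧ A.index = m) ∨
      ∃ p e : ℕ, p.Prime ∧ m = p ^ e ∧ ∃ P A : Subgroup G, P.Normal ∧ A.Normal ∧ IsPGroup p P ∧
        (∀ a ∈ A, ∀ b ∈ A, a * b = b * a) ∧ P ⊓ A = ⊥ ∧ P ⊔ A = ⊤ := by
  obtain ⟨χ, hχ, hχm⟩ := hm
  have hm0 : m ≠ 0 := hχm ▸ charDegree_ne_zero hχ
  have th : ∀ p : ℕ, ∀ _ : Fact p.Prime, p ∣ m → NPC p (⊤ : Subgroup G) := by
    intro p hp hd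
    obtain ⟨K, hK, h1, k, h2⟩ := Cfsg.Agent.S4456.result (G := G) p hp.out fun ψ h =>
      ((hcd _ ψ.2).resolve_left h).symm ▸ hd
    exact NPC.of_sub le_top (top_le_norm_iff.2 hK) ((coprime_iff_not_dvd hp.out).1 h1)
      (by rw [relIndex_top_right, h2]; exact (PiN.of_prime hp.out (Set.mem_singleton p)).pow k)
  set A := piRes {p | p ∣ m} (⊤ : Subgroup G) with hA
  haveI : A.Normal := normal_of_top_le_norm le_norm_piRes
  have hi : PiN {p | p ∣ m} A.index := relIndex_top_right A ▸ piN_relIndex_piRes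
  have hc : PiN {p | p ∣ m}ᶜ (Nat.card A) := fun p hp hd h => by
    haveI : Fact p.Prime := ⟨hp⟩
    refine NPC.iff_piRes.1 (th p inferInstance h) (hd.trans (card_dvd_of_le ?_))
    exact piRes_le_of le_norm_piRes (piN_relIndex_piRes.mono (Set.singleton_subset_iff.2 h))
  have lin : ∀ (B : Subgroup G) [B.Normal], (Nat.card B).Coprime m → ∀ a b : B, a * b = b * a := by
    intro B _ h
    refine comm_of_forall_lin fun θ hθ => (charDegree_eq_one hθ.isCharacter).1 ?_
    obtain ⟨ψ, hψ, hd⟩ := exists_over_dvd hθ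
    refine Nat.eq_one_of_dvd_coprimes h (charDegree_dvd hθ) (((dvd_mul_left _ _).trans hd).trans ?_)
    rcases hcd ψ hψ with h | h <;> simp [h]
  have hAc := lin A (PiN.self.coprime hc).symm
  have hAc' : IsMulCommutative A := ⟨⟨hAc⟩⟩
  have hAn' : Nil[A] := isNilpotent_of_commute fun x hx y hy _ => congrArg Subtype.val (hAc ⟨x, hx⟩ ⟨y, hy⟩)
  have cop := hi.coprime hc
  obtain ⟨H, hH⟩ := exists_right_complement'_of_coprime cop.symm
  have hHc : Nat.card H = A.index := hH.symm.index_eq_card.symm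
  have hAn : ∀ X : Subgroup G, X ≤ N[A] := fun X => le_top.trans (top_le_norm_iff.2 inferInstance)
  by_cases hall : ∀ θ, IsIrrCharacter A θ → inertia θ = ⊤
  · right
    have hz := le_center_of_inv hAc hall
    have hn : Nil[(⊤ : Subgroup G)] := by
      rw [← hH.sup_eq_top]
      exact nil_sup_of_cent hAn' (isNilpotent_of_npc fun p hp hd =>
        (th p hp (hi p hp.out (hHc ▸ hd))).mono le_top) (hz.trans (center_le_centralizer _))
    obtain ⟨p, hp, hpm⟩ := Nat.exists_prime_and_dvd hm1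
    haveI : Fact p.Prime := ⟨hp⟩
    have hK : ∀ a b : O[{p}ᶜ, (⊤ : Subgroup G)], a * b = b * a := by
      refine comm_of_forall_lin fun θ hθ => (charDegree_eq_one hθ.isCharacter).1 ?_
      have hinv : inertia θ = ⊤ := by
        refine eq_top_iff.2 ((nil_sup_core (π := {p}) hn).ge.trans (sup_le
          (fun g hg => mem_inertia'.2 fun n => congrArg θ (Subtype.ext ?_)) (le_inertia hθ.isClassFunction)))
        show g * n * g⁻¹ = n
        rw [← mem_cent_iff.1 (piCoreOf_le_cent hg) n n.2, mul_inv_cancel_right]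
      obtain ⟨ψ, hψ, e, -⟩ := exists_ext_of_coprime hθ (fun g => mem_inertia.1 (hinv.ge (mem_top g)))
        (by rw [← relIndex_top_right]; exact (th p inferInstance hpm).coprime piN_piCoreOf)
      have h1 : charDegree ψ = charDegree θ :=
        charDegree_eq ((e 1).trans (coe_charDegree hθ.isCharacter).symm)
      rcases hcd ψ hψ with h | h
      · exact h1 ▸ h
      · exact absurd rfl (piN_piCoreOf p hp (hpm.trans (h ▸ h1 ▸ charDegree_dvd hθ)))
    have hK' : ∀ a ∈ O[{p}ᶜ, (⊤ : Subgroup G)], ∀ b ∈ O[{p}ᶜ, (⊤ : Subgroup G)], a * b = b * a :=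
      fun a ha b hb => congrArg Subtype.val (hK ⟨a, ha⟩ ⟨b, hb⟩)
    have hd := deg_dvd_index_ab hχ _ hK'
    rw [hχm, ← relIndex_top_right] at hd
    obtain ⟨e, he⟩ := (piN_singleton hp hm0).1 ((th p inferInstance hpm).of_dvd hd)
    exact ⟨p, e, hp, he, _, _, inferInstance, inferInstance, isPGroup_piCoreOf, hK', piCoreOf_inf_compl,
      nil_sup_core hn⟩
  left
  have idx : ∀ θ, IsIrrCharacter A θ → inertia θ ≠ ⊤ → (inertia θ).index = m := by
    intro θ hθ h
    obtain ⟨ψ, hψ, e⟩ := inertia_lin cop hθ isIrr_one fun _ _ => rfl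
    rw [deg_one, one_mul, (charDegree_eq_one hθ.isCharacter).2 (hθ.apply_one_of_comm hAc), mul_one] at e
    exact e ▸ (hcd ψ hψ).resolve_left fun h' => h (index_eq_one.1 (e ▸ h'))
  push Not at hall
  obtain ⟨θ, hθ, hT⟩ := hall
  have hTm := idx θ hθ hT
  have hAT := le_inertia hθ.isClassFunction
  haveI : (inertia θ).Normal := normal_of_commutator_le (der_le_of_index fun ψ hψ =>
    (hcd ψ hψ).imp id fun h => by rw [hTm, h])
  have hT' : ∀ x ∈ inertia θ, ∀ y ∈ inertia θ, ⁅x, y⁆ ∈ A := by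
    intro x hx y hy
    refine mem_of_forall_irr (A.subgroupOf (inertia θ)) (g := ⁅(⟨x, hx⟩ : inertia θ), ⟨y, hy⟩⁆) fun β hβ h => ?_
    obtain ⟨ψ, hψ, e⟩ := inertia_lin cop hθ hβ h
    rw [hTm, (charDegree_eq_one hθ.isCharacter).2 (hθ.apply_one_of_comm hAc), mul_one] at e
    have h1 : β 1 = 1 := by
      rw [← charDegree_eq_one hβ.isCharacter]
      rcases hcd ψ hψ with h | h
      · exact Nat.eq_one_of_mul_eq_one_left (e ▸ h)
      · exact Nat.eq_of_mul_eq_mul_left (Nat.pos_of_ne_zero hm0) (by rw [← e, h, mul_one])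
    rw [lin_comm hβ.isCharacter h1 (commutator_mem_commutator (mem_top _) (mem_top _)), h1]
  have hQ : A ⊔ (H ⊓ inertia θ) = inertia θ := by
    rw [← sup_inf_of_norm (Or.inr (hAn H)) hAT, hH.sup_eq_top, top_inf_eq]
  have hQc : IsMulCommutative (H ⊓ inertia θ : Subgroup G) := by
    rw [← comm_self_eq_bot_iff, eq_bot_iff, ← hH.disjoint.eq_bot, commutator_le]
    exact fun x hx y hy => ⟨hT' x hx.2 y hy.2, commutator_le_self H (commutator_mem_commutator hx.1 hy.1)⟩
  have copQ : (Nat.card (H ⊓ inertia θ : Subgroup G)).Coprime (Nat.card A) :=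
    cop.coprime_dvd_left (hHc ▸ card_dvd_of_le inf_le_left)
  have hQA : A ≤ C[H ⊓ inertia θ] := by
    by_contra hne
    have hC : A ⊓ C[H ⊓ inertia θ] = A ⊓ C[inertia θ] := by
      conv_rhs => rw [← hQ, CfsgH2.cent_sup, ← inf_assoc, inf_eq_left.2 (le_cent_self hAc')]
    have h1 := coprime_comm_inf_cent hAc' (hAn _) copQ
    have h2 := coprime_comm_sup_cent (hAn _) copQ (Or.inr inferInstance)
    obtain ⟨b, hb, hbC⟩ : ∃ b ∈ ⁅A, H ⊓ inertia θ⁆, b ∉ A ⊓ C[inertia θ] := by
      by_contra h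
      push Not at h
      rw [hC, sup_eq_right.2 h, ← hC] at h2
      exact hne (h2.ge.trans inf_le_right)
    have hBA : ⁅A, inertia θ⁆ ≤ A := commutator_le_left _ _
    have hB : ⁅A, H ⊓ inertia θ⁆ ≤ ⁅A, inertia θ⁆ := commutator_mono le_rfl inf_le_right
    haveI : ((A ⊓ C[inertia θ]).subgroupOf A).Normal := inferInstance
    obtain ⟨μ, hμ, hμb⟩ := exists_unitsHom_of_not_mem (N := (A ⊓ C[inertia θ]).subgroupOf A)
      (v := ⟨b, hBA (hB hb)⟩) (fun a b => by rw [hAc a b]; simp) hbC
    obtain ⟨l, rfl⟩ := hθ.isCharacter.exists_monoidHom (hθ.apply_one_of_comm hAc)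
    have triv : ∀ ν : A →* ℂˣ, inertia (fun a => (l a : ℂ)) ≤ inertia (fun a => (ν a : ℂ)) →
        ∀ x : A, (x : G) ∈ ⁅A, inertia fun a => (l a : ℂ)⁆ → ν x = 1 := by
      intro ν h x hx
      have : ⁅A, inertia fun a => (l a : ℂ)⁆ ≤ ν.ker.map A.subtype := commutator_le.2 fun a ha t ht =>
        ⟨⟨a, ha⟩ * ⟨t * a⁻¹ * t⁻¹, Subgroup.Normal.conj_mem inferInstance _ (A.inv_mem ha) t⟩, by
          show ν _ = 1
          have e : ν ⟨t * a⁻¹ * t⁻¹, Subgroup.Normal.conj_mem inferInstance _ (A.inv_mem ha) t⟩ = ν ⟨a, ha⟩⁻¹ :=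
            Units.ext (mem_inertia'.1 (h ht) (⟨a, ha⟩ : A)⁻¹)
          rw [map_mul, e, ← map_mul, mul_inv_cancel, map_one],
          by simp [commutatorElement_def, mul_assoc]⟩
      obtain ⟨y, hy, e⟩ := this hx
      rwa [← (Subtype.ext e : y = x)]
    have hν := isIrr_of_unitsHom (l * μ)
    have hle : inertia (fun a => ((l * μ) a : ℂ)) ≤ inertia fun a => (l a : ℂ) := by
      intro g hg
      refine mem_inertia'.2 fun a => congrArg Units.val ?_
      obtain ⟨u, hu, v, hv, e⟩ := (mem_sup_of_norm (H := ⁅A, H ⊓ inertia fun a => (l a : ℂ)⁆)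
        (K := A ⊓ C[inertia fun a => (l a : ℂ)]) (le_top.trans (top_le_norm_iff.2 inferInstance))).1
        (by rw [← hC, h2]; exact a.2)
      have e1 : a = ⟨u, hBA (hB hu)⟩ * ⟨v, hv.1⟩ := Subtype.ext e.symm
      have e2 : (⟨g * a * g⁻¹, Subgroup.Normal.conj_mem inferInstance _ a.2 g⟩ : A) =
          ⟨g * u * g⁻¹, Subgroup.Normal.conj_mem inferInstance _ (hBA (hB hu)) g⟩ *
            ⟨g * v * g⁻¹, Subgroup.Normal.conj_mem inferInstance _ hv.1 g⟩ := Subtype.ext (by simp [← e, mul_assoc])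
      have e3 := Units.ext (mem_inertia'.1 hg ⟨v, hv.1⟩)
      rw [MonoidHom.mul_apply, MonoidHom.mul_apply, hμ ⟨v, hv.1⟩ hv,
        hμ _ (Subgroup.Normal.conj_mem inferInstance _ hv g), mul_one, mul_one] at e3
      rw [e2, map_mul, triv l le_rfl _ (Subgroup.Normal.conj_mem inferInstance _ (hB hu) g), e3, e1, map_mul,
        triv l le_rfl ⟨u, hBA (hB hu)⟩ (hB hu)]
    have h3 := idx _ hν fun h => hT (top_le_iff.1 (h ▸ hle))
    have h4 := relIndex_mul_index hle
    rw [h3, hTm] at h4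
    have h5 := triv (l * μ) (relIndex_eq_one.1 (Nat.eq_of_mul_eq_mul_right (Nat.pos_of_ne_zero hm0)
      (h4.trans (one_mul m).symm))) ⟨b, hBA (hB hb)⟩ (hB hb)
    rw [MonoidHom.mul_apply, triv l le_rfl _ (hB hb), one_mul] at h5
    exact hμb h5
  refine ⟨inertia θ, inferInstance, ?_, hTm⟩
  rw [← isMulComm_iff, ← hQ]
  exact isMulComm_sup hAc' hQc hQA

theorem der2_le_ker [Fintype G] {lam : H → ℂ} (hl : IsCharacter H lam) (h1 : lam 1 = 1) [K.Normal]
    (h : K ≤ H) {x : G} (hx : x ∈ ⁅K, K⁆) : indFun H lam x = indFun H lam 1 := by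
  refine indFun_apply_of_normal_le_ker ((commutator_le_self K).trans h) (fun a ha => ?_) hx
  rw [h1]
  refine lin_comm hl h1 ?_
  obtain ⟨y, hy, e⟩ : (a : G) ∈ (commutator H).map H.subtype := by
    rw [map_subtype_commutator]
    exact commutator_mono h h ha
  rwa [← (Subtype.ext e : y = a)]

theorem mono_of_cd_two [Fintype G] {m : ℕ} (hcd : ∀ χ, IsIrrCharacter G χ → charDegree χ = 1 ∨ charDegree χ = m)
    (hχ : IsIrrCharacter G χ) : IsMonomial χ := by
  by_cases h1 : charDegree χ = 1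
  · exact isMonomial_of_apply_one hχ.isCharacter ((charDegree_eq_one hχ.isCharacter).1 h1)
  have hm := (hcd χ hχ).resolve_left h1
  rcases cd_two hcd ⟨χ, hχ, hm⟩ (hm ▸ h1) with ⟨A, -, hA, hi⟩ | ⟨p, -, hp, -, P, A, _, _, h1, h2, h3, h4⟩
  · haveI := Fintype.ofFinite A
    obtain ⟨θ, hθ, h⟩ := hχ.exists_irr_under (H := A)
    have h2 := hθ.apply_one_of_comm fun a b => Subtype.ext (hA _ a.2 _ b.2)
    obtain ⟨l, rfl⟩ := hθ.isCharacter.exists_monoidHom h2
    exact ⟨A, l, (indFun_eq_of_le hθ.isCharacter hχ h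
      (by rw [(charDegree_eq_one hθ.isCharacter).2 h2, mul_one, hi, hm])).symm⟩
  · haveI : Fact p.Prime := ⟨hp⟩
    haveI := h1.isNilpotent
    haveI : Nil[A] := isNilpotent_of_commute fun x hx y hy _ => h2 x hx y hy
    haveI : Group.IsNilpotent G := by
      have := isNilpotent_sup P A
      rw [h4] at this
      exact Group.nilpotent_of_mulEquiv topEquiv
    exact hχ.isMonomial_of_nilpotent

theorem der2_of_cd_two [Finite G] {m : ℕ} (hcd : ∀ χ, IsIrrCharacter G χ → charDegree χ = 1 ∨ charDegree χ = m) :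
    ⁅commutator G, commutator G⁆ = ⊥ := by
  haveI := Fintype.ofFinite G
  refine eq_bot_iff.2 fun x hx => eq_one_of_forall_irr fun χ hχ => ?_
  by_cases h1 : charDegree χ = 1
  · have := (charDegree_eq_one hχ.isCharacter).1 h1
    rw [lin_comm hχ.isCharacter this (commutator_le_self _ hx), this]
  obtain ⟨H, l, rfl⟩ := mono_of_cd_two hcd hχ
  have hl := (isIrr_of_unitsHom l).isCharacter
  refine der2_le_ker hl (by simp) (der_le_of_index fun ψ hψ => (hcd ψ hψ).imp id fun h => ?_) hx
  rw [h, ← (hcd _ hχ).resolve_left h1, deg_indFun hl, (charDegree_eq_one hl).2 (by simp), mul_one]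

end CfsgCd
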