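import Cfsg.Agent.H3.Cd4

set_option autoImplicit false

open Cfsg CfsgH3 CfsgH4 CfsgH1 Function Subgroup
open CfsgH2 hiding cj cj_apply isPGroup_pCore le_pCore isNilpotent_map card_mul_relIndex
open scoped ComplexConjugate commutatorElement CfsgH2

namespace CfsgCd

universe u

variable {G : Type*} [Group G] {χ ψ ξ : G → ℂ} {H K L M : Subgroup G} {e p : ℕ}

/-- Isaacs 12.3, group part. -/
theorem just_nonab [Finite G] [Group.IsSolvable G] (h0 : commutator G ≠ ⊥)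
    (h : ∀ M : Subgroup G, M.Normal → M ≠ ⊥ → commutator G ≤ M) :
    (∀ a ∈ commutator G, ∀ b ∈ commutator G, a * b = b * a) ∧ ∃ p : ℕ, p.Prime ∧ (∀ v ∈ commutator G, v ^ p = 1) ∧
      ((IsPGroup p G ∧ commutator G ≤ center G) ∨
        ∀ x ∉ commutator G, ∀ v ∈ commutator G, ∃ w ∈ commutator G, v = w * x * w⁻¹ * x⁻¹) := by
  set V := commutator G with hV
  have hab : ∀ a ∈ V, ∀ b ∈ V, a * b = b * a := by
    have : ⁅V, V⁆ = ⊥ := by_contra fun c => (IsSolvable.commutator_lt_of_ne_bot h0).not_ge (h _ inferInstance c)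
    exact fun a ha b hb => commutatorElement_eq_one_iff_mul_comm.1 (mem_bot.1 (this ▸ commutator_mem_commutator ha hb))
  obtain ⟨p, hp, hd⟩ := Nat.exists_prime_and_dvd (mt card_eq_one.1 h0)
  haveI := Fact.mk hp
  have hpV : ∀ v ∈ V, v ^ p = 1 := by
    let E : Subgroup G :=
      { carrier := {v | v ∈ V ∧ v ^ p = 1}
        one_mem' := ⟨one_mem _, one_pow _⟩
        mul_mem' := fun {a b} ha hb => ⟨mul_mem ha.1 hb.1, by
          rw [Commute.mul_pow (hab a ha.1 b hb.1), ha.2, hb.2, one_mul]⟩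
        inv_mem' := fun {a} ha => ⟨inv_mem ha.1, by rw [inv_pow, ha.2, inv_one]⟩ }
    obtain ⟨a, ha⟩ := exists_prime_orderOf_dvd_card' p hd
    refine fun v hv => (h E ⟨fun a ha g => ⟨Normal.conj_mem inferInstance a ha.1 g, by
      rw [conj_pow, ha.2, mul_one, mul_inv_cancel]⟩⟩ (fun c => hp.one_lt.ne' ?_) hv).2
    have : (a : G) ∈ E := ⟨a.2, by rw [← coe_pow, ← ha, pow_orderOf_eq_one, coe_one]⟩
    rw [← ha, orderOf_eq_one_iff]
    exact Subtype.ext (mem_bot.1 (c ▸ this))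
  refine ⟨hab, p, hp, hpV, ?_⟩
  by_cases hz : V ≤ center G
  · refine Or.inl ⟨?_, hz⟩
    haveI : Group.IsNilpotent G := Subgroup.nilpotent_iff_lowerCentralSeries.2 ⟨2, by
      rw [Subgroup.lowerCentralSeries_succ, Subgroup.lowerCentralSeries_one, commutator_eq_bot_iff_le_centralizer]
      exact hz.trans (center_le_centralizer _)⟩
    refine isPGroup_iff_piN.2 fun q hq hd' => ?_
    haveI := Fact.mk hq
    obtain ⟨Q⟩ : Nonempty (Sylow q G) := inferInstance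
    have := h Q inferInstance ((syl_top Q).ne_bot (by rwa [card_top]))
    obtain ⟨k, hk⟩ := IsPGroup.iff_card.1 (Q.isPGroup'.to_le this)
    exact ((Nat.prime_dvd_prime_iff_eq hp hq).1 (hp.dvd_of_dvd_pow (hk ▸ hd))).symm
  right
  have cm : ∀ a b : G, a * b * a⁻¹ * b⁻¹ ∈ V := fun a b => commutator_mem_commutator (mem_top a) (mem_top b)
  have h1 : ∀ x, (∃ v ∈ V, v * x ≠ x * v) → ∀ v ∈ V, ∃ w ∈ V, v = w * x * w⁻¹ * x⁻¹ := by
    rintro x ⟨v, hv, hx⟩
    have cj : ∀ w ∈ V, ∀ g : G, g * w * g⁻¹ ∈ V := fun w hw g => Normal.conj_mem inferInstance w hw g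
    let E : Subgroup G :=
      { carrier := {v | ∃ w ∈ V, v = w * x * w⁻¹ * x⁻¹}
        one_mem' := ⟨1, one_mem _, by group⟩
        mul_mem' := by
          rintro _ _ ⟨a, ha, rfl⟩ ⟨b, hb, rfl⟩
          refine ⟨a * b, mul_mem ha hb, ?_⟩
          have := hab _ (cj _ (inv_mem ha) x) _ (cm b x)
          calc _ = a * (x * a⁻¹ * x⁻¹ * (b * x * b⁻¹ * x⁻¹)) := by group
            _ = _ := by rw [this]; group
        inv_mem' := by
          rintro _ ⟨a, ha, rfl⟩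
          refine ⟨a⁻¹, inv_mem ha, ?_⟩
          have := hab _ (cj _ ha x) _ (inv_mem ha)
          calc _ = x * a * x⁻¹ * a⁻¹ := by group
            _ = _ := by rw [this]; group }
    refine h E ⟨?_⟩ fun c => hx ?_
    · rintro _ ⟨a, ha, rfl⟩ g
      refine ⟨g * a * g⁻¹, cj a ha g, ?_⟩
      have := hab _ (cm x⁻¹ g) _ (cj _ (inv_mem ha) g)
      calc _ = g * a * g⁻¹ * x * ((x⁻¹ * g * x⁻¹⁻¹ * g⁻¹) * (g * a⁻¹ * g⁻¹)) * (g * x⁻¹ * g⁻¹) := by group
        _ = _ := by rw [this]; group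
    · have : v * x * v⁻¹ * x⁻¹ ∈ E := ⟨v, hv, rfl⟩
      exact commutatorElement_eq_one_iff_mul_comm.1 (mem_bot.1 (c ▸ this))
  refine fun x hx => h1 x (by_contra fun c => hx ?_)
  push Not at c
  obtain ⟨v, hv, hy⟩ := SetLike.not_le_iff_exists.1 hz
  obtain ⟨y, hy⟩ := not_forall.1 (mt mem_center_iff.2 hy)
  obtain ⟨w, hw, e⟩ := h1 y ⟨v, hv, Ne.symm hy⟩ _ (cm x y)
  have hD : (centralizer (V : Set G) ⊓ centralizer {y}).Normal := ⟨fun d hd g => by
    have h2 : g * d * g⁻¹ ∈ centralizer (V : Set G) := Normal.conj_mem inferInstance d hd.1 g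
    refine ⟨h2, mem_centralizer_singleton_iff.2 ?_⟩
    have h3 := h2 _ (cm y g)
    have h4 := mem_centralizer_singleton_iff.1 hd.2
    calc _ = g * d * g⁻¹ * (y * g * y⁻¹ * g⁻¹) * g * y * g⁻¹ := by group
      _ = y * g * y⁻¹ * (d * y) * g⁻¹ := by rw [← h3]; group
      _ = _ := by rw [h4]; group⟩
  have h2 : w⁻¹ * x ∈ centralizer (V : Set G) ⊓ centralizer {y} :=
    ⟨(centralizer (V : Set G)).mul_mem ((centralizer (V : Set G)).inv_mem fun a ha => hab a ha w hw) c, mem_centralizer_singleton_iff.2 (by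
      calc _ = w⁻¹ * (x * y * x⁻¹ * y⁻¹) * y * x := by group
        _ = _ := by rw [e]; group)⟩
  rw [show centralizer (V : Set G) ⊓ centralizer {y} = ⊥ from by_contra fun c =>
    hy (mem_centralizer_singleton_iff.1 (h _ hD c hv).2).symm, mem_bot, inv_mul_eq_one] at h2
  exact h2 ▸ hw

/-- Isaacs 12.4, in the case of an irreducible restriction. -/
theorem frob_deg [Finite G] {K N : Subgroup G} [K.Normal] [N.Normal] (hc : commutator G ≤ N) (hKN : ¬ N ≤ K)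
    (hNK : ∀ a ∈ N, ∀ b ∈ N, a * b * a⁻¹ * b⁻¹ ∈ K)
    (hf : ∀ x ∉ N, ∀ v ∈ N, ∃ w ∈ N, v⁻¹ * (w * x * w⁻¹ * x⁻¹) ∈ K) {ψ : N → ℂ} (hψ : IsIrrCharacter N ψ)
    (hK : IsIrrCharacter (K.subgroupOf N) fun k => ψ k) :
    ∃ ξ, IsIrrCharacter G ξ ∧ charDegree ξ = N.index * charDegree ψ := by
  haveI := Fintype.ofFinite G
  haveI := Fintype.ofFinite (K.subgroupOf N)
  have inj : ∀ μ : N →* ℂˣ, (∀ n ∈ K.subgroupOf N, μ n = 1) → (∀ n, μ n * ψ n = ψ n) → μ = 1 := fun μ h1 h2 => by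
    ext g
    obtain ⟨k, -, hk⟩ := Finset.exists_ne_zero_of_sum_ne_zero ((coset_sum_self hψ hK g).trans_ne (natCard_ne_zero _))
    have := mul_right_cancel₀ (left_ne_zero_of_mul hk) ((h2 _).trans (one_mul _).symm)
    rwa [map_mul, h1 _ k.2, one_mul] at this
  let c : G → (N →* ℂˣ) → N →* ℂˣ := fun x μ => μ.comp (MulAut.conjNormal x).toMonoidHom * μ⁻¹
  have hc1 : ∀ x (μ : N →* ℂˣ), (∀ n ∈ K.subgroupOf N, μ n = 1) → ∀ n ∈ K.subgroupOf N, c x μ n = 1 := fun x μ h n hn => by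
    show μ (MulAut.conjNormal x n) * (μ n)⁻¹ = 1
    rw [h n hn, h (MulAut.conjNormal x n) (Normal.conj_mem (H := K) inferInstance _ hn x), inv_one, one_mul]
  have fpf : ∀ x ∉ N, ∀ μ : N →* ℂˣ, (∀ n ∈ K.subgroupOf N, μ n = 1) → c x μ = 1 → μ = 1 := fun x hx μ h1 h2 => by
    refine MonoidHom.ext fun v => ?_
    obtain ⟨w, hw, e⟩ := hf x hx v v.2
    have h3 := h1 (v⁻¹ * (⟨w, hw⟩ * MulAut.conjNormal x (⟨w, hw⟩ : N)⁻¹)) (by simpa [mem_subgroupOf, mul_assoc] using e)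
    have h4 : ∀ n, μ (MulAut.conjNormal x n) = μ n := fun n => mul_inv_eq_one.1 (DFunLike.congr_fun h2 n)
    rw [map_mul, map_mul, h4,
      ← map_mul, mul_inv_cancel, map_one, mul_one, map_inv, inv_eq_one] at h3
    exact h3
  obtain ⟨v, hv, hvK⟩ := SetLike.not_le_iff_exists.1 hKN
  obtain ⟨l, hl, hl1⟩ := exists_unitsHom_of_not_mem (N := K.subgroupOf N) (fun a b => hNK a a.2 b b.2)
    (v := ⟨v, hv⟩) hvK
  by_cases h1 : inertia ψ ≤ N
  · exact ⟨_, isIrr_indFun_of_inertia_le hψ h1, deg_indFun hψ.isCharacter⟩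
  have hlψ := isIrr_lin_mul hψ l
  by_cases h2 : inertia (fun n : N => l n * ψ n) ≤ N
  · refine ⟨_, isIrr_indFun_of_inertia_le hlψ h2, (deg_indFun hlψ.isCharacter).trans ?_⟩
    rw [charDegree_eq (show (l 1 : ℂ) * ψ 1 = _ by rw [map_one, Units.val_one, one_mul, coe_charDegree hψ.isCharacter])]
  exfalso
  obtain ⟨x, hx, hxN⟩ := SetLike.not_le_iff_exists.1 h1
  obtain ⟨y, hy, hyN⟩ := SetLike.not_le_iff_exists.1 h2
  have e1 : ∀ n, ψ n = c y l n * cj y ψ n := fun n => by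
    have := mem_inertia'.1 hy n
    show _ = ((l (MulAut.conjNormal y n) * (l n)⁻¹ : ℂˣ) : ℂ) * ψ (MulAut.conjNormal y n)
    rw [Units.val_mul, mul_right_comm]
    exact (Units.eq_mul_inv_iff_mul_eq _).2 ((mul_comm _ _).trans this.symm)
  have e2 : cj x (cj y ψ) = cj y ψ := by
    rw [cj_cj, cj_eq_cj_iff, show y * x * y⁻¹ = y * x * y⁻¹ * x⁻¹ * x by group]
    exact mul_mem (le_inertia hψ.isClassFunction (hc (commutator_mem_commutator (mem_top y) (mem_top x)))) hx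
  refine hl1 (DFunLike.congr_fun (fpf y hyN l hl (fpf x hxN _ (hc1 y l hl) (inj _ (hc1 x _ (hc1 y l hl)) fun n => ?_))) _)
  have e3 := e1 (MulAut.conjNormal x n)
  rw [show ψ (MulAut.conjNormal x n) = ψ n from mem_inertia'.1 hx n,
    show cj y ψ (MulAut.conjNormal x n) = cj y ψ n from congrFun e2 n] at e3
  show ((c y l (MulAut.conjNormal x n) * (c y l n)⁻¹ : ℂˣ) : ℂ) * ψ n = ψ n
  conv_lhs => rw [e1 n, Units.val_mul, mul_assoc, Units.inv_mul_cancel_left, ← e3]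

/-- A largest normal subgroup with non-abelian quotient. -/
theorem exists_just [Finite G] (h0 : commutator G ≠ ⊥) : ∃ K : Subgroup G, ∃ _ : K.Normal, commutator (G ⧸ K) ≠ ⊥ ∧
    ∀ M : Subgroup (G ⧸ K), M.Normal → M ≠ ⊥ → commutator (G ⧸ K) ≤ M := by
  obtain ⟨K, ⟨hK, h1⟩, hm⟩ := (wellFounded_gt (α := Subgroup G)).has_min {K | K.Normal ∧ ¬ commutator G ≤ K}
    ⟨⊥, inferInstance, mt eq_bot_iff.2 h0⟩
  have e : commutator (G ⧸ K) = (commutator G).map (QuotientGroup.mk' K) := by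
    rw [_root_.commutator_def, _root_.commutator_def, map_commutator, ← MonoidHom.range_eq_map,
      QuotientGroup.range_mk']
  refine ⟨K, hK, fun c => h1 ?_, fun M hM hM0 => ?_⟩
  · rwa [e, Subgroup.map_eq_bot_iff, QuotientGroup.ker_mk'] at c
  · rw [e, map_le_iff_le_comap]
    by_contra c
    refine hm _ ⟨hM.comap _, c⟩ (lt_of_le_of_ne ((QuotientGroup.ker_mk' K).ge.trans (ker_le_comap _ _)) fun c => hM0 ?_)
    rw [← map_comap_eq_self_of_surjective (QuotientGroup.mk'_surjective K) M, ← c, Subgroup.map_eq_bot_iff, QuotientGroup.ker_mk']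

/-- Manz: two primes meet every prime divisor of a degree. -/
theorem two_primes [Finite G] [Group.IsSolvable G] : ∃ r p : ℕ, r.Prime ∧ p.Prime ∧ ∀ q χ, q.Prime →
    IsIrrCharacter G χ → q ∣ charDegree χ → (∃ ψ, IsIrrCharacter G ψ ∧ q ∣ charDegree ψ ∧ r ∣ charDegree ψ) ∨
      ∃ ψ, IsIrrCharacter G ψ ∧ q ∣ charDegree ψ ∧ p ∣ charDegree ψ := by
  haveI := Fintype.ofFinite G
  by_cases h0 : commutator G = ⊥
  · refine ⟨2, 2, Nat.prime_two, Nat.prime_two, fun q χ hq hχ h => absurd h ?_⟩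
    rw [(charDegree_eq_one hχ.isCharacter).2 (lin_of_comm hχ fun g hg => by rw [mem_bot.1 (h0.le hg)])]
    exact hq.not_dvd_one
  obtain ⟨K, hK, h1, h2⟩ := exists_just h0
  obtain ⟨hab, p, hp, hpV, h3⟩ := just_nonab h1 h2
  haveI := Fact.mk hp
  rcases h3 with ⟨h3, -⟩ | h3
  · refine ⟨p, p, hp, hp, fun q χ hq hχ h => Or.inl ?_⟩
    by_cases hd : p ∣ charDegree χ
    · exact ⟨χ, hχ, h, hd⟩
    obtain ⟨v, hv, hv1⟩ := (bot_or_exists_ne_one _).resolve_left h1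
    obtain ⟨β, hβ, hv2⟩ := exists_irr_ne hv1
    obtain ⟨k, hk⟩ := deg_pow_of_pgroup h3 hβ
    have h4 := isIrr_mul_of_restrict_irr hχ.isCharacter (restrict_irr_of_coprime (N := K) hχ
      (coe_charDegree hχ.isCharacter).symm (coprime_of_pgroup h3 hd)) (irr_inflate hβ) fun n hn => by
        rw [(QuotientGroup.eq_one_iff n).2 hn, QuotientGroup.mk_one]
    have h5 : charDegree ((fun g : G => β g) * χ) = p ^ k * charDegree χ := charDegree_eq (by
      rw [Nat.cast_mul, ← hk, coe_charDegree hβ.isCharacter, coe_charDegree hχ.isCharacter]; rfl)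
    refine ⟨_, h4, h5 ▸ h.mul_left _, h5 ▸ (dvd_pow_self p fun h => hv2 ?_).mul_right _⟩
    have h6 := (charDegree_eq_one hβ.isCharacter).1 (by rw [hk, h, pow_zero])
    rw [lin_comm hβ.isCharacter h6 hv, h6]
  let N := (commutator (G ⧸ K)).comap (QuotientGroup.mk' K)
  have hKN : K ≤ N := (QuotientGroup.ker_mk' K).ge.trans (ker_le_comap _ _)
  haveI : Nontrivial (G ⧸ K) := not_subsingleton_iff_nontrivial.1 fun _ => h1 (Subsingleton.elim _ _)
  obtain ⟨r, hr, hrd⟩ := Nat.exists_prime_and_dvd (n := N.index) (by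
    rw [index_comap_of_surjective _ (QuotientGroup.mk'_surjective K), Ne, index_eq_one]
    exact (IsSolvable.commutator_lt_top_of_nontrivial _).ne)
  refine ⟨r, p, hr, hp, fun q χ hq hχ h => ?_⟩
  haveI := Fintype.ofFinite N
  obtain ⟨ψ, hψ, h4⟩ := (hχ.isClassFunction.restrict N).exists_constituent fun c => hχ.apply_one_ne_zero (congrFun c 1)
  obtain ⟨h5, h6⟩ := deg_dvd_of_over hψ hχ h4
  by_cases hd : p ∣ charDegree ψ
  · exact Or.inr ⟨χ, hχ, h, hd.trans ((dvd_mul_left _ _).trans h5)⟩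
  obtain ⟨ξ, hξ, e⟩ := frob_deg (K := K) (N := N)
    (commutator_le.2 fun a _ b _ => commutator_mem_commutator (mem_top (a : G ⧸ K)) (mem_top (b : G ⧸ K)))
    (fun c => h1 (eq_bot_iff.2 fun v hv => by
      obtain ⟨v, rfl⟩ := QuotientGroup.mk_surjective v
      exact (QuotientGroup.eq_one_iff v).2 (c hv)))
    (fun a ha b hb => (QuotientGroup.eq_one_iff _).1 (commutatorElement_eq_one_iff_mul_comm.2 (hab _ ha _ hb)))
    (fun x hx v hv => by
      obtain ⟨w, hw, e⟩ := h3 x hx v hv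
      obtain ⟨w, rfl⟩ := QuotientGroup.mk_surjective w
      exact ⟨w, hw, QuotientGroup.eq.1 e⟩) hψ
    (restrict_irr_of_coprime hψ (coe_charDegree hψ.isCharacter).symm (coprime_of_pgroup (fun v => ⟨1, by
      obtain ⟨v, rfl⟩ := QuotientGroup.mk_surjective v
      rw [pow_one]
      exact (QuotientGroup.eq_one_iff (v ^ p)).2 ((QuotientGroup.eq_one_iff ((v : G) ^ p)).1 (hpV _ v.2))⟩) hd))
  exact Or.inl ⟨ξ, hξ, e ▸ h.trans h6, e ▸ hrd.mul_right _⟩

end CfsgCd
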