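import Cfsg.Agent.H9.Cp3
import Cfsg.Agent.H4.Jor2
import Cfsg.Agent.H4.Ext2
import Cfsg.Agent.H4.Fong2
import Cfsg.Agent.H4.Ch2

/-! Itô's theorem on `p`-solvable linear groups of degree less than `p`. -/

set_option autoImplicit false
open Subgroup Cfsg CfsgH3 CfsgH4 CfsgCP Function
open CfsgH2 hiding cj cj_apply
open scoped commutatorElement ComplexConjugate

namespace CfsgIto

variable {G : Type*} [Group G] [Finite G] {χ : G → ℂ} {p : ℕ} [hp : Fact p.Prime] {P K : Subgroup G}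

theorem exists_con (hχ : IsCharacter G χ) {x : G} (hx : χ x ≠ χ 1) [Fintype G] :
    ∃ ψ, IsIrrCharacter G ψ ∧ classInner χ ψ ≠ 0 ∧ ψ x ≠ ψ 1 := by
  by_contra! h
  refine hx ?_
  rw [hχ.isClassFunction.apply_eq_sum_irr x, hχ.isClassFunction.apply_eq_sum_irr 1]
  refine Finset.sum_congr rfl fun ψ _ => ?_
  by_cases e : classInner χ ψ = 0
  · rw [e, zero_mul, zero_mul]
  · rw [h ψ ψ.2 e]

theorem exists_sp' (hP : IsPGroup p P) (hK : ¬ p ∣ o[K]) (hn : P ≤ N[K]) (hc : ¬ P ≤ C[K]) :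
    ∃ (q : ℕ) (_ : Fact q.Prime) (Q : Subgroup G), p ≠ q ∧ Q ≤ K ∧ P ≤ N[Q] ∧ SP q Q P := by
  by_contra h
  refine hc (le_centralizer_iff.1 (le_of_syl fun q _ b => ?_))
  have pq : p ≠ q := fun e => hK (e ▸ b)
  obtain ⟨S, p1, p2⟩ := exists_inv_syl q hn (coprime_of_pgroup hP hK) (.inl (isSolvable_of_pgroup hP))
  refine ⟨S, p1, by_contra fun z => ?_⟩
  obtain ⟨Q, q1, q2, q3⟩ := exists_SP p1.pg p2 le_rfl le_normalizer (not_dvd_pg hP pq.symm) (mt le_centralizer_iff.1 z)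
  exact h ⟨q, ‹_›, Q, pq, q1.trans p1.le, q2, q3⟩

theorem core (hχ : IsCharacter G χ) (hf : ∀ g, χ g = χ 1 → g = 1) (hd : charDegree χ + 1 ≤ p) (hP : IsPGroup p P)
    (hK : ¬ p ∣ o[K]) (hn : P ≤ N[K]) (hc : ¬ P ≤ C[K]) :
    charDegree χ + 1 = p ∧ (∃ k, charDegree χ = 2 ^ k) ∧ IsIrrCharacter G χ := by
  obtain ⟨q, _, Q, pq, -, nQ, h⟩ := exists_sp' hP hK hn hc
  obtain ⟨⟨x, hx⟩, h1⟩ := ne_bot_iff_exists_ne_one.1 h.ne
  have := Fintype.ofFinite (P ⊔ Q : Subgroup G)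
  have hL := hχ.restrict (P ⊔ Q)
  obtain ⟨ψ, hψ, h2, h3⟩ := exists_con hL (x := ⟨x, mem_sup_right hx⟩) fun e => h1 (Subtype.ext (hf x e))
  have h4 : charDegree ψ ≤ charDegree χ := hL.degree_le_of_constituent hψ h2 (coe_charDegree hψ.isCharacter).symm (coe_charDegree hχ).symm
  haveI := normal_subgroupOf_of_le_normalizer (sup_le nQ le_normalizer : P ⊔ Q ≤ N[Q])
  have h5 := restrict_irr_of_coprime (N := Q.subgroupOf (P ⊔ Q)) hψ (coe_charDegree hψ.isCharacter).symm (by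
    refine (coprime_of_pgroup hP (Nat.not_dvd_of_pos_of_lt (charDegree_pos hψ) (by omega))).coprime_dvd_left ?_
    rw [← relIndex, relIndex_sup_of_norm nQ]
    exact relIndex_dvd_card _ _)
  have e : ∀ y (hy : y ∈ P ⊔ Q), extendByZero _ ψ y = ψ ⟨y, hy⟩ := fun y hy => extendByZero_of_mem ψ hy
  obtain ⟨K, R, d, k⟩ := exists_KD (Q := Q) (θ := extendByZero _ ψ) (by
    convert h5.comp_equiv (subgroupOfEquivOfLe le_sup_right).symm using 2 with y
    exact e _ _) h.cl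
  have i : P ≤ Inv Q (extendByZero _ ψ) := fun u hu => ⟨nQ hu, fun y hy => by
    rw [e y (mem_sup_right hy), e _ (mem_sup_right (conj_mem_of_norm (nQ hu) hy))]
    exact hψ.isClassFunction ⟨y, mem_sup_right hy⟩ ⟨u, mem_sup_left hu⟩⟩
  have h6 := k.one_lt i fun l => h3 (by
    have := ((k.ker x).1 (l (h.comm.symm ▸ hx))).2
    rwa [e x (mem_sup_right hx), e 1 (one_mem _)] at this)
  have h7 : d = charDegree ψ := by
    have := k.deg
    rw [e 1 (one_mem _)] at this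
    exact_mod_cast this.symm.trans (coe_charDegree hψ.isCharacter).symm
  have h8 : d ^ 2 * o[R] ≡ 1 * o[R] [MOD p] := by
    rw [k.card, one_mul]
    refine (card_modEq_inf_cent hP nQ).trans ?_
    rw [show Q ⊓ C[P] = R ⊓ C[P] from le_antisymm (le_inf ((le_inf inf_le_left (h.cen ▸ h.phi)).trans k.center_le) inf_le_right)
      (inf_le_inf_right _ k.R_le)]
    exact (card_modEq_inf_cent hP (i.trans k.inv_R)).symm
  have h9 : p ∣ (d + 1) * (d - 1) := by
    have := (Nat.ModEq.cancel_right_of_coprime ((hp.out.coprime_iff_not_dvd.2 (not_dvd_pg (h.pg.to_le k.R_le) pq))) h8).symm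
    rwa [Nat.modEq_iff_dvd' (Nat.one_le_pow _ _ k.pos), ← one_pow 2, Nat.sq_sub_sq] at this
  have h10 := Nat.le_of_dvd (Nat.succ_pos _) ((hp.out.dvd_mul.1 h9).resolve_right (Nat.not_dvd_of_pos_of_lt (by omega) (by omega)))
  have h11 : charDegree χ = d := by omega
  refine ⟨by omega, ?_, hχ.isIrr_of_restrict (P ⊔ Q) ?_⟩
  · obtain ⟨m, hm⟩ := k.pow_eq h.pg
    have : 2 ∣ q ^ m := by
      have := hp.out.eq_two_or_odd
      omega
    exact ⟨m, by rw [h11, hm, (Nat.prime_dvd_prime_iff_eq Nat.prime_two Fact.out).1 (Nat.prime_two.dvd_of_dvd_pow this)]⟩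
  · rwa [hL.eq_of_constituent_of_apply_one hψ h2 (by rw [← coe_charDegree hψ.isCharacter, ← h7, ← h11]; exact (coe_charDegree hχ).symm)]

theorem comm_pg (hχ : IsCharacter G χ) (hf : ∀ g, χ g = χ 1 → g = 1) (hd : charDegree χ + 1 ≤ p) (hP : IsPGroup p P) :
    P ≤ C[P] := fun x hx y hy => Jor.comm_of_big hχ hf (fun q hq h => by
  rwa [(isPGroup_iff_piN.1 hP q hq h : q = p)]) y hy x hx

theorem ito (hχ : IsCharacter G χ) (hf : ∀ g, χ g = χ 1 → g = 1) (hd : charDegree χ + 1 ≤ p) (hs : IsPSolvable p G)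
    (hP : Syl p P ⊤) (hn : ¬ P.Normal) : charDegree χ + 1 = p ∧ (∃ k, charDegree χ = 2 ^ k) ∧ IsIrrCharacter G χ := by
  refine core hχ hf hd hP.pg (K := pPrimeCore p G) not_dvd_pPrimeCore le_normalizer_of_normal fun c => hn ?_
  obtain ⟨a, b, k, hk⟩ := pPrimePCore_facts (p := p) (G := G)
  have h1 := hP.inf_norm (K := pPrimePCore p G) le_top le_normalizer_of_normal
  have h2 : P ≤ pPrimePCore p G := ((comm_pg hχ hf hd hP.pg).trans (CfsgH2.cent_anti inf_le_left)).trans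
    (cent_le_pPrimePCore hs (CfsgH1.syl_iff.2 h1))
  have h3 := hP.mono h2 le_top
  have h4 : P ⊔ pPrimeCore p G = pPrimePCore p G := by
    refine le_antisymm (sup_le h2 a) (relIndex_eq_one.1 ?_)
    exact ((hp.out.coprime_iff_not_dvd.2 (h3.not_dvd_of_le le_sup_left)).symm.pow_right k).eq_one_of_dvd
      (hk ▸ relIndex_dvd_of_le_left _ le_sup_right)
  exact normalizer_eq_top_iff.1 (top_le_iff.1 (le_normalizer_of_normal.trans (h3.norm_le_of_norm
    (h4 ▸ sup_le le_normalizer ((le_centralizer_iff.1 c).trans (centralizer_le_normalizer _))))))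

end CfsgIto
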