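import Cfsg.Agent.H3.Hv1
import Cfsg.Agent.H1.Frob
import Cfsg.Agent.H2.BG0
import Cfsg.Agent.H2.PG3
import Cfsg.Agent.H3.Wiel

/-!
Element orders in extensions: a Frobenius group acting on a `p`-group.
-/

set_option autoImplicit false

open Subgroup CfsgH2 CfsgH1

namespace CfsgMz

variable {G : Type*} [Group G] [Finite G] {U V X P : Subgroup G} {h : G}

open scoped IsMulCommutative in
theorem frob_free (F : Frob U (zpowers h) X) [IsMulCommutative V] (hX : X ≤ N[V]) (hc : o[V].Coprime o[U])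
    (h0 : ∀ v ∈ V, (v * h) ^ orderOf h = 1) : U ≤ C[V] := by
  classical
  have := Fintype.ofFinite U
  let ρ : G → V →* V := fun g => if hg : g ∈ N[V] then (V.normalizerMonoidHom ⟨g, hg⟩).toMonoidHom else 1
  have r : ∀ g ∈ X, ∀ v, (ρ g v : G) = g * v * g⁻¹ := fun g hg v => by simp only [ρ, dif_pos (hX hg)]; rfl
  have rm : ∀ a ∈ X, ∀ b ∈ X, ∀ v, ρ (a * b) v = ρ a (ρ b v) := fun a ha b hb v => Subtype.ext (by
    rw [r _ (X.mul_mem ha hb), r a ha, r b hb]; group)
  have r1 : ∀ v, ρ 1 v = v := fun v => Subtype.ext (by rw [r _ X.one_mem]; simp)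
  have hh : ∀ i : ℕ, h ^ i ∈ X := fun i => F.comp_le (pow_mem (mem_zpowers h) i)
  have n1 : ∀ (w : V) (k : ℕ), ((w : G) * h) ^ k = (∏ i ∈ Finset.range k, ρ (h ^ i) w : V) * h ^ k := fun w k => by
    induction k with
    | zero => simp
    | succ k ih => rw [pow_succ, ih, Finset.prod_range_succ, coe_mul, r _ (hh k)]; group
  obtain ⟨n, hn⟩ := Nat.exists_eq_succ_of_ne_zero (orderOf_pos h).ne'
  have n2 : ∀ w : V, ∏ i ∈ Finset.range n, ρ (h ^ (i + 1)) w = w⁻¹ := fun w => by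
    have := n1 w (orderOf h)
    rw [h0 w w.2, pow_orderOf_eq_one, mul_one, hn, Finset.prod_range_succ', pow_zero, r1] at this
    exact eq_inv_of_mul_eq_one_left (Subtype.ext this.symm)
  have n3 : ∀ v : V, ∀ i ∈ Finset.range n, ∏ u : U, ρ u (ρ (h ^ (i + 1)) v) =
      ∏ y : U, ρ y (ρ (h ^ (i + 1)) (ρ (y : G)⁻¹ v)) := fun v i hi => by
    set e := h ^ (i + 1)
    have e1 : e ≠ 1 := pow_ne_one_of_lt_orderOf (by omega) (by have := Finset.mem_range.1 hi; omega)
    have e2 : e ∈ zpowers h := pow_mem (mem_zpowers h) _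
    let φ : U → U := fun y => ⟨y * (e * (y : G)⁻¹ * e⁻¹), U.mul_mem y.2 (conj_mem_of_norm (F.norm e2) (U.inv_mem y.2))⟩
    have inj : Function.Injective φ := fun y z hyz => by
      have a : (y : G) * (e * (y : G)⁻¹ * e⁻¹) = z * (e * (z : G)⁻¹ * e⁻¹) := congrArg Subtype.val hyz
      have := F.eq_one (U.mul_mem (U.inv_mem z.2) y.2) e2 (by
        calc (z : G)⁻¹ * y * e = (z : G)⁻¹ * (y * (e * (y : G)⁻¹ * e⁻¹)) * e * y := by group
          _ = _ := by rw [a]; group)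
      exact Subtype.ext (inv_mul_eq_one.1 (this.resolve_right e1)).symm
    refine (Fintype.prod_bijective φ (Finite.injective_iff_bijective.1 inj) _ _ fun y => Subtype.ext ?_).symm
    rw [r _ (F.ker_le y.2), r _ (hh _), r _ (X.inv_mem (F.ker_le y.2)), r _ (F.ker_le (φ y).2), r _ (hh _)]
    simp only [φ, e]; group
  have n4 : ∀ v : V, ∏ u : U, ρ u v = v ^ o[U] := fun v => by
    have := Finset.prod_congr rfl (n3 v)
    rw [Finset.prod_comm, Finset.prod_comm (s := Finset.range n)] at this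
    simp only [← map_prod, n2, map_inv, Finset.prod_inv_distrib, inv_inj] at this
    rw [this, Finset.prod_congr rfl (g := fun _ => v) fun y _ => by
      rw [← rm _ (F.ker_le y.2) _ (X.inv_mem (F.ker_le y.2)), mul_inv_cancel, r1]]
    simp
  intro u hu v hv
  have : ρ u ⟨v, hv⟩ = ⟨v, hv⟩ := (powCoprime hc).injective (by
    simp only [powCoprime_apply]
    rw [← map_pow, ← n4, map_prod]
    exact Fintype.prod_equiv (Equiv.mulLeft ⟨u, hu⟩) _ _ fun y => (rm _ (F.ker_le hu) _ (F.ker_le y.2) _).symm)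
  have := (r u (F.ker_le hu) _).symm.trans (congrArg Subtype.val this)
  exact (mul_inv_eq_iff_eq_mul.1 this).symm

theorem exists_order_of_dvd {x : G} {n : ℕ} (hn : n ∣ orderOf x) : ∃ y : G, orderOf y = n :=
  ⟨x ^ (orderOf x / n), by
    rw [orderOf_pow_of_dvd (Nat.div_pos (Nat.le_of_dvd (orderOf_pos x) hn)
      (Nat.pos_of_dvd_of_pos hn (orderOf_pos x))).ne' (Nat.div_dvd_of_dvd hn), Nat.div_div_self hn (orderOf_pos x).ne']⟩

theorem frob_order {p : ℕ} [hp : Fact p.Prime] (F : Frob U (zpowers h) X) (hP : PG[p, P]) (hX : X ≤ N[P])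
    (hd : X ⊓ P = ⊥) (hc : o[U].Coprime o[P]) (h0 : ¬ U ≤ C[P]) : ∃ g : G, orderOf g = p * orderOf h := by
  have n1 : X ≤ N[Φ[P]] := hX.trans norm_le_norm_phi
  have hh : h ∈ X := F.comp_le (mem_zpowers h)
  have d1 : X ⊓ Φ[P] = ⊥ := eq_bot_iff.2 ((inf_le_inf_left _ phi_le).trans hd.le)
  have F' := CfsgH3.frob_qt_of_disj F n1 d1
  rw [qt_zpowers (n1 hh)] at F'
  set k := qmk Φ[P] ⟨h, n1 hh⟩
  have ok : orderOf k = orderOf h := by
    rw [← Nat.card_zpowers, ← qt_zpowers, card_qt_of_disj (F.comp_le.trans n1)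
      (eq_bot_iff.2 ((inf_le_inf_right _ F.comp_le).trans d1.le)), Nat.card_zpowers]
  have el := elem_qt_phi hP
  haveI := el.1
  obtain ⟨v, hv, v1⟩ : ∃ v ∈ qt Φ[P] P, (v * k) ^ orderOf k ≠ 1 := by
    by_contra h1; push Not at h1
    refine h0 (coprime_le_cent_of_phi (F.ker_le.trans hX) hc ?_)
    rw [commutator_comm]
    exact (qt_le_cent_iff (F.ker_le.trans n1) le_norm_phi).1 (frob_free F' (qt_le_norm hX) (coprime_qt hc.symm) h1)
  have kn : k ∈ N[qt Φ[P] P] := qmk_mem_norm _ (hX hh)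
  have m : ∀ n : ℕ, (v * k) ^ n * (k ^ n)⁻¹ ∈ qt Φ[P] P := fun n => by
    induction n with
    | zero => simp
    | succ n ih =>
      have := mul_mem hv (conj_mem_of_norm kn ih)
      rwa [show v * (k * ((v * k) ^ n * (k ^ n)⁻¹) * k⁻¹) = (v * k) ^ (n + 1) * (k ^ (n + 1))⁻¹ by
        rw [pow_succ', pow_succ']; group] at this
  have d2 : orderOf k ∣ orderOf (v * k) := by
    have := m (orderOf (v * k))
    rw [pow_orderOf_eq_one, one_mul, inv_mem_iff] at this
    have b : k ^ orderOf (v * k) ∈ qt Φ[P] (X ⊓ P) := by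
      rw [qt_inf phi_le]; exact ⟨pow_mem (qmk_mem_qt _ hh) _, this⟩
    rw [hd, qt_bot, mem_bot] at b
    exact orderOf_dvd_of_pow_eq_one b
  have d3 : orderOf ((v * k) ^ orderOf k) = p := orderOf_eq_prime (el.2 _ (by simpa using m (orderOf k))) v1
  rw [orderOf_pow_of_dvd (orderOf_pos k).ne' d2] at d3
  obtain ⟨y, hy⟩ := qmk_surj (v * k)
  refine exists_order_of_dvd (x := (y : G)) ((Dvd.dvd.trans ?_ (orderOf_qmk_dvd y)))
  rw [hy, ← ok, ← d3, Nat.div_mul_cancel d2]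

end CfsgMz
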