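import Cfsg.Agent.H3.Hk5

/-! Split rank one set-up: fixed points of real elements and the case `|Q| = q ^ 3`. -/

set_option autoImplicit false
open Subgroup Cfsg CfsgH2 CfsgH1 CfsgH3 Function MulAction
open scoped commutatorElement IsMulCommutative

namespace CfsgRO

section co
variable {G : Type*} [Group G] {A X Y : Subgroup G} {F : Type*} [Field F] {c l : G → F}

/-- field coordinates for an irreducible abelian action on a section -/
structure Co0 (A X Y : Subgroup G) (c l : G → F) : Prop where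
  le : Y ≤ X
  nX : A ≤ N[X]
  add : ∀ x ∈ X, ∀ y ∈ X, c (x * y) = c x + c y
  ker : ∀ x ∈ X, (c x = 0 ↔ x ∈ Y)
  surj : ∀ z, ∃ x ∈ X, c x = z
  conj : ∀ k ∈ A, ∀ x ∈ X, c (k * x * k⁻¹) = l k * c x

namespace Co0

theorem one (h : Co0 A X Y c l) : c 1 = 0 := (h.ker 1 (one_mem _)).2 (one_mem _)

theorem inv (h : Co0 A X Y c l) {x : G} (hx : x ∈ X) : c x⁻¹ = - c x := by
  rw [eq_neg_iff_add_eq_zero, ← h.add _ (inv_mem hx) _ hx, inv_mul_cancel, h.one]

theorem zero (h : Co0 A X Y c l) {x : G} (hx : x ∈ Y) : c x = 0 := (h.ker x (h.le hx)).2 hx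

theorem eq_iff (h : Co0 A X Y c l) {x y : G} (hx : x ∈ X) (hy : y ∈ X) : c x = c y ↔ x⁻¹ * y ∈ Y := by
  rw [← h.ker _ (mul_mem (inv_mem hx) hy), h.add _ (inv_mem hx) _ hy, h.inv hx, neg_add_eq_zero]

theorem eq_iff' (h : Co0 A X Y c l) {x y : G} (hx : x ∈ X) (hy : y ∈ X) : c x = c y ↔ x * y⁻¹ ∈ Y := by
  rw [← h.ker _ (mul_mem hx (inv_mem hy)), h.add _ hx _ (inv_mem hy), h.inv hy, add_neg_eq_zero]

theorem lone (h : Co0 A X Y c l) : l 1 = 1 := by
  obtain ⟨x, hx, e⟩ := h.surj 1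
  have := h.conj 1 (one_mem _) x hx
  rw [one_mul, inv_one, mul_one, e, mul_one] at this
  exact this.symm

theorem lmul (h : Co0 A X Y c l) {k k' : G} (hk : k ∈ A) (hk' : k' ∈ A) : l (k * k') = l k * l k' := by
  obtain ⟨x, hx, e⟩ := h.surj 1
  have h1 := h.conj _ (mul_mem hk hk') x hx
  rw [show k * k' * x * (k * k')⁻¹ = k * (k' * x * k'⁻¹) * k⁻¹ by group,
    h.conj _ hk _ (conj_mem_of_norm (h.nX hk') hx), h.conj _ hk' _ hx, e] at h1
  simpa using h1.symm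

theorem lne (h : Co0 A X Y c l) {k : G} (hk : k ∈ A) : l k ≠ 0 := by
  intro e
  have := h.lmul hk (inv_mem hk)
  rw [mul_inv_cancel, h.lone, e, zero_mul] at this
  exact one_ne_zero this

theorem linv (h : Co0 A X Y c l) {k : G} (hk : k ∈ A) : l k⁻¹ = (l k)⁻¹ := by
  refine eq_inv_of_mul_eq_one_right ?_
  rw [← h.lmul hk (inv_mem hk), mul_inv_cancel, h.lone]

theorem lpow (h : Co0 A X Y c l) {k : G} (hk : k ∈ A) (n : ℕ) : l (k ^ n) = l k ^ n := by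
  induction n with
  | zero => rw [pow_zero, pow_zero, h.lone]
  | succ n ih => rw [pow_succ, pow_succ, h.lmul (pow_mem hk n) hk, ih]

theorem scale (h : Co0 A X Y c l) {a : F} (ha : a ≠ 0) : Co0 A X Y (fun x => a * c x) l where
  le := h.le
  nX := h.nX
  add x hx y hy := by rw [h.add x hx y hy, mul_add]
  ker x hx := by rw [mul_eq_zero, h.ker x hx]; simp [ha]
  surj z := by
    obtain ⟨x, hx, e⟩ := h.surj (a⁻¹ * z)
    exact ⟨x, hx, by rw [e, mul_inv_cancel_left₀ ha]⟩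
  conj k hk x hx := by rw [h.conj k hk x hx]; ring

end Co0

theorem exists_coord0 {V : Type*} [AddCommGroup V] [Finite V] {K : Type*} [Group K]
    (ρ : K →* AddMonoid.End V) (hc : ∀ k l : K, k * l = l * k) [Nontrivial V]
    (irr : ∀ W : AddSubgroup V, (∀ k, ∀ v ∈ W, ρ k v ∈ W) → W = ⊥ ∨ W = ⊤)
    (F : Type*) [Field F] [Finite F] (hF : Nat.card F = Nat.card V) :
    ∃ (e : V ≃+ F) (l : K → F), ∀ k v, e (ρ k v) = l k * e v := by
  classical
  obtain ⟨R, hm, hf, hR, hb⟩ := exists_field ρ hc irr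
  letI := hf.toField
  obtain ⟨v0, hv0⟩ := exists_ne (0 : V)
  let ev : R ≃+ V := AddEquiv.ofBijective (AddMonoidHom.mk' (fun r : R => r.1 v0) (fun _ _ => rfl)) (hb v0 hv0)
  haveI : Finite R := Finite.of_equiv _ ev.toEquiv.symm
  haveI := Fintype.ofFinite R
  haveI := Fintype.ofFinite F
  let φ : R ≃+* F := FiniteField.ringEquivOfCardEq (by
    rw [← Nat.card_eq_fintype_card, ← Nat.card_eq_fintype_card, hF, Nat.card_congr ev.toEquiv])
  refine ⟨ev.symm.trans φ.toAddEquiv, fun k => φ ⟨ρ k, hm k⟩, fun k v => ?_⟩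
  obtain ⟨r, rfl⟩ := ev.surjective v
  have : ρ k (ev r) = ev (⟨ρ k, hm k⟩ * r) := rfl
  rw [this]
  simp only [AddEquiv.trans_apply, AddEquiv.symm_apply_apply]
  exact map_mul φ _ _

variable [Finite G] [Finite F]

theorem exists_co0_bot (hF : Nat.card F = o[X]) (hKc : Ab[A]) (hX : Ab[X]) (h0 : X ≠ ⊥) (nX : A ≤ N[X])
    (irr : ∀ Z ≤ X, A ≤ N[Z] → Z = ⊥ ∨ Z = X) : ∃ c l : G → F, Co0 A X ⊥ c l := by
  classical
  haveI := hX
  let ρ : A →* AddMonoid.End (Additive X) :=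
    { toFun := fun k => cE X k
      map_one' := cE_one
      map_mul' := fun a b => cE_mul (nX a.2) (nX b.2) }
  haveI : Nontrivial (Additive X) := (nontrivial_iff_ne_bot X).2 h0
  obtain ⟨e, l, he⟩ := exists_coord0 ρ (fun a b => Subtype.ext (comm_of_isMulComm hKc a.2 b.2))
    (fun W hW => by
      rcases irr ((AddSubgroup.toSubgroup' W).map X.subtype) (map_subtype_le _) (fun k hk =>
        mem_norm_of_conj (by
          rintro _ ⟨w, hw, rfl⟩
          exact ⟨(ρ ⟨k, hk⟩ (Additive.ofMul w)).toMul, hW _ _ hw, cE_apply (nX hk) _⟩)) with h | h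
      · left
        rw [Subgroup.map_eq_bot_iff_of_injective _ X.subtype_injective] at h
        rw [eq_bot_iff]
        intro w hw
        have : w.toMul ∈ AddSubgroup.toSubgroup' W := hw
        rw [h, mem_bot] at this
        exact this
      · right
        rw [eq_top_iff]
        intro w _
        have : (w.toMul : G) ∈ (AddSubgroup.toSubgroup' W).map X.subtype := by rw [h]; exact w.toMul.2
        obtain ⟨w', hw', e⟩ := this
        rw [show w = Additive.ofMul w' from congrArg Additive.ofMul (Subtype.ext e.symm)]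
        exact hw') F hF
  refine ⟨fun x => if hx : x ∈ X then e (Additive.ofMul ⟨x, hx⟩) else 0,
    fun k => if hk : k ∈ A then l ⟨k, hk⟩ else 0, bot_le, nX, ?_, ?_, ?_, ?_⟩
  · intro x hx y hy
    simp only [dif_pos hx, dif_pos hy, dif_pos (mul_mem hx hy)]
    rw [← map_add]; rfl
  · intro x hx
    simp only [dif_pos hx, mem_bot, map_eq_zero_iff _ e.injective]
    exact ⟨fun h => congrArg Subtype.val (show (⟨x, hx⟩ : X) = 1 from h), fun h => by subst h; rfl⟩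
  · intro z
    refine ⟨(e.symm z).toMul, (e.symm z).toMul.2, ?_⟩
    simp only [dif_pos (e.symm z).toMul.2]
    exact e.apply_symm_apply z
  · intro k hk x hx
    simp only [dif_pos hx, dif_pos hk, dif_pos (conj_mem_of_norm (nX hk) hx)]
    rw [← he]
    congr 1
    exact congrArg Additive.ofMul (Subtype.ext (cE_apply (nX hk) (Additive.ofMul ⟨x, hx⟩)).symm)

theorem exists_co0 (hF : Nat.card F = Y.relIndex X) (hKc : Ab[A]) (hl : Y < X) (nY : X ≤ N[Y])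
    (nX : A ≤ N[X]) (nY' : A ≤ N[Y]) (hc : ⁅X, X⁆ ≤ Y)
    (irr : ∀ Z, Y ≤ Z → Z ≤ X → A ≤ N[Z] → Z = Y ∨ Z = X) : ∃ c l : G → F, Co0 A X Y c l := by
  classical
  obtain ⟨c, l, h⟩ := exists_co0_bot (F := F) (A := qt Y A) (X := qt Y X) (by rw [hF, card_qt nY])
    (isMulComm_qt hKc) ((isMulComm_qt_iff nY).2 hc)
    (fun e => hl.not_ge ((qt_eq_bot nY).1 e)) (qt_le_norm nX)
    (fun Z hZ hn => by
      obtain ⟨B, h1, h2, rfl⟩ := exists_qt_eq Z
      rcases irr B h1 ((qt_le_qt' h2 nY hl.le).1 hZ) ((qt_le_norm_iff nY' h2 h1).1 hn) with h | h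
      · left; rw [h, qt_self]
      · right; rw [h])
  refine ⟨fun x => if hx : x ∈ N[Y] then c (qmk Y ⟨x, hx⟩) else 0,
    fun x => if hx : x ∈ N[Y] then l (qmk Y ⟨x, hx⟩) else 0, hl.le, nX, ?_, ?_, ?_, ?_⟩
  · intro x hx y hy
    simp only [dif_pos (nY hx), dif_pos (nY hy), dif_pos (nY (mul_mem hx hy))]
    rw [← h.add _ (qmk_mem_qt _ hx) _ (qmk_mem_qt _ hy), ← map_mul]; rfl
  · intro x hx
    simp only [dif_pos (nY hx)]
    rw [h.ker _ (qmk_mem_qt _ hx), mem_bot, qmk_eq_one]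
  · intro z
    obtain ⟨y, hy, e⟩ := h.surj z
    obtain ⟨x, hx, rfl⟩ := mem_qt.1 hy
    exact ⟨x, hx, by simp only [dif_pos x.2]; exact e⟩
  · intro k hk x hx
    simp only [dif_pos (nY hx), dif_pos (nY' hk), dif_pos (nY (conj_mem_of_norm (nX hk) hx))]
    rw [← h.conj _ (qmk_mem_qt _ hk) _ (qmk_mem_qt _ hx), ← map_inv, ← map_mul, ← map_mul]; rfl

end co

theorem zpowers_stab {G : Type*} [Group G] [Finite G] {Y : Subgroup G} {k x : G} (kY : k ∈ N[Y])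
    (e : x⁻¹ * (k * x * k⁻¹) ∈ Y) : ∀ a ∈ zpowers k, x⁻¹ * (a * x * a⁻¹) ∈ Y := by
  intro a ha
  obtain ⟨m, rfl⟩ := mem_powers_iff_mem_zpowers.2 ha
  induction m with
  | zero => simp
  | succ m ih =>
    have := conj_mem_of_norm kY (ih (npow_mem_zpowers k m))
    have h2 := mul_mem e this
    simp only at h2 ⊢
    rwa [show x⁻¹ * (k * x * k⁻¹) * (k * (x⁻¹ * (k ^ m * x * (k ^ m)⁻¹)) * k⁻¹) =
      x⁻¹ * (k ^ (m + 1) * x * (k ^ (m + 1))⁻¹) by group] at h2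

variable {G Ω : Type*} [Group G] [Finite G] [MulAction G Ω] {a : Ω} {t : G} {Q : Subgroup G}

local notation "H" => stabilizer G a
local notation "D" => DD a t
local notation "K" => invertedBy (DD a t) t
local notation "I" => involutionsIn (SetLike.coe (stabilizer G a))

namespace RO

theorem str_sq (h : RO a t Q) (h2 : R2 G) {s r : G} (hs : s ∈ I) (hr : r ∈ Q)
    (e : t * s * t = r⁻¹ * t * r) : r⁻¹ * (s * t) * r = (s * t) * (s * t) := by
  calc r⁻¹ * (s * t) * r = (r⁻¹ * s) * t * r := by group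
    _ = s * (r⁻¹ * t * r) := by rw [← h.I_comm h2 hs (inv_mem hr)]; group
    _ = _ := by rw [← e]; group

theorem st_nmem (h : RO a t Q) {s : G} (hs : s ∈ H) : s * t ∉ H := by
  simpa using h.bru_nmem hs (one_mem _)

/-- an involution of `H` normalising `⟨st⟩` and inverting `st` is `s` -/
theorem eq_of_inverts (h : RO a t Q) (h2 : R2 G) {s u : G} (hs : s ∈ I) (hu : u ∈ Q)
    (e : u⁻¹ * (s * t) * u = t * s) : u = s := by
  by_contra ne
  have h1 : u * s ≠ 1 := fun e => ne (by rw [eq_inv_of_mul_eq_one_left e, inv_of_sq hs.2.2])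
  refine h.st_nmem hs.1 (h.cent_le (mul_mem hu (h.I_Q hs)) h1 (mc1.2 ?_))
  calc s * t * (u * s) = u * (u⁻¹ * (s * t) * u) * s := by group
    _ = u * t * (s * s) := by rw [e]; group
    _ = u * (s * s) * t := by rw [hs.2.2]; group
    _ = _ := by group

theorem str_eq (h : RO a t Q) (h2 : R2 G) {s r : G} (hs : s ∈ I) (hr : r ∈ Q0 G a)
    (e : t * s * t = r⁻¹ * t * r) : r = s := by
  have h1 := h.str_sq h2 hs (h.Q0_le hr) e
  have r2 := ((h.mem_Q0 h2).1 hr).2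
  have h3 : (s * t) * (s * t) * ((s * t) * (s * t)) = s * t := by
    calc (s * t) * (s * t) * ((s * t) * (s * t))
        = (r⁻¹ * (s * t) * r) * (r⁻¹ * (s * t) * r) := by rw [h1]
      _ = r⁻¹ * ((s * t) * (s * t)) * r := by group
      _ = (r * r)⁻¹ * (s * t) * (r * r) := by rw [← h1]; group
      _ = _ := by rw [r2]; group
  refine h.eq_of_inverts h2 hs (h.Q0_le hr) ?_
  rw [h1]
  calc s * t * (s * t) = (s * t) * (s * t) * ((s * t) * (s * t)) * (s * t)⁻¹ * (s * t)⁻¹ := by group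
    _ = (s * t)⁻¹ := by rw [h3]; group
    _ = t * s := by rw [mul_inv_rev, h.tinv, inv_of_sq hs.2.2]

theorem str_cases (h : RO a t Q) (h2 : R2 G) {s r : G} (hs : s ∈ I) (hr : r ∈ Q)
    (e : t * s * t = r⁻¹ * t * r) (h4 : r * r ∈ Q0 G a) : r = s ∨ r * r = s := by
  by_cases r2 : r * r = 1
  · exact .inl (h.str_eq h2 hs ((h.mem_Q0 h2).2 ⟨h.le hr, r2⟩) e)
  right
  have hI := h.Q0_I h2 h4 r2
  have h1 := h.str_sq h2 hs hr e
  set x := s * t with hx
  set z := r * r with hz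
  have h3 : z⁻¹ * x * z = x ^ 4 := by
    calc z⁻¹ * x * z = r⁻¹ * (r⁻¹ * x * r) * r := by rw [hz]; group
      _ = r⁻¹ * (x * x) * r := by rw [h1]
      _ = (r⁻¹ * x * r) * (r⁻¹ * x * r) := by group
      _ = _ := by rw [h1]; simp only [pow_succ, pow_zero]; group
  have zi : z⁻¹ = z := inv_of_sq hI.2.2
  -- `y = x * x^z` is centralised by `z`
  have h5 : z * (x * x ^ 4) = (x * x ^ 4) * z := by
    calc z * (x * x ^ 4) = z * (x ^ 4 * x) := by group
      _ = z * (z⁻¹ * x * z * x) := by rw [h3]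
      _ = x * (z⁻¹ * x * z) * z := by
          rw [zi, show x * (z * x * z) * z = x * z * x * (z * z) by group, hI.2.2,
            show z * (z * x * z * x) = (z * z) * x * z * x by group, hI.2.2]; group
      _ = _ := by rw [h3]
  have h6 : x * x ^ 4 ∈ H := h.cent_le (h.I_Q hI) hI.2.1 (mc1.2 h5.symm)
  have xi : x⁻¹ = t * s := by rw [hx, mul_inv_rev, h.tinv, inv_of_sq hs.2.2]
  have ht : t * x * t⁻¹ = x⁻¹ := by rw [xi, hx]; group
  have hs' : s * x * s⁻¹ = x⁻¹ := by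
    rw [xi, hx, inv_of_sq hs.2.2, ← mul_assoc, hs.2.2, one_mul]
  have pw : ∀ g : G, g * x * g⁻¹ = x⁻¹ → g * x ^ 5 * g⁻¹ = (x ^ 5)⁻¹ := fun g hg => by
    rw [← conj_pow, hg, inv_pow]
  rw [← pow_succ'] at h6
  have h7 : x ^ 5 ∈ K := ⟨h.mem_D.2 ⟨h6, by
    have := pw t ht; rw [h.tinv] at this; rw [this]; exact inv_mem h6⟩, pw t ht⟩
  have h8 : x ^ 5 * x ^ 5 = 1 := by
    refine h.eq_one_D ?_ (mul_mem h7.1 h7.1)
    have : x ^ 5 * x ^ 5 = (x ^ 5 * s * (x ^ 5)⁻¹) * s⁻¹ := by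
      have := pw s⁻¹ (by rw [inv_of_sq hs.2.2]; exact hs')
      calc x ^ 5 * x ^ 5 = x ^ 5 * (s * (s⁻¹ * x ^ 5 * s⁻¹⁻¹) * s⁻¹) := by group
        _ = _ := by rw [this]; group
    rw [this]; exact mul_mem (h.conj_Q h6 (h.I_Q hs)) (inv_mem (h.I_Q hs))
  have h9 := eq_one_of_sq (odd_of_mem h.od h7.1) h8
  refine h.eq_of_inverts h2 hs (h.I_Q hI) ?_
  rw [h3, ← xi, eq_inv_iff_mul_eq_one, ← pow_succ, h9]

theorem K_fix (h : RO a t Q) {k : G} (hk : k ∈ K) (h1 : k ≠ 1) {b : Ω} (e : k • b = b) :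
    b = a ∨ b = t • a := by
  by_cases hb : b = a
  · exact .inl hb
  obtain ⟨x, hx, rfl⟩ := h.ex_q hb
  have e2 : k * x * k⁻¹ = x := h.q_inj (h.conj_Q hk.1.1 hx) hx h.ta (by
    rw [mul_smul, mul_smul, show k⁻¹ • t • a = t • a from (inv_mem hk.1 : k⁻¹ ∈ D).2, e])
  have : x ∈ Q ⊓ C1[k] := ⟨hx, mc1.2 (mul_inv_eq_iff_eq_mul.1 e2).symm⟩
  rw [h.K_fpf hk h1, mem_bot] at this
  rw [this, one_smul]; exact .inr rfl

theorem real_fix (h : RO a t Q) {u y : G} (u2 : u * u = 1) (e : u * y * u = y⁻¹) (y1 : y ≠ 1) {p p' : Ω}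
    (hp : y • p = p) (hu : u • p ≠ p) (hp' : y • p' = p') : p' = p ∨ p' = u • p := by
  obtain ⟨g, g1, g2⟩ := h.two p (u • p) a (t • a) hu.symm h.ta.symm
  have h1 : g * u * g⁻¹ ∉ H := fun e => h.ta (by
    rw [← g2, ← g1]; rw [mem_stabilizer_iff, ← g1] at e; simpa [mul_smul] using e)
  obtain ⟨g', hg', e'⟩ := h.inv_out' h1 (by
    rw [show g * u * g⁻¹ * (g * u * g⁻¹) = g * (u * u) * g⁻¹ by group, u2]; group)
  have f1 : (g' * g) • p = a := by rw [mul_smul, g1, hg']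
  have f0 : t * (g' * g) = g' * g * u := by rw [← e']; group
  have f2 : (g' * g) • u • p = t • a := by rw [← mul_smul, ← f0, mul_smul, f1]
  set m := g' * g
  have yu : y • u • p = u • p := by
    rw [← mul_smul, show y * u = u * (u * y * u) by rw [← mul_assoc, ← mul_assoc, u2, one_mul], e,
      mul_smul, inv_smul_eq_iff.2 hp.symm]
  have hk : m * y * m⁻¹ ∈ K := by
    refine ⟨⟨?_, ?_⟩, ?_⟩
    · change (m * y * m⁻¹) • a = a
      rw [← f1]; simp [mul_smul, hp]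
    · change (m * y * m⁻¹) • t • a = t • a
      rw [← f2]; simp [mul_smul, yu]
    · calc t * (m * y * m⁻¹) * t⁻¹ = (t * m) * y * (t * m)⁻¹ := by group
        _ = m * (u * y * u⁻¹) * m⁻¹ := by rw [f0]; group
        _ = _ := by rw [inv_of_sq u2, e]; group
  rcases h.K_fix hk (by simpa using y1) (b := m • p') (by simp [mul_smul, hp']) with e1 | e1
  · left; rw [← f1] at e1; exact (smul_left_cancel_iff m).1 e1
  · right; rw [← f2] at e1; exact (smul_left_cancel_iff m).1 e1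

theorem inv_fix_unique (h : RO a t Q) {u : G} (u1 : u ≠ 1) (u2 : u * u = 1) {p p' : Ω}
    (hp : u • p = p) (hp' : u • p' = p') : p = p' := by
  obtain ⟨g, hg⟩ := h.inv_fix u1 u2
  have f : ∀ b : Ω, u • b = b → g • b = a := fun b hb =>
    h.fix_eq (h.I_Q hg) hg.2.1 (by simp [mul_smul, hb])
  exact (smul_left_cancel_iff g).1 ((f p hp).trans (f p' hp').symm)

theorem cent_Q [FaithfulSMul G Ω] (h : RO a t Q) {d : G} (hd : d ∈ D) (hc : d ∈ C[Q]) : d = 1 := by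
  refine eq_of_smul_eq_smul (α := Ω) fun b => ?_
  rw [one_smul]
  by_cases hb : b = a
  · rw [hb]; exact hd.1
  · obtain ⟨x, hx, rfl⟩ := h.ex_q hb
    rw [← mul_smul, ← mem_cent_iff.1 hc x hx, mul_smul, show d • t • a = t • a from hd.2]

theorem W_t (h : RO a t Q) {w : G} (hw : w ∈ D ⊓ C[Q0 G a]) : w ∈ C1[t] := by
  have : w ∈ D ⊓ centralizer I := by rwa [cent_Q0] at hw
  rw [← h.W_eq] at this; exact this.1.2

theorem W_K (h : RO a t Q) {w : G} (hw : w ∈ D ⊓ C[Q0 G a]) : w ∈ C[KK a t] := by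
  have : w ∈ D ⊓ centralizer I := by rwa [cent_Q0] at hw
  rw [← h.W_eq] at this; rw [cent_KK]; exact this.2

theorem mem_W (h : RO a t Q) {w : G} (hw : w ∈ D ⊓ C1[t]) (h1 : w ∈ C[KK a t]) : w ∈ D ⊓ C[Q0 G a] := by
  rw [cent_Q0, ← h.W_eq]; rw [cent_KK] at h1; exact ⟨hw, h1⟩

theorem fixed_lift (h : RO a t Q) (h2 : R2 G) {d x : G} (hd : d ∈ D)
    (e : x⁻¹ * (d * x * d⁻¹) ∈ Q0 G a) : ∃ z ∈ Q0 G a, x * z ∈ C1[d] := by
  obtain ⟨n, -, hn⟩ := h.card_Q0 h2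
  obtain ⟨z, hz, hc⟩ := coprime_fixed_coset (A := zpowers d) (zpowers_le.2 (n_Q0 hd.1))
    (by rw [hn, Nat.card_zpowers]
        exact Nat.Coprime.pow_right _ (Nat.coprime_two_right.2 (odd_of_mem h.od hd)))
    (Or.inl inferInstance) (zpowers_stab (n_Q0 hd.1) e)
  exact ⟨z, hz, by rwa [cent_zpowers] at hc⟩

end RO

/-- the case `|Q| = q ^ 3` -/
structure C3 {G Ω : Type*} [Group G] [MulAction G Ω] (a : Ω) (t : G) (Q : Subgroup G) : Prop
    extends RO a t Q where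
  r2 : R2 G
  pg : PG[2, Q]
  nab : ¬ Ab[Q]
  cd : o[Q] = o[Q0 G a] ^ 3

namespace C3

theorem sze (h : C3 a t Q) : SZE Q (KK a t) (Q0 G a) := h.toRO.sze h.r2 h.pg

theorem sq (h : C3 a t Q) {x : G} (hx : x ∈ Q) : x * x ∈ Q0 G a := h.sze.sq_mem h.nab hx

theorem sq_ne (h : C3 a t Q) {x : G} (hx : x ∈ Q) (hx' : x ∉ Q0 G a) : x * x ≠ 1 :=
  fun e => hx' ((h.sze.mem x).2 ⟨hx, e⟩)

theorem sq_eq (h : C3 a t Q) {x y : G} (hx : x ∈ Q) (e : x⁻¹ * y ∈ Q0 G a) : y * y = x * x := by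
  rw [← h.sze.sq_mul e hx, mul_inv_cancel_left]

theorem four_le (h : C3 a t Q) : 4 ≤ o[Q0 G a] := by
  obtain ⟨n, hn, e⟩ := h.card_Q0 h.r2
  rw [e]
  calc 4 = 2 ^ 2 := rfl
    _ ≤ _ := Nat.pow_le_pow_right (by norm_num) hn

theorem relIndex (h : C3 a t Q) : (Q0 G a).relIndex Q = o[Q0 G a] ^ 2 := by
  have := CfsgH2.card_mul_relIndex h.Q0_le
  rw [h.cd, pow_succ'] at this
  exact Nat.eq_of_mul_eq_mul_left (card_pos' _) this

theorem sq_arg (h : C3 a t Q) {w k x : G} (hw : w ∈ D ⊓ C[Q0 G a]) (hk : k ∈ KK a t) (hx : x ∈ Q)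
    (hx' : x ∉ Q0 G a) (e : (k * x * k⁻¹)⁻¹ * (w * x * w⁻¹) ∈ Q0 G a) : k = 1 := by
  have h1 := h.sq_eq (h.conj_Q (RO.KK_le hk).1 hx) e
  rw [conj_mul, conj_mul, ← mem_cent_iff.1 hw.2 _ (h.sq hx), mul_inv_cancel_right] at h1
  exact h.sze.fpf k hk _ (h.Q0_le (h.sq hx)) (h.sq_ne hx hx') (h.sze.sq (h.sq hx)) h1.symm

theorem mid (h : C3 a t Q) {B : Subgroup G} (h1 : Q0 G a ≤ B) (h2 : B ≤ Q) (kB : KK a t ≤ N[B]) :
    B = Q0 G a ∨ B = Q ∨ o[B] = o[Q0 G a] ^ 2 := by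
  obtain ⟨j, hj⟩ := h.sze.card_pow B h2 kB
  have q4 := h.four_le
  have l1 := card_le_of_le h1
  have l2 := card_le_of_le h2
  rw [hj, h.cd, Nat.pow_le_pow_iff_right (by omega)] at l2
  interval_cases j
  · rw [hj, pow_zero] at l1; omega
  · exact .inl (eq_of_le_card h1 (by rw [hj, pow_one])).symm
  · exact .inr (.inr hj)
  · exact .inr (.inl (eq_of_le_card h2 (by rw [hj, h.cd])))

theorem cent_mid (h : C3 a t Q) {B : Subgroup G} (h1 : Q0 G a ≤ B) (h2 : B ≤ Q) (kB : KK a t ≤ N[B])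
    (hc : o[B] = o[Q0 G a] ^ 2) {w : G} (hw : w ∈ D ⊓ C[Q0 G a]) (wB : w ∈ N[B]) : B ≤ C1[w] := by
  have hi : Ir (KK a t) B (Q0 G a) := h.sze.ir_of_relIndex h2 h1 (h2.trans h.sze.nE) kB h.sze.kE (by
    have := CfsgH2.card_mul_relIndex h1
    rw [hc, pow_two] at this
    exact Nat.eq_of_mul_eq_mul_left (card_pos' _) this)
  obtain ⟨F, _, _, hF⟩ := h.sze.exists_field
  obtain ⟨c, l, co⟩ := h.sze.co hF h2 hi
  intro b hb
  have cz : ∀ z ∈ Q0 G a, z ∈ C1[w] := fun z hz => mc1.2 (mem_cent_iff.1 hw.2 z hz)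
  by_cases hb' : b ∈ Q0 G a
  · exact cz b hb'
  have hwb := conj_mem_of_norm wB hb
  obtain ⟨k, hk, e⟩ := co.trans hb hb' hwb fun e => hb' (by
    have := conj_mem_of_norm' (RO.n_Q0 hw.1.1) e
    rwa [show w⁻¹ * (w * b * w⁻¹) * w = b by group] at this)
  have e' := (co.eq_iff (conj_mem_of_norm (kB hk) hb) hwb).1 e
  obtain rfl := h.sq_arg hw hk (h2 hb) hb' e'
  rw [one_mul, inv_one, mul_one] at e'
  obtain ⟨z, hz, hc⟩ := h.fixed_lift h.r2 hw.1 e'
  simpa using mul_mem hc (inv_mem (cz z hz))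

theorem cent_W [FaithfulSMul G Ω] (h : C3 a t Q) {w : G} (hw : w ∈ D ⊓ C[Q0 G a]) (w1 : w ≠ 1) :
    Q ⊓ C1[w] = Q0 G a := by
  have h1 : Q0 G a ≤ Q ⊓ C1[w] := le_inf h.Q0_le (le_cent1_iff.2 hw.2)
  have kA : KK a t ≤ N[Q ⊓ C1[w]] := le_norm_inf h.sze.nP (le_norm_of_le (le_cent1_iff.2 (h.W_K hw)))
  have nQ : ¬ Q ≤ C1[w] := fun e => w1 (h.cent_Q hw.1 (le_cent1_iff.1 e))
  rcases h.mid h1 inf_le_left kA with e | e | e
  · exact e
  · exact absurd (inf_eq_left.1 e) nQ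
  exfalso
  have aD : KK a t ⊔ zpowers w ≤ D := sup_le RO.KK_le (zpowers_le.2 hw.1)
  have nA : KK a t ⊔ zpowers w ≤ N[Q ⊓ C1[w]] := sup_le kA (zpowers_le.2
    (mem_norm_inf (h.nQ hw.1.1) (le_normalizer (self_mem_cent1 w))))
  have aZ : KK a t ⊔ zpowers w ≤ N[Q0 G a] := (aD.trans inf_le_left).trans RO.n_Q0
  obtain ⟨U, u1, u2, u3⟩ := CfsgBG.maschke (p := 2)
    (elem_qt_of_phi_le h.pg h.sze.nE (h.sze.phi_eq h.nab).le) (qt_mono (inf_le_left : Q ⊓ C1[w] ≤ Q))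
    (qt_le_norm ((aD.trans inf_le_left).trans h.nQ)) (qt_le_norm nA) (A := qt (Q0 G a) (KK a t ⊔ zpowers w))
    (odd_qt (odd_of_le h.od aD)).not_two_dvd_nat
  obtain ⟨U, a1, a2, rfl⟩ := exists_qt_eq U
  have UP : U ≤ Q := (qt_le_qt' a2 h.sze.nE h.Q0_le).1 (u3 ▸ le_sup_right)
  have nU := (qt_le_norm_iff aZ a2 a1).1 u1
  rw [← qt_inf a1, qt_eq_bot (inf_le_right.trans a2)] at u2
  rw [← qt_sup (inf_le_left.trans h.sze.nE) a2, qt_inj (sup_le (inf_le_left.trans h.sze.nE) a2)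
    h.sze.nE (a1.trans le_sup_right) h.Q0_le] at u3
  apply nQ
  rcases h.mid a1 UP (le_sup_left.trans nU) with e' | e' | e'
  · rw [e', sup_eq_left.2 h1] at u3; exact inf_eq_left.1 u3
  · rw [e', inf_eq_left.2 inf_le_left] at u2
    have := card_le_of_le u2
    have := h.four_le
    rw [e] at *; nlinarith
  · rw [← u3]
    exact sup_le inf_le_right (h.cent_mid a1 UP (le_sup_left.trans nU) e' hw
      (nU (mem_sup_right (mem_zpowers w))))

theorem exists_E (h : C3 a t Q) {w : G} (hw : w ∈ D ⊓ C[Q0 G a]) (hc : Q ⊓ C1[w] = Q0 G a)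
    {E : Type*} [Field E] [Finite E] (hE : Nat.card E = o[Q0 G a] ^ 2) :
    ∃ c l : G → E, Co0 (KK a t ⊔ zpowers w) Q (Q0 G a) c l := by
  have aD : KK a t ⊔ zpowers w ≤ D := sup_le RO.KK_le (zpowers_le.2 hw.1)
  have ne : Q0 G a ≠ Q := fun e => h.nab (e ▸ h.Q0_ab h.r2)
  refine exists_co0 (by rw [hE, h.relIndex])
    (isMulComm_sup (h.KK_ab h.r2) inferInstance (by rw [cent_zpowers, le_cent1_iff]; exact h.W_K hw))
    (lt_of_le_of_ne h.Q0_le ne) h.sze.nE ((aD.trans inf_le_left).trans h.nQ)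
    ((aD.trans inf_le_left).trans RO.n_Q0) (commutator_le.2 fun x hx y hy => h.sze.cm_mem_E h.nab hx hy)
    fun Z h1 h2 hn => ?_
  rcases h.mid h1 h2 (le_sup_left.trans hn) with e | e | e
  · exact .inl e
  · exact .inr e
  · left
    exact le_antisymm (hc ▸ le_inf h2 (h.cent_mid h1 h2 (le_sup_left.trans hn) e hw
      (hn (mem_sup_right (mem_zpowers w))))) h1

theorem str (h : C3 a t Q) {w : G} (hw : w ∈ D ⊓ C[Q0 G a]) (hc : Q ⊓ C1[w] = Q0 G a) :
    ∃ s ∈ I, t * s * t = s * t * s := by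
  obtain ⟨s, hs, r, hr, e⟩ := h.exists_str
  have := (h.V_le hs hr e ⟨hw.1, h.W_t hw⟩).2
  have hr0 : r ∈ Q0 G a := hc ▸ ⟨hr, mc1.2 (mul_inv_eq_iff_eq_mul.1 this).symm⟩
  obtain rfl := h.str_eq h.r2 hs hr0 e
  exact ⟨r, hs, by rw [e, inv_of_sq hs.2.2]⟩

end C3

end CfsgRO
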