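import Cfsg.Agent.H4.Gla3
import Cfsg.Agent.H4.Quo
import Cfsg.Agent.H2.Quot

/-! The relative Glauberman correspondence over a normal Sylow subgroup. -/

set_option autoImplicit false
open Cfsg CfsgH3 CfsgH4 CfsgH1 Function
open CfsgH2 hiding cj cj_apply isPGroup_pCore le_pCore isNilpotent_map card_mul_relIndex
open scoped ComplexConjugate CfsgH2

namespace CfsgRg

variable {Γ : Type*} [Group Γ] [Finite Γ] {P K Q C T D : Subgroup Γ} {p : ℕ}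

noncomputable scoped instance ft (H : Subgroup Γ) : Fintype H := Fintype.ofFinite H

/-- `χ` lies over `θ`. -/
abbrev Ov (h : Q ≤ K) (χ : K → ℂ) (θ : Q → ℂ) : Prop := classInner (resLE h χ) θ ≠ 0

variable {θ : Q → ℂ} {ψ ψ' : T → ℂ} {χ χ' : K → ℂ} {η η' : D → ℂ} {ξ ξ' : C → ℂ}

theorem exists_mid (h1 : Q ≤ T) (h2 : T ≤ K) (hχ : IsClassFunction K χ)
    (h : Ov (h1.trans h2) χ θ) : ∃ ψ, IsIrrCharacter T ψ ∧ Ov h2 χ ψ ∧ Ov h1 ψ θ := by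
  by_contra! h3
  refine h ?_
  have h4 : resLE (h1.trans h2) χ =
      ∑ φ : IrrCharacter T, classInner (resLE h2 χ) φ • resLE h1 φ.1 := by
    funext x
    rw [Finset.sum_apply]
    exact (hχ.resLE h2).apply_eq_sum_irr ⟨x, h1 x.2⟩
  rw [h4, classInner_sum_left]
  refine Finset.sum_eq_zero fun φ _ => ?_
  rw [classInner_smul_left, mul_eq_zero]
  exact or_iff_not_imp_left.2 fun h5 => h3 φ φ.2 h5

theorem Ov.cA {h : Q ≤ K} (a : Ov h χ θ) {t : Γ} (h1 : t ∈ N[K]) (h2 : t ∈ N[Q]) :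
    Ov h (cA h1 χ) (cA h2 θ) := by
  rwa [Ov, resLE_cA h h1 h2, classInner_cA]

theorem clif (h1 : Q ≤ T) (h2 : T ≤ K) (hK : K ≤ N[Q]) (hθ : IsIrrCharacter Q θ)
    (hT : T = K ⊓ aI θ) (hψ : IsIrrCharacter T ψ) (h3 : Ov h1 ψ θ) (hχ : IsIrrCharacter K χ)
    (h4 : Ov h2 χ ψ) :
    (∀ f, IsClassFunction K f → classInner f χ = classInner (resLE h2 f) ψ) ∧
      classInner (resLE (h1.trans h2) χ) θ = classInner (resLE h1 ψ) θ := by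
  haveI := (Subgroup.normal_subgroupOf_iff_le_normalizer (h1.trans h2)).2 hK
  have h5 : T.subgroupOf K = inertia (subOf K θ) := by
    ext x
    rw [mem_inertia, Subgroup.mem_subgroupOf, hT, Subgroup.mem_inf, and_iff_right x.2,
      mem_aI (hK x.2), ← (subOf_injective (h1.trans h2)).eq_iff]
    rfl
  have h6 : ∀ f, IsClassFunction K f → classInner f (indFun (T.subgroupOf K) (subOf K ψ)) =
      classInner (resLE h2 f) ψ := fun f hf => by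
    rw [← conj_classInner, classInner_indFun_subOf h2 ψ hf, conj_classInner]
  obtain ⟨h7, h8⟩ := indFun_eq_of_over_inertia ((isIrr_subOf_iff (h1.trans h2)).2 hθ) h5
    (Subgroup.comap_mono h1) ((isIrr_subOf_iff h2).2 hψ)
    (by rw [Ov, ← classInner_subOf (h1.trans h2)] at h3; exact h3) hχ
    (by rw [Ne, classInner_eq_zero_comm, h6 _ hχ.isClassFunction]; exact h4)
  refine ⟨fun f hf => h7 ▸ h6 f hf, ?_⟩
  rw [← classInner_subOf (h1.trans h2), ← classInner_subOf (h1.trans h2)]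
  exact h8.symm

theorem clif_res (h1 : Q ≤ T) (h2 : T ≤ K) (hK : K ≤ N[Q]) (hθ : IsIrrCharacter Q θ)
    (hT : T = K ⊓ aI θ) (hψ : IsIrrCharacter T ψ) (h3 : Ov h1 ψ θ) (hχ : IsIrrCharacter K χ)
    (h4 : Ov h2 χ ψ) (h5 : Q ≤ D) (h6 : D ≤ T) (hη : IsIrrCharacter D η) (h7 : Ov h5 η θ) :
    classInner (resLE (h6.trans h2) χ) η = classInner (resLE h6 ψ) η := by
  have h8 := (hχ.isCharacter.resLE h2).sub_of_constituent hψ h4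
  rw [← sub_eq_zero, ← classInner_sub_left]
  by_contra h9
  refine over_trans h5 h6 h8 hη hθ.isCharacter h9 h7 ?_
  exact (classInner_sub_left _ _ _).trans
    (sub_eq_zero.2 (clif h1 h2 hK hθ hT hψ h3 hχ h4).2)

theorem clif_up (h1 : Q ≤ T) (h2 : T ≤ K) (hK : K ≤ N[Q]) (hθ : IsIrrCharacter Q θ)
    (hT : T = K ⊓ aI θ) (hψ : IsIrrCharacter T ψ) (h3 : Ov h1 ψ θ) (hχ : IsIrrCharacter K χ)
    (h4 : Ov h2 χ ψ) (hχ' : IsIrrCharacter K χ') (h5 : Ov h2 χ' ψ) : χ' = χ :=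
  hχ'.eq_of_classInner_ne_zero hχ
    ((clif h1 h2 hK hθ hT hψ h3 hχ h4).1 _ hχ'.isClassFunction ▸ h5)

theorem clif_down (h1 : Q ≤ T) (h2 : T ≤ K) (hK : K ≤ N[Q]) (hθ : IsIrrCharacter Q θ)
    (hT : T = K ⊓ aI θ) (hψ : IsIrrCharacter T ψ) (h3 : Ov h1 ψ θ) (hχ : IsIrrCharacter K χ)
    (h4 : Ov h2 χ ψ) (hψ' : IsIrrCharacter T ψ') (h5 : Ov h1 ψ' θ) (h6 : Ov h2 χ ψ') : ψ = ψ' :=
  hψ.eq_of_classInner_ne_zero hψ'
    ((clif_res h1 h2 hK hθ hT hψ h3 hχ h4 h1 le_rfl hψ' h5).symm.trans_ne h6)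

/-- the projection onto the section -/
def pr (h : T ≤ N[Q]) : T →* qt Q T :=
  ((qmk Q).comp (Subgroup.inclusion h)).codRestrict _ fun x => qmk_mem_qt _ x.2

omit [Finite Γ] in
theorem pr_surj (h : T ≤ N[Q]) : Surjective (pr h) := fun ⟨_, hy⟩ =>
  let ⟨x, h1, h2⟩ := mem_qt.1 hy; ⟨⟨x, h1⟩, Subtype.ext h2⟩

omit [Finite Γ] in
theorem ker_pr (h : T ≤ N[Q]) : (pr h).ker = Q.subgroupOf T := by
  ext x
  rw [MonoidHom.mem_ker, Subtype.ext_iff, Subgroup.mem_subgroupOf]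
  exact qmk_eq_one

/-- Gallagher's parametrization -/
def ga (h : T ≤ N[Q]) (τ : T → ℂ) (β : qt Q T → ℂ) : T → ℂ := (fun x => β (pr h x)) * τ

section
variable {h : T ≤ N[Q]} {τ : T → ℂ} {β β' : qt Q T → ℂ} (h1 : Q ≤ T) (hτ : IsCharacter T τ)
  (hθ : IsIrrCharacter Q θ) (e : resLE h1 τ = θ)
include hτ hθ e

omit hτ in
theorem irr_res : IsIrrCharacter (Q.subgroupOf T) fun x => τ x := by
  rw [← subOf_resLE h1, e]; exact (isIrr_subOf_iff h1).2 hθ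

omit [Finite Γ] hτ hθ e in
theorem pr_ker (β : qt Q T → ℂ) : ∀ n ∈ Q.subgroupOf T, β (pr h n) = β (pr h 1) := fun n hn => by
  rw [← ker_pr h] at hn; rw [hn, map_one]

theorem ga_irr (hβ : IsIrrCharacter _ β) : IsIrrCharacter T (ga h τ β) :=
  haveI := (Subgroup.normal_subgroupOf_iff_le_normalizer h1).2 h
  isIrr_mul_of_restrict_irr hτ (irr_res h1 hθ e) (irrComp _ (pr_surj h) ⟨β, hβ⟩).2 (pr_ker β)

theorem ga_inj (hβ : IsIrrCharacter _ β) (hβ' : IsIrrCharacter _ β') (a : ga h τ β = ga h τ β') :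
    β = β' := by
  haveI := (Subgroup.normal_subgroupOf_iff_le_normalizer h1).2 h
  have := eq_of_mul_eq_of_restrict_irr hτ (irr_res h1 hθ e) (irrComp _ (pr_surj h) ⟨β, hβ⟩).2
    (pr_ker β) (irrComp _ (pr_surj h) ⟨β', hβ'⟩).2 (pr_ker β') a
  funext y
  obtain ⟨x, rfl⟩ := pr_surj h y
  exact congrFun this x

theorem ga_surj (hψ : IsIrrCharacter T ψ) (a : Ov h1 ψ θ) :
    ∃ β, IsIrrCharacter _ β ∧ ψ = ga h τ β := by
  haveI := (Subgroup.normal_subgroupOf_iff_le_normalizer h1).2 h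
  obtain ⟨γ, b1, b2, b3⟩ := exists_eq_mul_of_restrict_irr hτ (irr_res h1 hθ e) hψ
    (by rw [Ov, ← e, ← classInner_subOf h1] at a; exact a)
  obtain ⟨β, b4⟩ := exists_irrComp_eq_of_ker (pr_surj h) (ξ := ⟨γ, b1⟩) (by rwa [ker_pr])
  exact ⟨β, β.2, by rw [b3, ← show _ = γ from congrArg Subtype.val b4]; rfl⟩

omit hτ in
theorem ga_ov (hβ : IsIrrCharacter _ β) : Ov h1 (ga h τ β) θ := by
  have : resLE h1 (ga h τ β) = β 1 • θ := funext fun x => by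
    rw [← e, ← map_one (pr h), ← pr_ker (h := h) β ⟨x, h1 x.2⟩ x.2]; rfl
  rw [Ov, this, classInner_smul_left, hθ.classInner_self, mul_one]
  exact hβ.apply_one_ne_zero

end

omit [Finite Γ] in
theorem cA_ga {h : T ≤ N[Q]} (τ : T → ℂ) (β : qt Q T → ℂ) {t : Γ} (h1 : t ∈ N[T])
    (h2 : t ∈ N[Q]) : cA h1 (ga h τ β) = ga h (cA h1 τ) (cA (qmk_mem_norm h2 h1) β) := by
  funext x
  refine congrArg (fun y => β y * cA h1 τ x) (Subtype.ext ?_)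
  exact (map_mul (qmk Q) (⟨t, h2⟩ * ⟨x, h x.2⟩) (⟨t, h2⟩)⁻¹).trans
    (by rw [map_mul, map_inv])

theorem gr_ga (h : T ≤ N[Q]) (h1 : D ≤ T) {τ : T → ℂ} (hτ : IsCharacter T τ) {β : qt Q T → ℂ}
    {γ : qt Q D → ℂ} (a : GR p (qt_mono h1) β γ) :
    GR p h1 (ga h τ β) (ga (h1.trans h) (resLE h1 τ) γ) := by
  obtain ⟨ε, Δ, a1, a2, a3⟩ := a
  refine ⟨ε, ga (h1.trans h) (resLE h1 τ) Δ, a1, (a2.comp _).mul (hτ.resLE h1).isGen, ?_⟩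
  funext x
  have := congrFun a3 (pr (h1.trans h) x)
  simp only [ga, Pi.add_apply, Pi.smul_apply, Pi.mul_apply, smul_eq_mul, resLE] at this ⊢
  rw [← mul_assoc, ← mul_assoc, ← add_mul, ← this]
  rfl

variable [hp : Fact p.Prime]

theorem exists_tau (h1 : Q ≤ T) (h : T ≤ N[Q]) (hQ : IsPGroup p Q) (hi : ¬ p ∣ Q.relIndex T)
    (hθ : IsIrrCharacter Q θ) (hT : T ≤ aI θ) : ∃ τ, IsIrrCharacter T τ ∧ resLE h1 τ = θ ∧
      ∀ t (h2 : t ∈ N[T]), t ∈ aI θ → cA h2 τ = τ := by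
  haveI := (Subgroup.normal_subgroupOf_iff_le_normalizer h1).2 h
  have a1 := (isIrr_subOf_iff h1).2 hθ
  obtain ⟨k, a2⟩ := IsPGroup.iff_card.1 (hQ.comap_subtype (K := T))
  have a3 : ∀ d, d ∣ Nat.card (Q.subgroupOf T) → (Q.subgroupOf T).index.Coprime d :=
    fun d hd => Nat.Coprime.coprime_dvd_right (a2 ▸ hd)
      (((hp.out.coprime_iff_not_dvd.2 hi).symm).pow_right k)
  have a4 := (coe_charDegree a1.isCharacter).symm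
  have a5 := a3 _ (a1.degree_dvd_card a4)
  obtain ⟨τ, b1, b2, b3⟩ := exists_canon_ext a1 (cj_subOf_eq hT) a4 a5 (a3 _ (detOrder_dvd _))
  have b4 : resLE h1 τ = θ := funext fun x => b2 ⟨⟨x, h1 x.2⟩, x.2⟩
  have b5 := b3 ▸ a3 _ (detOrder_dvd (subOf T θ))
  refine ⟨τ, b1, b4, fun t h2 h3 => canon_ext_unique a1 a4 a5 (irr_cA b1 h2) b1 (fun n => ?_) b2
    (b5.coprime_dvd_right ?_) b5⟩
  · have := resLE_cA h1 h2 h3.1 τ
    rw [b4, h3.2] at this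
    exact congrFun this ⟨n, n.2⟩
  · rw [detOrder_eq, detOrder_eq, show dt (cA h2 τ) = _ from
      dt_comp b1.isCharacter (T.normalizerMonoidHom ⟨t, h2⟩).toMonoidHom, orderOf_lin_dvd]
    exact fun g => lin_pow_orderOf _ _

/-- the Glauberman correspondence over an invariant character -/
structure GO (p : ℕ) (P : Subgroup Γ) (h1 : Q ≤ D) (h2 : D ≤ T) (θ : Q → ℂ) : Prop where
  ex : ∀ {ψ}, IsIrrCharacter T ψ → Ov (h1.trans h2) ψ θ → P ≤ aI ψ →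
    ∃ η, IsIrrCharacter D η ∧ Ov h1 η θ ∧ GR p h2 ψ η
  inj : ∀ {ψ ψ' η}, IsIrrCharacter T ψ → IsIrrCharacter T ψ' → IsIrrCharacter D η →
    Ov (h1.trans h2) ψ θ → Ov (h1.trans h2) ψ' θ → P ≤ aI ψ → P ≤ aI ψ' → GR p h2 ψ η →
    GR p h2 ψ' η → ψ = ψ'
  surj : ∀ {η}, IsIrrCharacter D η → Ov h1 η θ →
    ∃ ψ, IsIrrCharacter T ψ ∧ Ov (h1.trans h2) ψ θ ∧ P ≤ aI ψ ∧ GR p h2 ψ η

omit [Finite Γ] hp in
theorem gc_cast {h : C ≤ K} (a : GC p P h) (h' : D ≤ K) (e : D = C) : GC p P h' := by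
  subst e; exact a

theorem cop_qt (hP : IsPGroup p P) (h : T ≤ N[Q]) (hi : ¬ p ∣ Q.relIndex T) :
    (Nat.card (qt Q T)).Coprime (Nat.card (qt Q P)) := by
  obtain ⟨k, a⟩ := IsPGroup.iff_card.1 (isPGroup_qt (K := Q) hP)
  rw [a, card_qt h]
  exact ((hp.out.coprime_iff_not_dvd.2 hi).symm).pow_right k

theorem go (hP : IsPGroup p P) (hQ : IsPGroup p Q) (h1 : Q ≤ D) (h2 : D ≤ T) (h : T ≤ N[Q])
    (hPT : P ≤ N[T]) (hi : ¬ p ∣ Q.relIndex T) (hD : qt Q D = qt Q T ⊓ C[qt Q P])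
    (hθ : IsIrrCharacter Q θ) (hT : T ≤ aI θ) (hPθ : P ≤ aI θ) : GO p P h1 h2 θ := by
  obtain ⟨τ, a1, a2, a3⟩ := exists_tau (h1.trans h2) h hQ hi hθ hT
  have a := gc_cast (gc_pgroup hp.out (isPGroup_qt hP) (qt_le_norm hPT) (cop_qt hP h hi))
    (qt_mono h2) hD
  have a4 := a1.isCharacter
  have a5 : resLE h1 (resLE h2 τ) = θ := a2
  have a6 : ∀ {β}, IsIrrCharacter _ β → (P ≤ aI (ga h τ β) ↔ qt Q P ≤ aI β) := fun {β} hβ => by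
    refine ⟨fun b y hy => ?_, fun b x hx => ⟨hPT hx, ?_⟩⟩
    · obtain ⟨x, hx, rfl⟩ := mem_qt.1 hy
      refine ⟨qmk_mem_norm x.2 (hPT hx), ga_inj (h := h) (h1.trans h2) a4 hθ a2 (irr_cA hβ _) hβ ?_⟩
      have := cA_ga (h := h) τ β (hPT hx) x.2
      rw [a3 _ _ (hPθ hx), (b hx).2] at this
      exact this.symm
    · rw [cA_ga τ β (hPT hx) (hPθ hx).1, a3 _ _ (hPθ hx), (b (qmk_mem_qt (hPθ hx).1 hx)).2]
  have a7 : ∀ {ψ}, IsIrrCharacter T ψ → Ov (h1.trans h2) ψ θ → P ≤ aI ψ → ∃ β γ,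
      IsIrrCharacter _ β ∧ IsIrrCharacter _ γ ∧ ψ = ga h τ β ∧ qt Q P ≤ aI β ∧
        GR p (qt_mono h2) β γ := fun b1 b2 b3 => by
    obtain ⟨β, b4, rfl⟩ := ga_surj (h := h) (h1.trans h2) a4 hθ a2 b1 b2
    obtain ⟨γ, b5, b6⟩ := a.ex β b4 ((a6 b4).1 b3)
    exact ⟨β, γ, b4, b5, rfl, (a6 b4).1 b3, b6⟩
  refine ⟨fun b1 b2 b3 => ?_, fun b1 b2 b3 b4 b5 b6 b7 b8 b9 => ?_, fun b1 b2 => ?_⟩
  · obtain ⟨β, γ, -, b4, rfl, -, b5⟩ := a7 b1 b2 b3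
    exact ⟨_, ga_irr h1 (a4.resLE h2) hθ a5 b4, ga_ov h1 hθ a5 b4, gr_ga h h2 a4 b5⟩
  · obtain ⟨β, γ, c1, c2, rfl, c3, c4⟩ := a7 b1 b4 b6
    obtain ⟨β', γ', c5, c6, rfl, c7, c8⟩ := a7 b2 b5 b7
    obtain rfl := ga_inj h1 (a4.resLE h2) hθ a5 c2 c6
      ((b8.unique hp.out (gr_ga h h2 a4 c4) b1.isCharacter b3
        (ga_irr h1 (a4.resLE h2) hθ a5 c2)).trans (b9.unique hp.out (gr_ga h h2 a4 c8)
          b2.isCharacter b3 (ga_irr h1 (a4.resLE h2) hθ a5 c6)).symm)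
    rw [a.inj c1 c5 c2 c3 c7 c4 c8]
  · obtain ⟨γ, b3, rfl⟩ := ga_surj (h := h2.trans h) h1 (a4.resLE h2) hθ a5 b1 b2
    obtain ⟨β, b4, b5, b6⟩ := a.surj γ b3
    exact ⟨_, ga_irr (h1.trans h2) a4 hθ a2 b4, ga_ov (h1.trans h2) hθ a2 b4, (a6 b4).2 b5,
      gr_ga h h2 a4 b6⟩

omit hp in
theorem inv_up (h1 : Q ≤ T) (h2 : T ≤ K) (hK : K ≤ N[Q]) (hθ : IsIrrCharacter Q θ)
    (hT : T = K ⊓ aI θ) (hψ : IsIrrCharacter T ψ) (h3 : Ov h1 ψ θ) (hχ : IsIrrCharacter K χ)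
    (h4 : Ov h2 χ ψ) {t : Γ} (h5 : t ∈ N[K]) (h6 : t ∈ aI ψ) : t ∈ aI χ :=
  ⟨h5, clif_up h1 h2 hK hθ hT hψ h3 hχ h4 (irr_cA hχ h5) (h6.2 ▸ h4.cA h5 h6.1)⟩

omit hp in
theorem inv_down (h1 : Q ≤ T) (h2 : T ≤ K) (hK : K ≤ N[Q]) (hθ : IsIrrCharacter Q θ)
    (hT : T = K ⊓ aI θ) (hψ : IsIrrCharacter T ψ) (h3 : Ov h1 ψ θ) (hχ : IsIrrCharacter K χ)
    (h4 : Ov h2 χ ψ) {t : Γ} (h5 : t ∈ N[T]) (h6 : t ∈ aI χ) (h7 : t ∈ aI θ) : t ∈ aI ψ :=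
  ⟨h5, (clif_down h1 h2 hK hθ hT hψ h3 hχ h4 (irr_cA hψ h5) (h7.2 ▸ h3.cA h5 h7.1)
    (h6.2 ▸ h4.cA h6.1 h5)).symm⟩

omit hp [Finite Γ] in
theorem mem_cent_qt (h : P ≤ N[Q]) (x : N[Q]) :
    qmk Q x ∈ C[qt Q P] ↔ ∀ z ∈ P, z * x * z⁻¹ * (x : Γ)⁻¹ ∈ Q := by
  have : ∀ z : N[Q], qmk Q z * qmk Q x = qmk Q x * qmk Q z ↔
      (z : Γ) * x * (z : Γ)⁻¹ * (x : Γ)⁻¹ ∈ Q := fun z => by
    rw [← map_mul, ← map_mul, qmk_eq_iff']; simp [mul_assoc]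
  refine ⟨fun a z hz => (this ⟨z, h hz⟩).1 (a _ (qmk_mem_qt _ hz)), fun a y hy => ?_⟩
  obtain ⟨z, hz, rfl⟩ := mem_qt.1 hy
  exact (this z).2 (a z hz)

/-- the relative Glauberman relation -/
def RR (p : ℕ) (P : Subgroup Γ) (h : C ≤ K) (χ : K → ℂ) (ξ : C → ℂ) : Prop :=
  ∃ ε : ℤ, (ε = 1 ∨ ε = -1) ∧ ∀ ξ', IsIrrCharacter C ξ' → P ≤ aI ξ' →
    ∃ n : ℤ, classInner (resLE h χ) ξ' = p * n + ε * classInner ξ ξ'

theorem ne_aux {n m ε : ℤ} (h : ε = 1 ∨ ε = -1) : (p * n + ε : ℂ) ≠ p * m := fun e => by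
  have h1 : (p : ℤ) ∣ ε := ⟨m - n, by
    have : (p * n + ε : ℤ) = p * m := by exact_mod_cast e
    linear_combination this⟩
  refine hp.out.ne_one (Nat.dvd_one.1 (Int.natCast_dvd_natCast.1 ?_))
  rcases h with rfl | rfl
  exacts [h1, (dvd_neg.1 h1 :)]

theorem RR.ov {h : C ≤ K} (a : RR p P h χ ξ) (h1 : IsIrrCharacter C ξ) (h2 : P ≤ aI ξ) :
    Ov h χ ξ := fun e => by
  obtain ⟨ε, a1, a2⟩ := a
  obtain ⟨n, a3⟩ := a2 ξ h1 h2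
  rw [e, h1.classInner_self, mul_one] at a3
  exact ne_aux (m := 0) a1 (by rw [← a3]; simp)

theorem RR.unique {h : C ≤ K} (a : RR p P h χ ξ) (b : RR p P h χ ξ') (h1 : IsIrrCharacter C ξ)
    (h2 : IsIrrCharacter C ξ') (h3 : P ≤ aI ξ') : ξ = ξ' := by_contra fun e => by
  obtain ⟨ε, -, a2⟩ := a
  obtain ⟨δ, b1, b2⟩ := b
  obtain ⟨n, a3⟩ := a2 ξ' h2 h3
  obtain ⟨m, b3⟩ := b2 ξ' h2 h3
  rw [h1.classInner_of_ne h2 e, mul_zero, add_zero, b3, h2.classInner_self, mul_one] at a3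
  exact ne_aux b1 a3

theorem RR.deg {h : C ≤ K} (a : RR p P h χ ξ) (hP : IsPGroup p P) (hχ : IsCharacter K χ)
    (h0 : P ≤ aI χ) (h1 : IsIrrCharacter C ξ) (h2 : P ≤ aI ξ) :
    (charDegree ξ : ZMod p) = charDegree χ ∨ (charDegree ξ : ZMod p) = -charDegree χ := by
  classical
  obtain ⟨ε, a1, a2⟩ := a
  obtain ⟨m, b1, b2⟩ := (hχ.resLE h).exists_eq_sum_irr
  have b3 : charDegree χ = ∑ φ : IrrCharacter C, m φ * charDegree φ.1 := by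
    have := congrFun b2 1
    rw [Finset.sum_apply] at this
    refine Nat.cast_injective (R := ℂ) ?_
    rw [coe_charDegree hχ, Nat.cast_sum]
    refine this.trans (Finset.sum_congr rfl fun φ _ => ?_)
    rw [Nat.cast_mul, coe_charDegree φ.2.isCharacter]; rfl
  have b4 : ∀ x : P, (x : Γ)⁻¹ ∈ N[C] := fun x => inv_mem (h2 x.2).1
  have b5 := sum_eq_sum_fixed' hP (fun x (φ : IrrCharacter C) => ⟨_, irr_cA φ.2 (b4 x)⟩)
    (fun φ => Subtype.ext ((cA_congr (b4 1) (by simp)).trans (cA_one φ.1)))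
    (fun x y φ => Subtype.ext ((cA_congr (b4 (x * y)) (by simp)).trans
      (cA_cA (b4 x) (b4 y) φ.1).symm))
    (fun φ => ((m φ * charDegree φ.1 : ℕ) : ZMod p)) Finset.univ (fun _ _ _ => Finset.mem_univ _)
    (fun x φ _ => by
      congr 2
      · refine Nat.cast_injective (R := ℂ) ?_
        rw [← b1, ← b1]
        exact classInner_resLE_cA h (inv_mem (h0 x.2)) (b4 x)
      · refine Nat.cast_injective (R := ℂ) ?_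
        rw [coe_charDegree (irr_cA φ.2 (b4 x)).isCharacter, coe_charDegree φ.2.isCharacter]
        exact congrArg φ.1 (map_one _))
    (fun _ _ => by simp)
  have b6 : ∀ φ : IrrCharacter C, P ≤ aI φ.1 → ∃ n : ℤ, (m φ : ℂ) =
      p * n + ε * classInner ξ φ.1 := fun φ hφ => b1 φ ▸ a2 φ.1 φ.2 hφ
  rw [b3, Nat.cast_sum, b5, Finset.sum_eq_single ⟨ξ, h1⟩]
  · obtain ⟨n, b7⟩ := b6 ⟨ξ, h1⟩ h2
    rw [h1.classInner_self, mul_one] at b7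
    have b8 : ((m ⟨ξ, h1⟩ : ℤ) : ZMod p) = ε := by
      rw [show (m ⟨ξ, h1⟩ : ℤ) = p * n + ε by exact_mod_cast b7]; simp
    rw [Int.cast_natCast] at b8
    rcases a1 with rfl | rfl <;> simp [b8]
  · intro φ c1 c2
    obtain ⟨n, b7⟩ := b6 φ fun x hx => by
      simp only [Finset.mem_filter] at c1
      exact (aI φ.1).inv_mem_iff.1 ⟨b4 ⟨x, hx⟩, congrArg Subtype.val (c1.2 ⟨x, hx⟩)⟩
    rw [h1.classInner_of_ne φ.2 fun e => c2 (Subtype.ext e.symm), mul_zero, add_zero] at b7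
    have b8 : ((m φ : ℤ) : ZMod p) = 0 := by
      rw [show (m φ : ℤ) = p * n by exact_mod_cast b7]; simp
    rw [Int.cast_natCast] at b8
    simp [b8]
  · refine fun c => (c ?_).elim
    simp only [Finset.mem_filter]
    exact ⟨Finset.mem_univ _, fun x => Subtype.ext (inv_mem (h2 x.2)).2⟩

/-- the standing hypotheses -/
structure St (p : ℕ) (P K Q C : Subgroup Γ) : Prop where
  hP : IsPGroup p P
  hQ : IsPGroup p Q
  PK : P ≤ N[K]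
  PQ : P ≤ N[Q]
  QK : Q ≤ K
  KQ : K ≤ N[Q]
  idx : ¬ p ∣ Q.relIndex K
  mem : ∀ k, k ∈ C ↔ k ∈ K ∧ ∀ x ∈ P, x * k * x⁻¹ * k⁻¹ ∈ Q

namespace St
variable (s : St p P K Q C)
include s

omit hp [Finite Γ] in
theorem CK : C ≤ K := fun k h => ((s.mem k).1 h).1

omit hp [Finite Γ] in
theorem QC : Q ≤ C := fun k h => (s.mem k).2 ⟨s.QK h, fun _ hx =>
  mul_mem (conj_mem_of_mem_normalizer (s.PQ hx) h) (inv_mem h)⟩

omit hp in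
theorem PC : P ≤ N[C] := fun x hx => mem_normalizer_of_conj_mem fun c hc => by
  simpa using mul_mem (s.QC (((s.mem c).1 hc).2 x hx)) hc

omit hp s in
theorem nT (h : P ≤ N[K]) (h1 : P ≤ aI θ) : P ≤ N[K ⊓ aI θ] := fun _ hx =>
  mem_normalizer_of_conj_mem fun _ hc => ⟨conj_mem_of_mem_normalizer (h hx) hc.1,
    (aI θ).mul_mem (mul_mem (h1 hx) hc.2) (inv_mem (h1 hx))⟩

omit hp s [Finite Γ] in
theorem QT (h : Q ≤ K) (hθ : IsIrrCharacter Q θ) : Q ≤ K ⊓ aI θ :=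
  le_inf h (le_aI_self hθ.isClassFunction)

omit hp [Finite Γ] in
theorem idx' (h1 : Q ≤ T) (h2 : T ≤ K) : ¬ p ∣ Q.relIndex T := fun h =>
  s.idx (Subgroup.relIndex_mul_relIndex Q T K h1 h2 ▸ h.mul_right _)

theorem cop (h1 : Q ≤ T) (h2 : T ≤ K) : (Q.relIndex T).Coprime (Nat.card P) := by
  obtain ⟨k, a⟩ := IsPGroup.iff_card.1 s.hP
  rw [a]
  exact ((hp.out.coprime_iff_not_dvd.2 (s.idx' h1 h2)).symm).pow_right k

theorem under (h1 : Q ≤ T) (h2 : T ≤ K) (hψ : IsIrrCharacter T ψ) (h3 : P ≤ aI ψ) :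
    ∃ θ, IsIrrCharacter Q θ ∧ Ov h1 ψ θ ∧ P ≤ aI θ :=
  haveI := s.hP.isNilpotent
  exists_inv_under s.PQ h1 (h2.trans s.KQ) (s.cop h1 h2) (.inl inferInstance) hψ h3

theorem go (hθ : IsIrrCharacter Q θ) (h1 : P ≤ aI θ) :
    GO p P (QT s.QC hθ) (inf_le_inf_right _ s.CK) θ := by
  refine CfsgRg.go s.hP s.hQ _ _ (inf_le_left.trans s.KQ) (nT s.PK h1)
    (s.idx' (QT s.QK hθ) inf_le_left) (le_antisymm (fun y hy => ?_) fun y hy => ?_) hθ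
    inf_le_right h1
  · obtain ⟨x, hx, rfl⟩ := mem_qt.1 hy
    exact ⟨mem_qt.2 ⟨x, ⟨s.CK hx.1, hx.2⟩, rfl⟩, (mem_cent_qt s.PQ x).2 ((s.mem x).1 hx.1).2⟩
  · obtain ⟨x, hx, rfl⟩ := mem_qt.1 hy.1
    exact mem_qt.2 ⟨x, ⟨(s.mem x).2 ⟨hx.1, (mem_cent_qt s.PQ x).1 hy.2⟩, hx.2⟩, rfl⟩

theorem fuse (hθ : IsIrrCharacter Q θ) (h1 : P ≤ aI θ) {k : Γ} (hk : k ∈ K)
    (h2 : P ≤ aI (cA (s.KQ hk) θ)) : ∃ c, ∃ hc : c ∈ C, cA (s.KQ (s.CK hc)) θ = cA (s.KQ hk) θ := by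
  haveI := (isPGroup_qt (K := Q) s.hP).isNilpotent
  obtain ⟨n, h3, h4⟩ := coprime_fixed_coset (qt_le_norm (K := Q) (nT s.PK h1))
    (cop_qt s.hP (inf_le_left.trans s.KQ) (s.idx' (QT s.QK hθ) inf_le_left)).symm
    (.inl inferInstance) (k := qmk Q ⟨k, s.KQ hk⟩⁻¹) fun a ha => by
      obtain ⟨x, hx, rfl⟩ := mem_qt.1 ha
      refine mem_qt.2 ⟨⟨k, s.KQ hk⟩ * (x * ⟨k, s.KQ hk⟩⁻¹ * x⁻¹), ⟨mul_mem hk
        (conj_mem_of_mem_normalizer (s.PK hx) (inv_mem hk)), ?_⟩, by simp⟩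
      have h3 : k * x * k⁻¹ ∈ aI (cA (inv_mem (s.KQ hk)) (cA (s.KQ hk) θ)) :=
        mem_aI_cA _ (by simpa [mul_assoc] using h2 hx)
      rw [cA_cA, cA_congr _ (mul_inv_cancel k), cA_one] at h3
      simpa [mul_assoc] using mul_mem h3 (inv_mem (h1 hx))
  obtain ⟨t, h5, rfl⟩ := mem_qt.1 h3
  have h6 : (t : Γ)⁻¹ * k ∈ C := (s.mem _).2 ⟨mul_mem (inv_mem h5.1) hk,
    (mem_cent_qt s.PQ (t⁻¹ * ⟨k, s.KQ hk⟩)).1 (by simpa using inv_mem h4)⟩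
  exact ⟨_, h6, by rw [← cA_cA (s.KQ hk) (inv_mem t.2), ((aI θ).inv_mem h5.2).2]⟩

theorem rr (hθ : IsIrrCharacter Q θ) (h1 : P ≤ aI θ) {ψ : ↥(K ⊓ aI θ) → ℂ}
    {η : ↥(C ⊓ aI θ) → ℂ} (hψ : IsIrrCharacter _ ψ) (a1 : Ov (QT s.QK hθ) ψ θ)
    (hχ : IsIrrCharacter K χ) (a2 : Ov inf_le_left χ ψ) (hη : IsIrrCharacter _ η)
    (a3 : Ov (QT s.QC hθ) η θ) (hξ : IsIrrCharacter C ξ) (a4 : Ov inf_le_left ξ η)
    (a : GR p (inf_le_inf_right _ s.CK) ψ η) : RR p P s.CK χ ξ := by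
  obtain ⟨ε, Δ, b1, b2, b3⟩ := a
  have CQ := s.CK.trans s.KQ
  refine ⟨ε, b1, fun ξ' c1 c2 => ?_⟩
  by_cases c3 : Ov s.QC ξ' θ
  · obtain ⟨η', c4, c5, c6⟩ := exists_mid (QT s.QC hθ) inf_le_left c1.isClassFunction c3
    obtain ⟨n, c7⟩ := b2.exists_int_classInner c4.isGen
    have c8 := (clif _ _ CQ hθ rfl c4 c6 c1 c5).1
    refine ⟨n, ?_⟩
    rw [c8 _ (hχ.isClassFunction.resLE _), c8 _ hξ.isClassFunction]
    refine (clif_res _ _ s.KQ hθ rfl hψ a1 hχ a2 _ (inf_le_inf_right _ s.CK) c4 c6).trans ?_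
    rw [b3, classInner_add_left, classInner_smul_left, classInner_smul_left, c7]
    exact congrArg (fun z : ℂ => p * n + ε * z)
      (clif_res _ _ CQ hθ rfl hη a3 hξ a4 _ le_rfl c4 c6).symm
  · refine ⟨0, ?_⟩
    rw [hξ.classInner_of_ne c1 fun e => c3 (e ▸ over_trans _ _ hξ.isCharacter hη hθ.isCharacter
      a4 a3), Int.cast_zero, mul_zero, mul_zero, add_zero]
    by_contra c4
    obtain ⟨θ', c5, c6, c7⟩ := s.under s.QC s.CK c1 c2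
    obtain ⟨k, hk, rfl⟩ := exists_cA_eq s.QK s.KQ hχ hθ c5
      (over_trans _ _ hχ.isCharacter hψ hθ.isCharacter a2 a1)
      (over_trans s.QC s.CK hχ.isCharacter c1 c5.isCharacter c4 c6)
    obtain ⟨c, hc, c8⟩ := s.fuse hθ h1 hk c7
    rw [Ov, ← c8, classInner_resLE_cA _ (le_aI_self c1.isClassFunction hc)] at c6
    exact c3 c6

theorem core (hθ : IsIrrCharacter Q θ) (h1 : P ≤ aI θ) (hχ : IsIrrCharacter K χ) (h2 : P ≤ aI χ)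
    (h3 : Ov s.QK χ θ) : ∃ (ψ : ↥(K ⊓ aI θ) → ℂ) (η : ↥(C ⊓ aI θ) → ℂ) (ξ : C → ℂ),
      IsIrrCharacter _ ψ ∧ Ov (QT s.QK hθ) ψ θ ∧ Ov inf_le_left χ ψ ∧ P ≤ aI ψ ∧
      IsIrrCharacter _ η ∧ Ov (QT s.QC hθ) η θ ∧ GR p (inf_le_inf_right _ s.CK) ψ η ∧
      IsIrrCharacter C ξ ∧ Ov inf_le_left ξ η ∧ P ≤ aI ξ ∧ RR p P s.CK χ ξ := by
  obtain ⟨ψ, a1, a2, a3⟩ := exists_mid (QT s.QK hθ) inf_le_left hχ.isClassFunction h3
  have a4 : P ≤ aI ψ := fun x hx =>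
    inv_down _ _ s.KQ hθ rfl a1 a3 hχ a2 (nT s.PK h1 hx) (h2 hx) (h1 hx)
  obtain ⟨η, a5, a6, a7⟩ := (s.go hθ h1).ex a1 a3 a4
  obtain ⟨ξ, a8, a9⟩ := exists_irr_over' (inf_le_left : C ⊓ aI θ ≤ C) a5
  exact ⟨ψ, η, ξ, a1, a3, a2, a4, a5, a6, a7, a8, a9, fun x hx =>
    inv_up _ _ (s.CK.trans s.KQ) hθ rfl a5 a6 a8 a9 (s.PC hx)
      (a7.le_aI hp.out a1.isCharacter a5 (nT s.PC h1) a4 hx), s.rr hθ h1 a1 a3 hχ a2 a5 a6 a8 a9 a7⟩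

theorem ex (hχ : IsIrrCharacter K χ) (h2 : P ≤ aI χ) :
    ∃ ξ, IsIrrCharacter C ξ ∧ P ≤ aI ξ ∧ RR p P s.CK χ ξ := by
  obtain ⟨θ, a1, a2, a3⟩ := s.under s.QK le_rfl hχ h2
  obtain ⟨-, -, ξ, -, -, -, -, -, -, -, b1, -, b2, b3⟩ := s.core a1 a3 hχ h2 a2
  exact ⟨ξ, b1, b2, b3⟩

theorem inj (hχ : IsIrrCharacter K χ) (h1 : P ≤ aI χ) (hχ' : IsIrrCharacter K χ') (h2 : P ≤ aI χ')
    (hξ : IsIrrCharacter C ξ) (h3 : P ≤ aI ξ) (a : RR p P s.CK χ ξ) (b : RR p P s.CK χ' ξ) :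
    χ = χ' := by
  obtain ⟨θ, a1, a2, a3⟩ := s.under s.QC s.CK hξ h3
  obtain ⟨ψ, η, ξ₁, b1, b2, b3, b4, b5, b6, b7, b8, b9, -, b0⟩ := s.core a1 a3 hχ h1
    (over_trans _ _ hχ.isCharacter hξ a1.isCharacter (a.ov hξ h3) a2)
  obtain ⟨ψ', η', ξ₂, c1, c2, c3, c4, c5, c6, c7, c8, c9, -, c0⟩ := s.core a1 a3 hχ' h2
    (over_trans _ _ hχ'.isCharacter hξ a1.isCharacter (b.ov hξ h3) a2)
  obtain rfl := b0.unique a b8 hξ h3
  obtain rfl := c0.unique b c8 hξ h3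
  obtain rfl := clif_down _ _ (s.CK.trans s.KQ) a1 rfl b5 b6 hξ b9 c5 c6 c9
  obtain rfl := (s.go a1 a3).inj b1 c1 b5 b2 c2 b4 c4 b7 c7
  exact clif_up _ _ s.KQ a1 rfl b1 b2 hχ' c3 hχ b3

theorem surj (hξ : IsIrrCharacter C ξ) (h3 : P ≤ aI ξ) :
    ∃ χ, IsIrrCharacter K χ ∧ P ≤ aI χ ∧ RR p P s.CK χ ξ := by
  obtain ⟨θ, a1, a2, a3⟩ := s.under s.QC s.CK hξ h3
  obtain ⟨η, b1, b2, b3⟩ := exists_mid (QT s.QC a1) inf_le_left hξ.isClassFunction a2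
  obtain ⟨ψ, b4, b5, b6, b7⟩ := (s.go a1 a3).surj b1 b3
  obtain ⟨χ, b8, b9⟩ := exists_irr_over' (inf_le_left : K ⊓ aI θ ≤ K) b4
  exact ⟨χ, b8, fun x hx => inv_up _ _ s.KQ a1 rfl b4 b5 b8 b9 (s.PK hx) (b6 hx),
    s.rr a1 a3 b4 b5 b8 b9 b1 b3 hξ b2 b7⟩

end St

end CfsgRg
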