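import Cfsg.Agent.H3.Rg
import Cfsg.Agent.H4.Ch2
import Cfsg.Agent.H2.PL1

/-! Real characters of odd degree of solvable groups. -/

set_option autoImplicit false
open Cfsg CfsgH3 CfsgH4 CfsgH1 CfsgRg Function
open CfsgH2 hiding cj cj_apply isPGroup_pCore le_pCore isNilpotent_map card_mul_relIndex
open scoped ComplexConjugate CfsgH2

namespace CfsgRo
universe u

/-- irreducible of odd degree, real if `b` -/
def Gd (b : Prop) {X : Type*} [Group X] (χ : X → ℂ) : Prop :=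
  IsIrrCharacter X χ ∧ Odd (charDegree χ) ∧ (b → ∀ g, (χ g).im = 0)

section
variable {X Y : Type*} [Group X] [Group Y] {b : Prop}

theorem deg_congr {a : X → ℂ} {c : Y → ℂ} (ha : IsCharacter X a) (hc : IsCharacter Y c)
    (h : a 1 = c 1) : charDegree a = charDegree c :=
  Nat.cast_injective (R := ℂ) (by rw [coe_charDegree ha, coe_charDegree hc, h])

theorem con [Fintype X] {a : X → ℂ} (ha : IsCharacter X a) (h1 : Odd (charDegree a))
    (h2 : b → ∀ g, (a g).im = 0) : ∃ φ, Gd b φ ∧ ∃ m : ℕ, classInner a φ = m ∧ Odd m := by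
  classical
  obtain ⟨m, m1, m2⟩ := ha.exists_eq_sum_irr
  have b3 : charDegree a = ∑ φ : IrrCharacter X, m φ * charDegree φ.1 := by
    have := congrFun m2 1
    rw [Finset.sum_apply] at this
    refine Nat.cast_injective (R := ℂ) ?_
    rw [coe_charDegree ha, Nat.cast_sum]
    refine this.trans (Finset.sum_congr rfl fun φ _ => ?_)
    rw [Nat.cast_mul, coe_charDegree φ.2.isCharacter]; rfl
  by_contra! h
  have := Finset.sum_involution (s := Finset.univ)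
    (f := fun χ => ((m χ * charDegree χ.1 : ℕ) : ZMod 2))
    (fun χ _ => if b then ⟨_, χ.2.conj⟩ else χ)
    (fun χ _ => by
      split_ifs with hb
      · have c : m ⟨_, χ.2.conj⟩ = m χ := Nat.cast_injective (R := ℂ) (by
          rw [← m1, ← m1, ha.classInner_comm χ.2.isCharacter, ← classInner_conj_conj,
            conj_eq_self_iff.2 (h2 hb)]
          simp)
        rw [c, deg_congr χ.2.conj.isCharacter χ.2.isCharacter (by
          simp [← coe_charDegree χ.2.isCharacter]), CharTwo.add_self_eq_zero]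
      · exact CharTwo.add_self_eq_zero _)
    (fun χ _ c d => by
      rw [Ne, ZMod.natCast_eq_zero_iff_even, Nat.not_even_iff_odd, Nat.odd_mul] at c
      refine h χ ⟨χ.2, c.2, fun hb => ?_⟩ _ (m1 χ) c.1
      rw [if_pos hb] at d
      exact conj_eq_self_iff.1 (congrArg Subtype.val d))
    (fun _ _ => Finset.mem_univ _) fun χ _ => by
      split_ifs
      · exact Subtype.ext (by simp)
      · rfl
  rw [← Nat.cast_sum, ← b3, ZMod.natCast_eq_zero_iff_even] at this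
  exact Nat.not_even_iff_odd.2 h1 this

theorem inner_surj [Fintype X] [Fintype Y] (f : X →* Y) (hf : Surjective f) {a c : Y → ℂ}
    (ha : IsCharacter Y a) (hc : IsIrrCharacter Y c) :
    classInner (fun g => a (f g)) (fun g => c (f g)) = classInner a c := by
  refine ha.induction_on (P := fun a => classInner (fun g => a (f g)) (fun g => c (f g)) =
    classInner a c) (by simp [classInner]) (fun ψ hψ => ?_) fun a b ha hb => ?_
  · by_cases h : ψ = c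
    · subst h; rw [hc.classInner_self, (hc.comp_of_surjective f hf).classInner_self]
    · rw [hψ.classInner_of_ne hc h, (hψ.comp_of_surjective f hf).classInner_of_ne
        (hc.comp_of_surjective f hf) fun h2 => h (hf.injective_comp_right h2)]
  · rw [classInner_add_left, ← ha, ← hb, ← classInner_add_left]; rfl

theorem Gd.of_comp [Finite X] [Finite Y] (f : X →* Y) (hf : Surjective f) {c : Y → ℂ}
    (hc : IsIrrCharacter Y c) (h : Gd b fun g => c (f g)) : Gd b c :=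
  ⟨hc, deg_congr h.1.isCharacter hc.isCharacter (by rw [map_one]) ▸ h.2.1,
    fun hb => hf.forall.2 (h.2.2 hb)⟩

theorem Gd.comp [Finite X] [Finite Y] (f : X →* Y) (hf : Surjective f) {c : Y → ℂ}
    (h : Gd b c) : Gd b fun g => c (f g) :=
  ⟨h.1.comp_of_surjective f hf, deg_congr (h.1.isCharacter.comp f) h.1.isCharacter
    (by rw [map_one]) ▸ h.2.1, fun hb _ => h.2.2 hb _⟩

theorem Gd.lin [Finite X] (hX : IsPGroup 2 X) {c : X → ℂ} (h : Gd b c) : c 1 = 1 :=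
  lin_of_pgroup hX h.1 h.2.1.not_two_dvd_nat

end

variable {Γ : Type*} [Group Γ] [Finite Γ] {G P M L T : Subgroup Γ} {b : Prop} {χ χ' : G → ℂ}
  {μ μ' : P → ℂ}

/-- odd multiplicity -/
def Om (h : P ≤ G) (χ : G → ℂ) (μ : P → ℂ) : Prop :=
  ∃ m : ℕ, classInner (resLE h χ) μ = m ∧ Odd m

theorem Om.ov {h : P ≤ G} (a : Om h χ μ) : Ov h χ μ := fun e => by
  obtain ⟨m, h1, h2⟩ := a
  rw [e, eq_comm, Nat.cast_eq_zero] at h1
  simp [h1] at h2

theorem Om.cA {h : P ≤ G} (a : Om h χ μ) (hχ : IsClassFunction G χ) {n : Γ} (h1 : n ∈ G)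
    (h2 : n ∈ N[P]) : Om h χ (cA h2 μ) := by
  rwa [Om, classInner_resLE_cA h (le_aI_self hχ h1)]

theorem Gd.cA (a : Gd b μ) {n : Γ} (h : n ∈ N[P]) : Gd b (cA h μ) :=
  a.comp (P.normalizerMonoidHom ⟨n, h⟩).toMonoidHom (MulEquiv.surjective _)

theorem exists_down (h : P ≤ G) (a : Gd b χ) : ∃ μ, Gd b μ ∧ Om h χ μ :=
  con (a.1.isCharacter.resLE h)
    (deg_congr (a.1.isCharacter.resLE h) a.1.isCharacter rfl ▸ a.2.1) fun hb _ => a.2.2 hb _

theorem exists_up (h : P ≤ G) (h1 : Odd (P.relIndex G)) (a : Gd b μ) : ∃ χ, Gd b χ ∧ Om h χ μ := by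
  have a1 := (isCharacter_subOf_iff h).2 a.1.isCharacter
  obtain ⟨χ, h2, m, h3, h4⟩ := con (b := b) a1.ind (by
    have : charDegree (indFun _ (subOf G μ)) = P.relIndex G * charDegree μ :=
      Nat.cast_injective (R := ℂ) (by
        rw [coe_charDegree a1.ind, indFun_apply_one, Nat.cast_mul, coe_charDegree a.1.isCharacter]
        rfl)
    exact this ▸ h1.mul a.2.1) fun hb => conj_eq_self_iff.1 (by
      rw [← indFun_conj]
      exact congrArg _ (conj_eq_self_iff.2 fun _ => a.2.2 hb _))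
  refine ⟨χ, h2, m, ?_, h4⟩
  rw [← h3, classInner_indFun_subOf h μ h2.1.isClassFunction,
    a.1.isCharacter.classInner_comm (h2.1.isCharacter.resLE h)]

theorem ker_of_ov (h : M ≤ G) (hn : G ≤ N[M]) (hχ : IsIrrCharacter G χ) (a : Ov h χ fun _ => 1)
    (x : G) (hx : (x : Γ) ∈ M) : χ x = χ 1 := by
  haveI := (Subgroup.normal_subgroupOf_iff_le_normalizer h).2 hn
  rw [Ov, ← classInner_subOf h] at a
  exact apply_eq_of_classInner_one (N := M.subgroupOf G) hχ a hx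

theorem inv_eq_one {p : ℕ} (hp : p.Prime) (hP : IsPGroup p P) (hn : P ≤ N[M])
    (hc : (Nat.card M).Coprime (Nat.card P)) (h0 : M ⊓ C[P] = ⊥) {θ : M → ℂ}
    (hθ : IsIrrCharacter M θ) (h1 : P ≤ aI θ) : θ = fun _ => 1 := by
  have a := gc_pgroup hp hP hn hc
  have h2 : P ≤ aI (fun _ : M => (1 : ℂ)) := fun x hx => ⟨hn hx, rfl⟩
  have h3 : ∀ β, IsIrrCharacter (M ⊓ C[P] :) β → β = fun _ => 1 := fun β hβ =>
    hβ.eq_one_of_forall_eq fun g => congrArg β (Subtype.ext (Subgroup.mem_bot.1 (h0 ▸ g.2)))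
  obtain ⟨β, b1, b2⟩ := a.ex θ hθ h1
  obtain ⟨γ, b3, b4⟩ := a.ex _ isIrr_one h2
  rw [h3 β b1] at b2
  rw [h3 γ b3] at b4
  exact a.inj hθ isIrr_one isIrr_one h1 h2 b2 b4

theorem cop2 (hP : IsPGroup 2 P) {n : ℕ} (h : Odd n) : n.Coprime (Nat.card P) :=
  (coprime_of_pgroup hP h.not_two_dvd_nat).symm

theorem ker_odd (s : Syl 2 P G) (H : b ∨ G ⊓ N[P] ≤ P) (h : M ≤ G) (hn : G ≤ N[M])
    (ho : Odd (Nat.card M)) (a : Gd b χ) (x : G) (hx : (x : Γ) ∈ M) : χ x = χ 1 := by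
  refine ker_of_ov h hn a.1 ?_ x hx
  rcases H with hb | H
  · obtain ⟨θ, a1, a2⟩ := exists_down h a
    exact a1.1.eq_one_of_odd_of_real ho (a1.2.2 hb) ▸ a2.ov
  · have h1 : P ⊔ M ≤ G := sup_le s.le h
    obtain ⟨η, a1, a2⟩ := exists_down h1 a
    haveI := (Subgroup.normal_subgroupOf_iff_le_normalizer (le_sup_right : M ≤ P ⊔ M)).2
      (h1.trans hn)
    have a3 : IsIrrCharacter M (resLE le_sup_right η) := (isIrr_subOf_iff le_sup_right).1
      (restrict_irr_of_coprime (N := M.subgroupOf (P ⊔ M)) a1.1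
        (coe_charDegree a1.1.isCharacter).symm ((cop2 s.pg a1.2.1).symm.coprime_dvd_left (by
          change M.relIndex (P ⊔ M) ∣ _
          rw [relIndex_sup_of_norm (s.le.trans hn)]; exact Subgroup.relIndex_dvd_card _ _)))
    have a4 := inv_eq_one Nat.prime_two s.pg (s.le.trans hn) (cop2 s.pg ho) (eq_bot_iff.2 (by
      rw [← inf_eq_bot_of_coprime' (cop2 s.pg ho)]
      exact le_inf inf_le_left ((inf_le_inf h (CfsgH2.cent_le_norm P)).trans H))) a3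
      (le_sup_left.trans (le_aI_of_ext _ (h1.trans hn) a1.1.isClassFunction))
    refine over_trans le_sup_right h1 a.1.isCharacter a1.1 isCharacter_one a2.ov ?_
    rw [a4, isIrr_one.classInner_self]; exact one_ne_zero

theorem defl (h : T ≤ N[M]) {ψ : T → ℂ} (a : Gd b ψ) (h1 : ∀ x : T, (x : Γ) ∈ M → ψ x = ψ 1) :
    ∃ β, Gd b β ∧ ψ = fun x => β (pr h x) := by
  obtain ⟨β, h2⟩ := exists_irrComp_eq_of_ker (pr_surj h) (ξ := ⟨ψ, a.1⟩) (by rw [ker_pr]; exact h1)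
  obtain rfl : (fun x => β.1 (pr h x)) = ψ := congrArg Subtype.val h2
  exact ⟨β, a.of_comp _ (pr_surj h) β.2, rfl⟩

theorem lift_norm {p : ℕ} [Fact p.Prime] (s : Syl p P G) (h1 : M ≤ G) (h : G ≤ N[M]) :
    qt M G ⊓ N[qt M P] ≤ qt M (G ⊓ N[P]) := fun y hy => by
  obtain ⟨x, hx, rfl⟩ := mem_qt.1 hy.1
  have h2 := mem_norm_qc x.2 hy.2
  rw [qc_qt (s.le.trans h)] at h2
  obtain ⟨n, h3, k, h4, h5⟩ := (s.mono le_sup_left (sup_le s.le h1)).frattini' h2
  obtain ⟨a, h6, m, h7, rfl⟩ := (mem_sup_of_norm (s.le.trans h)).1 h4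
  have h8 : n * a ∈ G := by simpa [h5, ← mul_assoc] using mul_mem hx (inv_mem (h1 h7))
  exact mem_qt.2 ⟨⟨n * a, h h8⟩, ⟨h8, mul_mem h3 (Subgroup.le_normalizer h6)⟩,
    qmk_eq_iff.2 (by simpa [h5, mul_assoc] using h7)⟩

theorem deg_clif (h1 : L ≤ T) (h2 : T ≤ G) (hK : G ≤ N[L]) {θ : L → ℂ} (hθ : IsIrrCharacter L θ)
    (hT : T = G ⊓ aI θ) {ψ : T → ℂ} (hψ : IsIrrCharacter T ψ) (h3 : Ov h1 ψ θ)
    (hχ : IsIrrCharacter G χ) (h4 : Ov h2 χ ψ) : charDegree χ = T.relIndex G * charDegree ψ := by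
  have a := (clif h1 h2 hK hθ hT hψ h3 hχ h4).1 _ isCharacter_regChar.isClassFunction
  have : resLE h2 (regChar G) = (T.relIndex G : ℂ) • regChar T := funext fun x => by
    by_cases e : x = 1
    · rw [e, Pi.smul_apply, regChar_one, smul_eq_mul, ← Nat.cast_mul, mul_comm,
        CfsgH2.card_mul_relIndex h2]
      exact regChar_one
    · rw [Pi.smul_apply, regChar_of_ne e, smul_zero]
      exact regChar_of_ne fun e' => e (Subtype.ext (congrArg (fun y : G => (y : Γ)) e'))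
  rw [this, classInner_smul_left, classInner_regChar_left, classInner_regChar_left,
    ← coe_charDegree hχ.isCharacter, ← coe_charDegree hψ.isCharacter, map_natCast, map_natCast] at a
  exact_mod_cast a

theorem align {p : ℕ} [Fact p.Prime] (s : Syl p P G) (hK : G ≤ N[L]) {θ : L → ℂ} (h1 : P ≤ aI θ)
    {k : Γ} (hk : k ∈ G) (h2 : P ≤ aI (cA (hK hk) θ)) :
    ∃ n, ∃ hn : n ∈ G, n ∈ N[P] ∧ cA (hK hn) θ = cA (hK hk) θ := by
  have a1 : P.map (CfsgH2.cj k) ≤ G ⊓ aI θ := map_cj_le_iff'.2 fun x hx => by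
    have h3 : k * x * k⁻¹ ∈ aI (cA (inv_mem (hK hk)) (cA (hK hk) θ)) :=
      mem_aI_cA _ (by simpa [mul_assoc] using h2 hx)
    rw [cA_cA, cA_congr _ (mul_inv_cancel k), cA_one] at h3
    exact ⟨G.mul_mem (mul_mem hk (s.le hx)) (inv_mem hk), h3⟩
  obtain ⟨t, a2, a3⟩ := ((s.map_cj_mem hk).mono a1 inf_le_left).conj
    (s.mono (le_inf s.le h1) inf_le_left)
  rw [map_cj_cj, map_cj_eq_iff] at a3
  exact ⟨t * k, mul_mem a2.1 hk, a3, by rw [← cA_cA (hK hk) a2.2.1, a2.2.2]⟩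

/-- the uniqueness claim -/
def Cn (χ χ' : G → ℂ) (μ μ' : P → ℂ) : Prop :=
  χ = χ' ∧ ∃ n ∈ G, ∃ hn : n ∈ N[P], μ' = cA hn μ

/-- the inductive claim -/
def Cl (b : Prop) (h : P ≤ G) : Prop := ∀ χ χ' μ μ', Gd b χ → Gd b χ' → Gd b μ → Gd b μ' →
  Om h χ μ → Om h χ' μ' → χ = χ' ∨ μ = μ' → Cn χ χ' μ μ'

omit [Finite Γ] in
theorem cA_pr {h : T ≤ N[M]} (β : qt M T → ℂ) {t : Γ} (h1 : t ∈ N[T]) (h2 : t ∈ N[M]) :
    cA h1 (fun x => β (pr h x)) = fun x => cA (qmk_mem_norm h2 h1) β (pr h x) := by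
  funext x
  simpa [ga, CfsgH4.cA_apply] using congrFun (cA_ga (h := h) (fun _ => 1) β h1 h2) x

theorem quot_step (s : Syl 2 P G) (h1 : M ≤ G) (h : G ≤ N[M]) (ih : Cl b (qt_mono (K := M) s.le))
    (k : ∀ x : G, (x : Γ) ∈ M → χ x = χ 1 ∧ χ' x = χ' 1) (a1 : Gd b χ) (a2 : Gd b χ')
    (a3 : Gd b μ) (a4 : Gd b μ') (a5 : Om s.le χ μ) (a6 : Om s.le χ' μ') (a7 : χ = χ' ∨ μ = μ') :
    Cn χ χ' μ μ' := by
  have hP := s.le.trans h
  obtain ⟨ν, b3, rfl⟩ := defl hP a3 fun x hx =>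
    (a1.1.isCharacter.resLE s.le).apply_eq_of_constituent a3.1 a5.ov (k ⟨x, s.le x.2⟩ hx).1
  obtain ⟨ν', b4, rfl⟩ := defl hP a4 fun x hx =>
    (a2.1.isCharacter.resLE s.le).apply_eq_of_constituent a4.1 a6.ov (k ⟨x, s.le x.2⟩ hx).2
  obtain ⟨β, b1, rfl⟩ := defl h a1 fun x hx => (k x hx).1
  obtain ⟨β', b2, rfl⟩ := defl h a2 fun x hx => (k x hx).2
  have c : ∀ {β ν}, Gd b β → Gd b ν → Om s.le (fun x => β (pr h x)) (fun x => ν (pr hP x)) →
      Om (qt_mono (K := M) s.le) β ν := fun c1 c2 ⟨m, c3, c4⟩ =>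
    ⟨m, (inner_surj _ (pr_surj hP) (c1.1.isCharacter.resLE _) c2.1).symm.trans c3, c4⟩
  obtain ⟨rfl, y, c1, c2, rfl⟩ := ih β β' ν ν' b1 b2 b3 b4 (c b1 b3 a5) (c b2 b4 a6)
    (a7.imp (fun e => (pr_surj h).injective_comp_right e) fun e =>
      (pr_surj hP).injective_comp_right e)
  obtain ⟨x, c3, rfl⟩ := mem_qt.1 (lift_norm s h1 h ⟨c1, c2⟩)
  exact ⟨rfl, x, c3.1, c3.2, (cA_pr ν c3.2 x.2).symm⟩

theorem Ov.conj {h : L ≤ T} {ψ : T → ℂ} {θ : L → ℂ} (a : Ov h ψ θ) (h1 : ∀ g, (θ g).im = 0) :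
    Ov h (fun g => conj (ψ g)) θ := by
  rw [← conj_eq_self_iff.2 h1, Ov]
  exact (classInner_conj_conj _ _).trans_ne fun e => a (classInner_eq_zero_comm.1 e)

theorem lam (h : P ≤ G) (hP : IsPGroup 2 P) (h1 : L ≤ P) (h2 : P ≤ N[L]) (a1 : Gd b χ)
    (a3 : Gd b μ) (a5 : Om h χ μ) : IsIrrCharacter L (resLE h1 μ) ∧ Ov h1 μ (resLE h1 μ) ∧
      Ov (h1.trans h) χ (resLE h1 μ) ∧ P ≤ aI (resLE h1 μ) := by
  have b1 := (a3.1.isCharacter.resLE h1).isIrr_of_apply_one (a3.lin hP)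
  have b2 : Ov h1 μ (resLE h1 μ) := b1.classInner_self.trans_ne one_ne_zero
  exact ⟨b1, b2, over_trans h1 h a1.1.isCharacter a3.1 b1.isCharacter a5.ov b2,
    le_aI_of_ext _ h2 a3.1.isClassFunction⟩

theorem clif_gd (h : P ≤ G) (hP : IsPGroup 2 P) (h1 : L ≤ P) (h2 : G ≤ N[L]) (a1 : Gd b χ)
    (a3 : Gd b μ) (a5 : Om h χ μ) {θ : L → ℂ} (e : resLE h1 μ = θ) (h3 : P ≤ G ⊓ aI θ) :
    ∃ ψ, Gd b ψ ∧ Ov (h1.trans h3) ψ θ ∧ Ov inf_le_left χ ψ ∧ Om h3 ψ μ := by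
  subst e
  obtain ⟨b1, b2, b3, -⟩ := lam h hP h1 (h.trans h2) a1 a3 a5
  obtain ⟨ψ, c1, c2, c3⟩ := exists_mid (h1.trans h3) inf_le_left a1.1.isClassFunction b3
  refine ⟨ψ, ⟨c1, (Nat.odd_mul.1 (deg_clif _ _ h2 b1 rfl c1 c3 a1.1 c2 ▸ a1.2.1)).2, fun hb =>
    conj_eq_self_iff.1 (clif_down _ _ h2 b1 rfl c1 c3 a1.1 c2 c1.conj
      (Ov.conj c3 fun _ => a3.2.2 hb _) ?_).symm⟩, c3, c2, ?_⟩
  · rw [← conj_eq_self_iff.2 (a1.2.2 hb), Ov]
    exact (classInner_conj_conj _ _).trans_ne fun e => c2 (classInner_eq_zero_comm.1 e)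
  · rwa [Om, ← clif_res _ _ h2 b1 rfl c1 c3 a1.1 c2 h1 h3 a3.1 b2]

theorem ker_comm (h1 : L ≤ G) (h2 : G ≤ N[L]) (hχ : IsIrrCharacter G χ) {θ : L → ℂ}
    (hθ : IsIrrCharacter L θ) (h3 : θ 1 = 1) (h4 : G ≤ aI θ) (a : Ov h1 χ θ) {g l : Γ}
    (hg : g ∈ G) (hl : l ∈ L) (h5 : g * l * g⁻¹ * l⁻¹ ∈ G) : χ ⟨_, h5⟩ = χ 1 := by
  haveI := (Subgroup.normal_subgroupOf_iff_le_normalizer h1).2 h2
  rw [Ov, ← classInner_subOf h1] at a
  have b1 := clifford_of_invariant (N := L.subgroupOf G) hχ ((isIrr_subOf_iff h1).2 hθ) a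
    (cj_subOf_eq h4)
  have b2 := conj_mem_of_norm (h2 hg) hl
  have b3 : θ ⟨_, mul_mem b2 (inv_mem hl)⟩ = θ 1 := by
    rw [show (⟨_, mul_mem b2 (inv_mem hl)⟩ : L) = ⟨_, b2⟩ * ⟨l, hl⟩⁻¹ from rfl,
      hθ.isCharacter.map_mul_of_apply_one h3, show θ ⟨_, b2⟩ = θ ⟨l, hl⟩ from
        congrFun (h4 hg).2 ⟨l, hl⟩, ← hθ.isCharacter.map_mul_of_apply_one h3, mul_inv_cancel]
  exact (congrFun b1 ⟨⟨_, h5⟩, mul_mem b2 (inv_mem hl)⟩).trans
    ((congrArg (_ * ·) b3).trans (congrFun b1 1).symm)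

theorem main (n : ℕ) : ∀ (Γ : Type u) [Group Γ] [Finite Γ] (G P : Subgroup Γ) (s : Syl 2 P G),
    Nat.card G = n → Group.IsSolvable G → (b ∨ G ⊓ N[P] ≤ P) → Cl b s.le := by
  induction n using Nat.strong_induction_on with | _ n ih => ?_
  intro Γ _ _ G P s hn hs H
  have LP : piCoreOf {2} G ≤ P := s.pCoreOf_le
  have nL : G ≤ N[piCoreOf {2} G] := le_norm_piCoreOf
  have key : ∀ {χ χ' μ μ'}, Gd b χ → Gd b χ' → Gd b μ → Gd b μ' → Om s.le χ μ → Om s.le χ' μ' →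
      χ = χ' ∨ μ = μ' → resLE LP μ = resLE LP μ' → Cn χ χ' μ μ' := by
    intro χ χ' μ μ' a1 a2 a3 a4 a5 a6 a7 e
    haveI := a1.1.isCharacter.charKer_normal
    haveI := a2.1.isCharacter.charKer_normal
    by_cases hM : (charKer χ ⊓ charKer χ').map G.subtype = ⊥
    swap
    · have h1 := Subgroup.map_subtype_le (charKer χ ⊓ charKer χ')
      have h2 := le_norm_map_subtype (charKer χ ⊓ charKer χ')
      refine quot_step s h1 h2 (ih _ (hn ▸ card_qt_lt (by rwa [inf_eq_right.2 h1])) _ _ _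
        (s.qt h2) rfl (isSolvable_qt hs) (H.imp_right fun H =>
          (lift_norm s h1 h2).trans (qt_mono H))) (fun x ⟨y, h3, h4⟩ => ?_) a1 a2 a3 a4 a5 a6 a7
      obtain rfl : y = x := Subtype.ext h4
      exact ⟨a1.1.isCharacter.mem_charKer.1 h3.1, a2.1.isCharacter.mem_charKer.1 h3.2⟩
    have h0 : ∀ x : G, χ x = χ 1 → χ' x = χ' 1 → (x : Γ) = 1 := fun x h1 h2 =>
      Subgroup.mem_bot.1 (hM ▸ ⟨x, ⟨a1.1.isCharacter.mem_charKer.2 h1,
        a2.1.isCharacter.mem_charKer.2 h2⟩, rfl⟩)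
    obtain ⟨b1, -, b2, b3⟩ := lam s.le s.pg LP (s.le.trans nL) a1 a3 a5
    obtain ⟨-, -, b4, -⟩ := lam s.le s.pg LP (s.le.trans nL) a2 a4 a6
    by_cases hT : G ≤ aI (resLE LP μ)
    · have c1 : piCoreOf {2}ᶜ G = ⊥ := eq_bot_iff.2 fun x hx =>
        have o := Nat.odd_iff.2 (Nat.two_dvd_ne_zero.1 (not_dvd_piCoreOf (p := 2) (M := G)))
        h0 ⟨x, piCoreOf_le hx⟩ (ker_odd s H piCoreOf_le le_norm_piCoreOf o a1 _ hx)
          (ker_odd s H piCoreOf_le le_norm_piCoreOf o a2 _ hx)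
      have c2 : G ≤ C[piCoreOf {2} G] := fun g hg l hl => by
        have c3 := mul_mem (mul_mem (mul_mem hg (piCoreOf_le hl)) (inv_mem hg))
          (inv_mem (piCoreOf_le hl))
        have := h0 _ (ker_comm piCoreOf_le nL a1.1 b1 (a3.lin s.pg) hT b2 hg hl c3)
          (ker_comm piCoreOf_le nL a2.1 b1 (a3.lin s.pg) hT (e ▸ b4) hg hl c3)
        exact (mul_inv_eq_iff_eq_mul.1 (mul_inv_eq_one.1 this)).symm
      obtain rfl : P = G := le_antisymm s.le ((le_inf le_rfl c2).trans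
        ((cent_core_le hs c1).trans LP))
      obtain rfl := a1.1.eq_of_classInner_ne_zero a3.1 a5.ov
      obtain rfl := a2.1.eq_of_classInner_ne_zero a4.1 a6.ov
      obtain rfl := or_self_iff.1 a7
      exact ⟨rfl, 1, one_mem _, one_mem _, (cA_one _).symm⟩
    · have c0 := le_inf s.le b3
      obtain ⟨ψ, c1, c2, c3, c4⟩ := clif_gd s.le s.pg LP nL a1 a3 a5 rfl c0
      obtain ⟨ψ', c5, c6, c7, c8⟩ := clif_gd s.le s.pg LP nL a2 a4 a6 e.symm c0
      obtain ⟨rfl, n, d1, d2⟩ := ih _ (hn ▸ CfsgH2.card_lt_of_lt (inf_lt_left.2 hT)) _ _ _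
        (s.mono c0 inf_le_left) rfl (isSolvable_of_le inf_le_left)
        (H.imp_right fun H => (inf_le_inf_right _ inf_le_left).trans H) ψ ψ' μ μ' c1 c5 a3 a4 c4 c8
        (a7.imp_left fun e => by
          subst e; exact clif_down _ _ nL b1 rfl c1.1 c2 a1.1 c3 c5.1 c6 c7)
      exact ⟨clif_up _ _ nL b1 rfl c1.1 c2 a2.1 c7 a1.1 c3, n, d1.1, d2⟩
  rintro χ χ' μ μ' a1 a2 a3 a4 a5 a6 (rfl | rfl)
  · obtain ⟨b1, -, b2, b3⟩ := lam s.le s.pg LP (s.le.trans nL) a1 a3 a5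
    obtain ⟨b4, -, b5, b6⟩ := lam s.le s.pg LP (s.le.trans nL) a2 a4 a6
    obtain ⟨k, hk, e⟩ := exists_cA_eq piCoreOf_le nL a1.1 b1 b4 b2 b5
    obtain ⟨m, c1, c2, c3⟩ := align s nL b3 hk (e ▸ b6)
    obtain ⟨-, t, c4, c5, rfl⟩ := key a1 a1 (a3.cA c2) a4 (a5.cA a1.1.isClassFunction c1 c2) a6
      (.inl rfl) (c3.trans e.symm)
    exact ⟨rfl, m * t, mul_mem c1 c4, mul_mem c2 c5, cA_cA _ _ _⟩
  · exact key a1 a2 a3 a4 a5 a6 (.inr rfl) rfl

theorem cent_eq_bot (s : Syl 2 P G) (h : M ≤ G) (hn : G ≤ N[M]) (ho : Odd (Nat.card M))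
    (hr : ∀ χ : G → ℂ, Gd False χ → ∀ g, (χ g).im = 0) : M ⊓ C[P] = ⊥ := by
  refine eq_bot_iff.2 fun x hx => congrArg Subtype.val
    (eq_one_of_forall_irr (g := (⟨x, hx⟩ : (M ⊓ C[P] :))) fun β hβ => ?_)
  obtain ⟨θ, a1, a2, a3⟩ :=
    (gc_pgroup Nat.prime_two s.pg (s.le.trans hn) (cop2 s.pg ho)).surj β hβ
  have h1 : P ⊔ M ≤ G := sup_le s.le h
  haveI := (Subgroup.normal_subgroupOf_iff_le_normalizer (le_sup_right : M ≤ P ⊔ M)).2
    (h1.trans hn)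
  obtain ⟨η, a4, a5, -⟩ := exists_can (G := M.subgroupOf (P ⊔ M)) (by
      rw [CfsgH2.card_subgroupOf le_sup_right]
      refine (cop2 s.pg ho).symm.coprime_dvd_left ?_
      change M.relIndex (P ⊔ M) ∣ _
      rw [relIndex_sup_of_norm (s.le.trans hn)]; exact Subgroup.relIndex_dvd_card _ _)
    ((isIrr_subOf_iff le_sup_right).2 a1)
    (cj_subOf_eq (sup_le a2 (le_aI_self a1.isClassFunction)))
  obtain ⟨χ, a6, a7⟩ := exists_up (b := False) h1
    (Nat.odd_iff.2 (Nat.two_dvd_ne_zero.1 (s.not_dvd_of_le le_sup_left)))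
    ⟨a4.irr, deg_congr a4.irr.isCharacter a1.isCharacter (a5 1) ▸ ho.of_dvd_nat
      (a1.degree_dvd_card (coe_charDegree a1.isCharacter).symm), False.elim⟩
  obtain ⟨m, a8, a9⟩ := a3.not_dvd Nat.prime_two a1.isCharacter hβ
  refine (a1.isCharacter.resLE _).apply_eq_of_constituent hβ (a8.trans_ne (by
    rintro e; rw [Nat.cast_eq_zero] at e; simp [e] at a9)) ?_
  exact (a5 ⟨⟨x, Subgroup.mem_sup_right hx.1⟩, hx.1⟩).symm.trans
    (((a6.1.isCharacter.resLE h1).apply_eq_of_constituent a4.irr a7.ov (ker_odd (b := True) s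
      (.inl trivial) h hn ho ⟨a6.1, a6.2.1, fun _ => hr χ a6⟩ _ hx.1)).trans (a5 1))

theorem selfnorm (n : ℕ) : ∀ (Γ : Type u) [Group Γ] [Finite Γ] (G P : Subgroup Γ), Syl 2 P G →
    Nat.card G = n → Group.IsSolvable G → (∀ χ : G → ℂ, Gd False χ → ∀ g, (χ g).im = 0) →
    G ⊓ N[P] ≤ P := by
  induction n using Nat.strong_induction_on with | _ n ih => ?_
  intro Γ _ _ G P s hn hs hr
  have key : ∀ M, M ≠ ⊥ → M ≤ G → G ≤ N[M] → G ⊓ N[P] ≤ P ⊔ M := fun M h0 h1 h2 =>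
    (qt_le_qt (inf_le_left.trans h2) (s.le.trans h2)).1
      ((le_inf (qt_mono inf_le_left) (qt_le_norm inf_le_right)).trans
        (ih _ (hn ▸ card_qt_lt (by rwa [inf_eq_right.2 h1])) _ _ _ (s.qt h2) rfl
          (isSolvable_qt hs) fun β hβ => (pr_surj h2).forall.2 (hr _ (hβ.comp _ (pr_surj h2)))))
  by_cases h1 : piCoreOf {2}ᶜ G = ⊥
  · by_cases h2 : piCoreOf {2} G = ⊥
    · have := cent_core_le hs h1
      rw [h2, CfsgH2.cent_bot, inf_top_eq] at this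
      exact inf_le_left.trans (this.trans bot_le)
    · exact (key _ h2 piCoreOf_le le_norm_piCoreOf).trans (sup_le le_rfl s.pCoreOf_le)
  · have o := Nat.odd_iff.2 (Nat.two_dvd_ne_zero.1 (not_dvd_piCoreOf (p := 2) (M := G)))
    have h2 := s.le.trans (le_norm_piCoreOf (π := {2}ᶜ))
    intro x hx
    obtain ⟨a, h3, m, h4, rfl⟩ :=
      (mem_sup_of_norm h2).1 (key _ h1 piCoreOf_le le_norm_piCoreOf hx)
    have h5 : m ∈ piCoreOf {2}ᶜ G ⊓ C[P] := ⟨h4, le_cent_of_inf_eq_bot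
      (H := piCoreOf {2}ᶜ G ⊓ N[P]) inf_le_right (le_norm_inf h2 (le_norm_norm Subgroup.le_normalizer))
      (eq_bot_iff.2 (by
        rw [← inf_eq_bot_of_coprime' (cop2 s.pg o)]; exact inf_le_inf_right _ inf_le_left))
      ⟨h4, (Subgroup.mul_mem_cancel_left _ (Subgroup.le_normalizer h3)).1 hx.2⟩⟩
    rw [cent_eq_bot s piCoreOf_le le_norm_piCoreOf o hr, Subgroup.mem_bot] at h5
    simpa [h5] using h3

theorem real_iff {X : Type*} [Group X] [Finite X] (hX : IsPGroup 2 X) :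
    (∀ μ : X → ℂ, Gd False μ → ∀ g, (μ g).im = 0) ↔ commutator X = frattini X := by
  haveI := hX.isNilpotent
  refine ⟨fun h => le_antisymm commutator_le_frattini fun x hx => by_contra fun h1 => ?_,
    fun h μ a g => ?_⟩
  · obtain ⟨l, h2, h3⟩ := exists_unitsHom_of_not_mem (N := commutator X)
      (fun a b => Subgroup.commutator_mem_commutator (Subgroup.mem_top a) (Subgroup.mem_top b)) h1
    have h4 : ∀ g, l g = 1 ∨ l g = -1 := fun g => by
      have h5 := h _ ⟨isIrr_of_unitsHom l, (charDegree_eq_one (isIrr_of_unitsHom l).isCharacter).2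
        (by simp) ▸ odd_one, False.elim⟩ g
      have h6 := norm_eq_one_of_lin (isIrr_of_unitsHom l).isCharacter (by simp) g
      rw [← Complex.re_add_im (l g), h5] at h6
      simp only [Units.ext_iff, Complex.ext_iff]
      simpa [h5, abs_eq zero_le_one] using h6
    refine h3 (le_frattini_iff.1 le_rfl l.ker (isCoatom_of_index_prime ?_) hx)
    rw [Subgroup.index_eq_two_iff.2 ⟨x, fun y => ?_⟩]
    · exact Nat.prime_two
    · have h7 : (-1 : ℂˣ) ≠ 1 := fun e => by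
        have := congrArg (fun z : ℂˣ => (z : ℂ).re) e
        norm_num at this
      simp only [MonoidHom.mem_ker, map_mul, (h4 x).resolve_left h3]
      rcases h4 y with e | e <;> simp [e, h7, Xor']
  · have h1 := a.lin hX
    have h2 : μ g * μ g = 1 := by
      rw [← a.1.isCharacter.map_mul_of_apply_one h1]
      refine lin_comm a.1.isCharacter h1 (h ▸ (le_frattini_iff (N := Subgroup.zpowers (g * g))).2
        (fun M hM => Subgroup.zpowers_le.2 ?_) (Subgroup.mem_zpowers _))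
      haveI := normal_of_isCoatom_of_isNilpotent hM
      obtain ⟨k, h3⟩ := hX.index M
      have h4 := index_prime_of_isCoatom hM
      rw [h3] at h4
      rw [← sq, ← pow_one 2, ← h4.eq_one_of_pow, ← h3]
      exact M.pow_index_mem g
    rcases mul_self_eq_one_iff.1 h2 with e | e <;> simp [e]

end CfsgRo
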