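import Cfsg.Agent.H3.Ito
import Cfsg.Agent.H3.Cd4
import Cfsg.Agent.H4.Gal2

/-! Groups whose real irreducible characters have degree prime to `p`. -/

set_option autoImplicit false
open Subgroup Cfsg CfsgH3 CfsgH4 CfsgCd Function
open CfsgH2 hiding cj cj_apply isPGroup_pCore le_pCore isNilpotent_map card_mul_relIndex
open scoped commutatorElement ComplexConjugate

namespace CfsgRp

universe u
variable {G : Type*} [Group G] [Finite G] {p : ℕ} {N H P M : Subgroup G}

/-- real irreducible characters have degree prime to `p`. -/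
def RP (p : ℕ) (G : Type*) [Group G] : Prop :=
  ∀ χ : IrrCharacter G, (∀ g, (χ.1 g).im = 0) → ¬ p ∣ charDegree χ.1

theorem RP.quot (h : RP p G) (N : Subgroup G) [N.Normal] : RP p (G ⧸ N) := fun β hβ =>
  h ⟨_, irr_inflate β.2⟩ fun _ => hβ _

theorem RP.sub (h : RP p G) [N.Normal] (hi : Odd N.index) : RP p N := fun θ hθ e => by
  obtain ⟨χ, a, b, -⟩ := exists_unique_real hi hθ
  have := Fintype.ofFinite N
  exact h χ b ((e.mul_left _).trans (deg_dvd_of_over θ.2 χ.2 (over_subtype_iff.1 a)).1)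

theorem exists_real_over [hN : N.Normal] [Fintype N] (h0 : N ⊓ H = ⊥) (ho : Odd (N ⊔ H).index) {θ : N → ℂ}
    (hθ : IsIrrCharacter N θ) (h1 : Odd (charDegree θ)) {t : G} (ht : cj t θ = fun n => conj (θ n)) :
    ∃ χ : IrrCharacter G, (∀ g, (χ.1 g).im = 0) ∧ classInner (fun n : N => χ.1 n) θ ≠ 0 := by
  classical
  have := Fintype.ofFinite G
  have a := (isCharacter_one (G := H)).ind
  obtain ⟨m, m1, m2⟩ := a.exists_eq_sum_irr
  choose e he using fun χ : IrrCharacter G => (χ.2.isCharacter.restrict N).exists_nat_classInner hθ.isCharacter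
  have b : ∑ χ, m χ * e χ = (N ⊔ H).index * charDegree θ := by
    have c := congrArg (fun f : G → ℂ => classInner (fun n : N => f n) θ) m2
    have d : (fun n : N => indFun H (fun _ => 1) n) = ((N ⊔ H).index : ℂ) • regChar N := funext fun n => by
      by_cases e : n = 1
      · rw [e, coe_one, indFun_apply_one, Pi.smul_apply, regChar_one, smul_eq_mul, mul_one, ← Nat.cast_mul, Nat.cast_inj,
          ← relIndex_mul_index (le_sup_right : H ≤ N ⊔ H), mul_comm]
        congr 1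
        refine mul_right_cancel₀ (Nat.card_pos (α := H)).ne' ?_
        rw [mul_comm, CfsgH2.card_mul_relIndex le_sup_right, card_sup_of_disj (.inr le_normalizer_of_normal) h0]
      · rw [Pi.smul_apply, regChar_of_ne e, smul_zero]
        exact indFun_eq_zero_of_not_conj _ fun x hx => e (Subtype.ext (by
          simpa [mul_assoc] using congrArg (x * · * x⁻¹) (mem_bot.1 (h0 ▸ ⟨hN.conj_mem' _ n.2 x, hx⟩ : x⁻¹ * n * x ∈ (⊥ : Subgroup G)))))
    simp only [d, classInner_smul_left, classInner_regChar_left, ← coe_charDegree hθ.isCharacter, map_natCast] at c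
    rw [show (fun n : N => (∑ φ : IrrCharacter G, (m φ : ℂ) • φ.1) n) = ∑ φ : IrrCharacter G, (m φ : ℂ) • fun n : N => φ.1 n by
      ext; simp, classInner_sum_left] at c
    simp only [classInner_smul_left, he] at c
    exact_mod_cast c.symm
  by_contra! h
  have := Finset.sum_involution (s := Finset.univ) (f := fun χ => ((m χ * e χ : ℕ) : ZMod 2)) (fun χ _ => ⟨_, χ.2.conj⟩)
    (fun χ _ => by
      have c : m ⟨_, χ.2.conj⟩ = m χ := Nat.cast_injective (R := ℂ) (by
        rw [← m1, ← m1, a.classInner_comm χ.2.isCharacter, ← classInner_conj_conj, ← indFun_conj]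
        simp)
      have d : e ⟨_, χ.2.conj⟩ = e χ := Nat.cast_injective (R := ℂ) (by
        rw [← he, ← he, ← classInner_restrict_cj χ.2.isClassFunction t, ht, ← classInner_conj_conj,
          hθ.conj.isCharacter.classInner_comm (by simpa using χ.2.isCharacter.restrict N)]
        simp)
      rw [c, d, CharTwo.add_self_eq_zero])
    (fun χ _ c d => c (by
      have := h χ fun g => Complex.conj_eq_iff_im.1 (congrFun (congrArg Subtype.val d) g)
      rw [he, Nat.cast_eq_zero] at this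
      simp [this])) (fun _ _ => Finset.mem_univ _) fun χ _ => Subtype.ext (by simp)
  rw [← Nat.cast_sum, b, ZMod.natCast_eq_zero_iff_even] at this
  exact Nat.not_even_iff_odd.2 (ho.mul h1) this

theorem exists_inv [hN : N.Normal] (ab : N ≤ C[N]) {t : G} (h : ∃ x ∈ N, ∀ n ∈ N, n * (t * n * t⁻¹) ≠ x) :
    ∃ θ, IsIrrCharacter N θ ∧ θ 1 = 1 ∧ θ ≠ (fun _ => 1) ∧ cj t θ = fun n => conj (θ n) := by
  haveI : IsMulCommutative N := ⟨⟨fun a b => Subtype.ext (ab b.2 a a.2)⟩⟩
  obtain ⟨x, hx, h⟩ := h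
  let φ : N →* N := MonoidHom.mk' (fun n => n * MulAut.conjNormal t n) fun a b => by
    rw [map_mul, mul_assoc, ← mul_assoc b, mul_comm' b, mul_assoc, ← mul_assoc a]
  obtain ⟨θ, h1, h2, h3⟩ := exists_irr_of_notMem φ.range (g := ⟨x, hx⟩) fun ⟨n, e⟩ => h n n.2 (congrArg Subtype.val e)
  have h4 := h1.apply_one_of_comm mul_comm'
  refine ⟨θ, h1, h4, fun e => h3 (by rw [e]), funext fun n => ?_⟩
  have := h2 _ ⟨n, rfl⟩
  rw [h4, show φ n = n * MulAut.conjNormal t n from rfl, h1.isCharacter.map_mul_of_apply_one h4] at this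
  rw [cj_eq_comp, ← h1.isCharacter.apply_inv]
  exact (eq_inv_of_mul_eq_one_right this).trans (eq_inv_of_mul_eq_one_left (by
    rw [← h1.isCharacter.map_mul_of_apply_one h4, inv_mul_cancel, h4])).symm

theorem exists_inv' [hN : N.Normal] (ab : N ≤ C[N]) {t : G} (h1 : t ∉ C[N]) (h2 : t * t ∈ C[N]) :
    ∃ θ, IsIrrCharacter N θ ∧ θ 1 = 1 ∧ θ ≠ (fun _ => 1) ∧ cj t θ = fun n => conj (θ n) := by
  refine exists_inv ab ?_
  by_contra! h
  refine h1 fun x hx => ?_
  obtain ⟨n, hn, rfl⟩ := h x hx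
  have k := hN.conj_mem n hn t
  calc _ = t * n * t⁻¹ * n * t := by rw [ab hn _ k]
    _ = t * n * t⁻¹ * (t * t * n * t⁻¹) := by rw [← h2 n hn, mul_assoc n, mul_inv_cancel_right, mul_assoc _ n]
    _ = _ := by group

theorem main [hp : Fact p.Prime] (n : ℕ) : ∀ (G : Type u) [Group G] [Finite G], Nat.card G = n → RP p G →
    (∃ L : Subgroup G, L.Normal ∧ Sol[L] ∧ ¬ p ∣ L.index) → (∀ M : Subgroup G, M.Normal → Odd M.index → ∃ k, M.index = p ^ k) →
    ∀ P : Subgroup G, Syl p P ⊤ → P.Normal := by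
  induction n using Nat.strong_induction_on with | _ n ih => ?_
  rintro G _ _ hn h ⟨L, l1, l2, l3⟩ ho P hP
  by_contra hc
  have nn : ∀ S : Subgroup G, Syl p S ⊤ → ¬ S.Normal := fun S hS e => hc (hS.eq_of_norm hP le_normalizer_of_normal ▸ e)
  obtain ⟨N, q, n1, n2, n3, hq, n4, n5, n6, n7⟩ := CfsgH1.exists_elementary_normal_le L fun e => hc (by
    rw [e, index_bot] at l3
    exact eq_bot_of_pgroup_of_not_dvd hP.pg (fun a => l3 (a.trans (card_subgroup_dvd_card P))) ▸ normal_bot)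
  haveI := Fact.mk hq
  have ab : N ≤ C[N] := le_centralizer N
  have k1 : ∀ S : Subgroup G, Syl p S ⊤ → (S ⊔ N).Normal := fun S hS => by
    have := (ih _ (hn ▸ CfsgH1.card_quotient_lt n2) (G ⧸ N) rfl (h.quot N) ⟨L.map (QuotientGroup.mk' N), l1.map _ (QuotientGroup.mk'_surjective N),
      isSolvable_map _ l2, fun e => l3 (e.trans (index_map_dvd _ (QuotientGroup.mk'_surjective N)))⟩ (fun M m o => by
        simpa only [index_comap_of_surjective _ (QuotientGroup.mk'_surjective N)] using ho (M.comap (QuotientGroup.mk' N)) (m.comap _)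
          (by rwa [index_comap_of_surjective _ (QuotientGroup.mk'_surjective N)])) _
      (map_top_of_surjective _ (QuotientGroup.mk'_surjective N) ▸ hS.map (QuotientGroup.mk' N))).comap (QuotientGroup.mk' N)
    rwa [comap_map_eq, QuotientGroup.ker_mk'] at this
  have pq : q ≠ p := by
    rintro rfl
    exact hc (sup_eq_left.2 (hP.le_of_norm n5 le_top le_normalizer_of_normal) ▸ k1 P hP)
  have k2 : ∀ S : Subgroup G, Syl p S ⊤ → N ⊔ N[S] = ⊤ := fun S hS => by
    haveI := k1 S hS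
    have := (hS.mono le_sup_left le_top).frattini_sup (K := S ⊔ N) le_top le_normalizer_of_normal
    rwa [top_inf_eq, sup_comm S, sup_assoc, sup_eq_right.2 le_normalizer] at this
  have k3 : ∀ S : Subgroup G, Syl p S ⊤ → N ⊓ C[S] = ⊥ := fun S hS => (n7 _ (normalizer_eq_top_iff.1 (top_le_iff.1
    ((k2 S hS).ge.trans (sup_le ((ab.trans (CfsgH2.cent_anti inf_le_left)).trans (centralizer_le_normalizer _))
      (CfsgH1.le_normalizer_inf le_normalizer_of_normal (CfsgH1.normalizer_le_normalizer_centralizer S)))))) inf_le_left).resolve_right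
    fun e => nn S hS (normalizer_eq_top_iff.1 (by
      rw [← k2 S hS, sup_eq_right.2 ((e.ge.trans inf_le_right).trans (centralizer_le_normalizer _))]))
  have cp : ∀ S : Subgroup G, Syl p S ⊤ → o[S].Coprime o[N] := fun S hS => coprime_of_pgroup hS.pg (CfsgCP.not_dvd_pg n5 pq.symm)
  have k4 : N ⊓ N[P] = ⊥ := eq_bot_iff.2 fun x hx => k3 P hP ▸ ⟨hx.1, fun y hy => mul_inv_eq_one.1 (mem_bot.1 (by
    rw [← inf_eq_bot_of_coprime' (cp P hP), mul_inv_rev]
    exact mem_inf.2 ⟨by simpa only [mul_assoc] using P.mul_mem hy (conj_mem_of_norm hx.2 (P.inv_mem hy)),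
      by simpa only [mul_assoc] using N.mul_mem (n1.conj_mem x hx.1 y) (N.inv_mem hx.1)⟩))⟩
  obtain ⟨t, θ, t1, t2, t3, t4⟩ : ∃ t θ, IsIrrCharacter N θ ∧ θ 1 = 1 ∧ θ ≠ (fun _ => 1) ∧ cj t θ = fun n => conj (θ n) := by
    rcases eq_or_ne q 2 with rfl | q2
    · obtain ⟨x, x1⟩ := ne_bot_iff_exists_ne_one.1 n2
      exact ⟨1, exists_inv ab ⟨x, x.2, fun y hy e => x1 (Subtype.ext (by simpa [← sq, n6 y hy] using e.symm))⟩⟩
    obtain ⟨t, ht⟩ := exists_prime_orderOf_dvd_card' (G := G ⧸ C[N]) 2 (even_iff_two_dvd.1 (Nat.not_odd_iff_even.1 fun o => by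
      have a : N ⊔ C[N] ⊓ N[P] = C[N] := le_antisymm (sup_le ab inf_le_left) fun x hx => by
        obtain ⟨a, ha, b, hb, rfl⟩ := mem_sup_of_normal_left.1 ((k2 P hP).ge (mem_top x))
        exact mul_mem_sup ha ⟨(Subgroup.mul_mem_cancel_left _ (ab ha)).1 hx, hb⟩
      have b : (C[N] ⊓ N[P]).index = C[N].index * o[N] := mul_right_cancel₀ (Nat.card_pos (α := (C[N] ⊓ N[P] :))).ne' (by
        rw [index_mul_card, mul_assoc, ← card_sup_of_disj (.inr le_normalizer_of_normal)
          (le_bot_iff.1 (k4 ▸ inf_le_inf_left _ inf_le_right)), a, index_mul_card])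
      obtain ⟨j, hj⟩ := n5.exists_card_eq
      obtain ⟨k, hk⟩ := ho (C[N] ⊓ N[P]) (normalizer_eq_top_iff.1 (top_le_iff.1 ((k2 P hP).ge.trans (sup_le
        ((le_centralizer_iff.1 inf_le_left).trans (centralizer_le_normalizer _))
        (CfsgH1.le_normalizer_inf le_normalizer_of_normal le_normalizer))))) (by
          rw [b, hj]; exact Odd.mul o (hq.odd_of_ne_two q2).pow)
      exact pq ((Nat.prime_dvd_prime_iff_eq hq hp.out).1 (hq.dvd_of_dvd_pow (hk ▸ b ▸ (dvd_card_of_pgroup n5 n2).mul_left _)))))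
    obtain ⟨t, rfl⟩ := QuotientGroup.mk_surjective t
    exact ⟨t, exists_inv' ab (fun e => by simp [(QuotientGroup.eq_one_iff t).2 e] at ht) ((QuotientGroup.eq_one_iff _).1 (by
      rw [QuotientGroup.mk_mul, ← sq, ← ht, pow_orderOf_eq_one]))⟩
  have := Fintype.ofFinite N
  obtain ⟨χ, c1, c2⟩ := exists_real_over k4 (by simp [k2 P hP]) t1 (by simp [(charDegree_eq_one t1.isCharacter).2 t2]) t4
  obtain ⟨S, hS⟩ := exists_syl p (inertia θ)
  have hS' := hS.trans le_top (by
    rw [relIndex_top_right]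
    exact fun e => h χ c1 ((e.mul_right _).trans (deg_dvd_of_over t1 χ.2 c2).1))
  have a := CfsgH1.coprime_commutator_sup_centralizer (A := S) (K := N) le_normalizer_of_normal (cp S hS') (.inl (isSolvable_of_pgroup hS.pg))
  rw [k3 S hS', sup_bot_eq] at a
  refine t3 (funext fun x => (t1.isCharacter.mem_charKer.1 ?_).trans t2)
  refine (mem_map_iff_mem N.subtype_injective).1 ((a.ge.trans (commutator_le.2 fun y hy s hs => mem_map.2 ⟨⟨y, hy⟩ * ⟨_, n1.conj_mem _ (N.inv_mem hy) s⟩,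
    t1.isCharacter.mem_charKer.2 ?_, by simp [commutatorElement_def, mul_assoc]⟩)) x.2)
  rw [t1.isCharacter.map_mul_of_apply_one t2, show θ ⟨_, n1.conj_mem _ (N.inv_mem hy) s⟩ = _ from mem_inertia'.1 (hS.le hs) ⟨y, hy⟩⁻¹,
    ← t1.isCharacter.map_mul_of_apply_one t2, mul_inv_cancel]

theorem cent_ab [hp : Fact p.Prime] (h2 : p ≠ 2) (h : RP p G) (hP : Syl p P ⊤) [M.Normal] (ab : M ≤ C[M]) (hM : M ≤ ⁅P, P⁆) (k : ℕ) :
    ∀ t : G, t ^ 2 ^ k ∈ C[M] → t ∈ C[M] := by
  induction k with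
  | zero => simp
  | succ k ih =>
  intro t ht
  by_contra h1
  obtain ⟨θ, t1, t2, t3, t4⟩ := exists_inv' ab h1 (ih _ (by rwa [← sq, ← pow_mul, ← pow_succ']))
  have := Fintype.ofFinite G
  have := Fintype.ofFinite M
  have := Fintype.ofFinite P
  have l := hM.trans (commutator_le_self P)
  obtain ⟨S, hS⟩ := exists_syl 2 (⊤ : Subgroup G)
  obtain ⟨χ, c1, c2⟩ := exists_real_over (H := S) (inf_eq_bot_of_coprime' (coprime_of_pgroup (hP.pg.to_le l) (CfsgCP.not_dvd_pg hS.pg h2)))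
    (by simpa [← even_iff_two_dvd] using hS.not_dvd_of_le (K := M ⊔ S) le_sup_right) t1
    (by simp [(charDegree_eq_one t1.isCharacter).2 t2]) t4
  obtain ⟨μ, m1, m2, m3⟩ := exists_constituent_not_dvd (χ.2.isCharacter.restrict P) (h χ c1)
  have m4 := lin_of_pgroup hP.pg m1 m3
  have := over_trans l χ.2.isCharacter m1 isIrr_one m2 (by
    rw [show resLE l μ = fun _ => 1 from funext fun x => lin_comm m1.isCharacter m4
      ((mem_map_iff_mem P.subtype_injective).1 (by rw [map_subtype_commutator]; exact hM x.2)), isIrr_one.classInner_self]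
    exact one_ne_zero)
  exact t3 (funext fun x => ((χ.2.isCharacter.restrict M).apply_eq_of_constituent t1 c2
    (apply_eq_of_classInner_one χ.2 this x.2)).trans t2)

/-- The subgroup generated by the `p`-elements. -/
abbrev Op (p : ℕ) (G : Type*) [Group G] : Subgroup G := closure {g : G | ∃ k : ℕ, orderOf g = p ^ k}

instance Op_normal : (Op p G).Normal := ⟨fun x hx g => closure_induction (fun y ⟨k, hk⟩ => subset_closure ⟨k, by
    rw [← hk]; exact (MulAut.conj g).orderOf_eq y⟩) (by simp) (fun a b _ _ c d => by rw [← conj_mul]; exact mul_mem c d)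
  (fun a _ c => by rw [← conj_inv]; exact inv_mem c) hx⟩

theorem not_dvd_Op [Fact p.Prime] : ¬ p ∣ (Op p G).index := by
  obtain ⟨S, hS⟩ := exists_syl p (⊤ : Subgroup G)
  simpa using hS.not_dvd_of_le (K := Op p G) fun x hx => subset_closure (pgroup_mem_order hS.pg hx)

theorem odd_Op : Odd (Op 2 G).index := Nat.not_even_iff_odd.1 (mt even_iff_two_dvd.1 not_dvd_Op)

theorem mem_of_odd [M.Normal] (o : Odd M.index) {x : G} {k : ℕ} (h : orderOf x = 2 ^ k) : x ∈ M :=
  (QuotientGroup.eq_one_iff x).1 (orderOf_eq_one_iff.1 (Nat.eq_one_of_dvd_coprimes ((Nat.coprime_two_left.2 o).pow_left k)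
    (h ▸ orderOf_map_dvd (QuotientGroup.mk' M) x) (orderOf_dvd_natCard _)))

theorem normal_of_Op [hp : Fact p.Prime] (hs : Sol[Op p G]) (h : RP p G) {U : Subgroup G} [U.Normal] (hU : Op 2 G ≤ U)
    {a : ℕ} (ha : (Op 2 G).relIndex U = p ^ a) (Q : Sylow p U) : (Q : Subgroup U).Normal := by
  refine main _ U rfl (h.sub (odd_Op.of_dvd_nat (index_dvd_of_le hU))) ⟨(Op p G).subgroupOf U, inferInstance,
    CfsgH1.isSolvable_subgroupOf _ _, fun e => not_dvd_Op (e.trans (relIndex_dvd_index_of_normal _ _))⟩ (fun M m o => ?_) _ (syl_top Q)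
  have : Op 2 G ≤ M.map U.subtype := (closure_le _).2 fun x ⟨k, hk⟩ =>
    ⟨⟨x, hU (subset_closure ⟨k, hk⟩)⟩, mem_of_odd o ((orderOf_mk _ _).trans hk), rfl⟩
  have : (Op 2 G).subgroupOf U ≤ M := fun x hx => (mem_map_iff_mem U.subtype_injective).1 (this hx)
  exact ((Nat.dvd_prime_pow hp.out).1 ((index_dvd_of_le this).trans ha.dvd)).imp fun _ => And.right

theorem cent_of_le [hp : Fact p.Prime] (h2 : p ≠ 2) (h : RP p G) (hP : Syl p P ⊤) [hn : M.Normal] (hM : M ≤ ⁅P, P⁆) : Op 2 G ≤ C[M] := by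
  refine (closure_le _).2 fun t ⟨k, hk⟩ => ?_
  have s := QuotientGroup.mk'_surjective ⁅M, M⁆
  have l := hP.pg.to_le (hM.trans (commutator_le_self P))
  haveI := hn.map _ s
  have a1 : M.map (QuotientGroup.mk' ⁅M, M⁆) ≤ ⁅P.map (QuotientGroup.mk' ⁅M, M⁆), P.map (QuotientGroup.mk' ⁅M, M⁆)⁆ := by
    rw [← Subgroup.map_commutator]; exact map_mono hM
  have a2 : Syl p (P.map (QuotientGroup.mk' ⁅M, M⁆)) ⊤ := map_top_of_surjective _ s ▸ hP.map (QuotientGroup.mk' ⁅M, M⁆)
  have a := cent_ab h2 (h.quot ⁅M, M⁆) a2 ((map_le_cent_map_iff_comm _).2 (QuotientGroup.ker_mk' _).ge) a1 k (QuotientGroup.mk' ⁅M, M⁆ t) (by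
      rw [← map_pow, ← hk, pow_orderOf_eq_one, map_one]; exact one_mem _)
  have b : ⁅zpowers t, M⁆ ≤ ⁅M, M⁆ := ((map_le_cent_map_iff_comm (QuotientGroup.mk' ⁅M, M⁆)).1 (by
    rwa [MonoidHom.map_zpowers, zpowers_le])).trans (QuotientGroup.ker_mk' _).le
  have c : o[zpowers t].Coprime o[M] := by
    rw [Nat.card_zpowers, hk]
    exact (coprime_of_pgroup l fun e => h2 ((Nat.prime_dvd_prime_iff_eq hp.out Nat.prime_two).1 (hp.out.dvd_of_dvd_pow e))).symm
  rw [Subgroup.commutator_comm] at b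
  exact zpowers_le.1 (CfsgH1.coprime_le_centralizer_of_frattini le_normalizer_of_normal (c.coprime_dvd_right
    (card_subgroup_dvd_card _)) (b.trans (comm_le_phi l.isNilpotent)))

end CfsgRp
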