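import Cfsg.Agent.H3.Ro
import Cfsg.Agent.H3.Rp
import Cfsg.Agent.H1.SS2

/-! Real characters of `p'`-degree and Sylow normalizers. -/

set_option autoImplicit false
open Cfsg CfsgH3 CfsgH4 CfsgH1 CfsgRg CfsgRo CfsgRp Function
open CfsgH2 hiding cj cj_apply isPGroup_pCore le_pCore isNilpotent_map card_mul_relIndex
open scoped ComplexConjugate CfsgH2

namespace CfsgRq

variable {Γ : Type*} [Group Γ] [Finite Γ] {P K C T : Subgroup Γ} {p : ℕ} {θ : K → ℂ}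
  {χ : T → ℂ} {ξ : C → ℂ}

theorem ov_iff (h : K ≤ T) : Over (K.subgroupOf T).subtype χ (subOf T θ) ↔ Ov h χ θ := by
  rw [over_subtype_iff, Ov, ← classInner_subOf h]; rfl

theorem ur (h : K ≤ T) (hn : T ≤ N[K]) (o : Odd (K.relIndex T)) (hθ : IsIrrCharacter K θ)
    (r : ∀ g, (θ g).im = 0) : ∃ χ, IsIrrCharacter T χ ∧ (∀ g, (χ g).im = 0) ∧ Ov h χ θ ∧
      ∀ ψ, IsIrrCharacter T ψ → (∀ g, (ψ g).im = 0) → Ov h ψ θ → ψ = χ := by
  haveI := (Subgroup.normal_subgroupOf_iff_le_normalizer h).2 hn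
  obtain ⟨χ, a1, a2, a3⟩ := exists_unique_real (N := K.subgroupOf T) o
    (θ := ⟨_, (isIrr_subOf_iff h).2 hθ⟩) fun _ => r _
  exact ⟨χ, χ.2, a2, (ov_iff h).1 a1, fun ψ b1 b2 b3 =>
    congrArg Subtype.val (a3 ⟨ψ, b1⟩ ((ov_iff h).2 b3) b2)⟩

theorem real_under (h : K ≤ T) (hn : T ≤ N[K]) (o : Odd (K.relIndex T)) (hθ : IsIrrCharacter K θ)
    (hχ : IsIrrCharacter T χ) (r : ∀ g, (χ g).im = 0) (a : Ov h χ θ) (g : K) : (θ g).im = 0 :=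
  haveI := (Subgroup.normal_subgroupOf_iff_le_normalizer h).2 hn
  Over.real (N := K.subgroupOf T) o (χ := ⟨χ, hχ⟩) r (θ := ⟨_, (isIrr_subOf_iff h).2 hθ⟩)
    ((ov_iff h).2 a) ⟨⟨g, h g.2⟩, g.2⟩

theorem inertia_eq (h : K ≤ T) (hn : T ≤ N[K]) [(K.subgroupOf T).Normal] :
    inertia (subOf T θ) = (T ⊓ aI θ).subgroupOf T := by
  ext x
  rw [mem_inertia, Subgroup.mem_subgroupOf, Subgroup.mem_inf, and_iff_right x.2,
    mem_aI (hn x.2), ← (subOf_injective h).eq_iff]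
  rfl

theorem deg_real (h : K ≤ T) (hn : T ≤ N[K]) (o : Odd (K.relIndex T)) (hθ : IsIrrCharacter K θ)
    (hχ : IsIrrCharacter T χ) (r : ∀ g, (χ g).im = 0) (a : Ov h χ θ) :
    charDegree χ = (T ⊓ aI θ).relIndex T * charDegree θ := by
  haveI := (Subgroup.normal_subgroupOf_iff_le_normalizer h).2 hn
  have a1 := (isIrr_subOf_iff h).2 hθ
  have a2 := (ov_iff h).2 a
  have a3 := fs_eq_of_real (N := K.subgroupOf T) o (χ := ⟨χ, hχ⟩) r (θ := ⟨_, a1⟩) a2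
  have a4 := clifford_degree hχ a1 (over_subtype_iff.1 a2)
  obtain ⟨m, a5⟩ := (hχ.isCharacter.restrict _).exists_nat_classInner a1.isCharacter
  have a6 : ∀ {X : Type _} [Group X] [Fintype X] {f : X → ℂ}, IsIrrCharacter X f →
      (∀ g, (f g).im = 0) → ‖fs f‖ = 1 := fun c1 c2 => by
    rcases fs_cases c1 with ⟨-, e | e⟩ | e
    · simp [e]
    · simp [e]
    · exact (e.1 c2).elim
  have a7 := congrArg norm a3
  rw [norm_mul, a6 a1 fun _ => real_under h hn o hθ hχ r a _, a6 hχ r, a5, one_mul,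
    Complex.norm_natCast, eq_comm, Nat.cast_eq_one] at a7
  rw [a5, a7, inertia_eq h hn, ← coe_charDegree hχ.isCharacter,
    show subOf T θ 1 = _ from (coe_charDegree hθ.isCharacter).symm, Nat.cast_one, one_mul] at a4
  exact_mod_cast a4

variable [hp : Fact p.Prime]

theorem exists_inv (s : Syl p P T) (hn : T ≤ N[K]) (h : ¬ p ∣ (T ⊓ aI θ).relIndex T) :
    ∃ k, ∃ hk : k ∈ T, P ≤ aI (cA (hn hk) θ) := by
  obtain ⟨R, a1⟩ := exists_syl p (T ⊓ aI θ)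
  obtain ⟨g, a2, rfl⟩ := s.conj (a1.trans inf_le_left h)
  exact ⟨g, a2, fun x hx => mem_aI_cA _ (a1.le (conj_mem_map_cj hx)).2⟩

theorem exists_real_inv (s : Syl p P T) (h : K ≤ T) (hn : T ≤ N[K]) (o : Odd (K.relIndex T))
    (hχ : IsIrrCharacter T χ) (r : ∀ g, (χ g).im = 0) (d : ¬ p ∣ charDegree χ) :
    ∃ θ, IsIrrCharacter K θ ∧ P ≤ aI θ ∧ Ov h χ θ := by
  obtain ⟨θ, a1, a2⟩ := exists_irr_under' h hχ
  obtain ⟨k, hk, a3⟩ := exists_inv (θ := θ) s hn fun e =>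
    d (deg_real h hn o a1 hχ r a2 ▸ e.mul_right _)
  exact ⟨_, irr_cA a1 _, a3,
    (classInner_resLE_cA h (le_aI_self hχ.isClassFunction hk) _).trans_ne a2⟩

omit hp in
theorem RR.cA {h : C ≤ K} (a : RR p P h θ ξ) {t : Γ} (h1 : t ∈ N[K]) (h2 : t ∈ N[C])
    (h3 : t ∈ N[P]) : RR p P h (cA h1 θ) (cA h2 ξ) := by
  obtain ⟨ε, a1, a2⟩ := a
  refine ⟨ε, a1, fun ξ' b1 b2 => ?_⟩
  obtain ⟨n, a3⟩ := a2 _ (irr_cA b1 (inv_mem h2)) (le_aI_cA _ (inv_mem h3) b2)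
  refine ⟨n, ?_⟩
  rwa [← classInner_cA h2, ← classInner_cA h2 ξ, cA_cA, cA_congr _ (inv_mul_cancel t),
    cA_one] at a3

omit hp [Finite Γ] in
theorem le_aI_conj (h : P ≤ aI θ) : P ≤ aI fun g => conj (θ g) := fun _ hx =>
  ⟨(h hx).1, funext fun g => congrArg conj (congrFun (h hx).2 g)⟩

omit hp in
theorem RR.conj {h : C ≤ K} (a : RR p P h θ ξ) :
    RR p P h (fun g => conj (θ g)) fun g => conj (ξ g) := by
  obtain ⟨ε, a1, a2⟩ := a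
  refine ⟨ε, a1, fun ξ' b1 b2 => ?_⟩
  obtain ⟨n, a3⟩ := a2 _ b1.conj (le_aI_conj b2)
  refine ⟨n, ?_⟩
  have := congrArg conj a3
  rw [map_add, map_mul, map_mul, conj_classInner, conj_classInner, ← classInner_conj_conj,
    ← classInner_conj_conj ξ] at this
  simp only [Complex.conj_conj, map_natCast, map_intCast] at this
  exact this

theorem idx_modEq (s : Syl p P K) (h1 : P ≤ T) (h2 : T ≤ K) :
    T.relIndex K ≡ (K ⊓ N[P] ⊓ T).relIndex (K ⊓ N[P]) [MOD p] := by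
  have a1 := IsSylowIn.relIndex_normalizer_modEq ⟨s.le, s.pg, s.nd⟩
  have a2 := IsSylowIn.relIndex_normalizer_modEq ⟨h1, s.pg, (s.mono h1 h2).nd⟩
  have a3 := Subgroup.relIndex_mul_relIndex (K ⊓ N[P] ⊓ T) T K inf_le_right h2
  have a4 := Subgroup.relIndex_mul_relIndex (K ⊓ N[P] ⊓ T) (K ⊓ N[P]) K inf_le_left inf_le_left
  rw [Subgroup.inf_relIndex_left K, ← a3, Subgroup.inf_relIndex_right _ T,
    ← Subgroup.inf_relIndex_right _ T, inf_right_comm, inf_eq_right.2 h2,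
    Subgroup.inf_relIndex_left T] at a4
  have := (a1.mul_left _).symm.trans (a4 ▸ a2.mul_right _)
  rw [mul_one, one_mul, inf_right_comm, inf_eq_right.2 h2] at *
  exact this.symm

theorem core {G : Type*} [Group G] [Finite G] {P K : Subgroup G} (s : Syl p P ⊤) [K.Normal]
    (o : Odd K.index) (hQ : K ≤ N[P ⊓ K]) (hr : RP p G) :
    ∃ f : {χ : IrrCharacter G // ∀ g, (χ.1 g).im = 0} →
      {ξ : IrrCharacter N[P] // (∀ n, (ξ.1 n).im = 0) ∧ ¬ p ∣ charDegree ξ.1},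
      Bijective f ∧ ∀ χ, (charDegree (f χ).1.1 : ZMod p) = charDegree χ.1.1 ∨
        (charDegree (f χ).1.1 : ZMod p) = -charDegree χ.1.1 := by
  have s' := s.mono Subgroup.le_normalizer le_top
  have nK : ∀ {A : Subgroup G}, A ≤ N[K] := fun {_} => Subgroup.le_normalizer_of_normal
  have t : St p P K (P ⊓ K) (K ⊓ N[P]) := ⟨s.pg, s.pg.to_inf_left, nK,
    le_norm_inf Subgroup.le_normalizer nK, inf_le_right, hQ, (s.inf_norm le_top nK).nd,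
    fun k => and_congr_right fun hk => ⟨fun h x hx => ⟨by
      simpa [mul_assoc] using mul_mem hx (conj_mem_of_norm h (inv_mem hx)),
      K.mul_mem (conj_mem_of_norm (nK hx) hk) (K.inv_mem hk)⟩, fun h => mem_norm_of_conj fun x hx => by
      simpa [mul_assoc] using P.mul_mem hx (h _ (inv_mem hx)).1⟩⟩
  have o1 : Odd (K.relIndex ⊤) := by rwa [Subgroup.relIndex_top_right]
  have o2 : Odd ((K ⊓ N[P]).relIndex N[P]) := by
    rw [Subgroup.inf_relIndex_right]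
    exact o.of_dvd_nat (Subgroup.relIndex_dvd_index_of_normal _ _)
  have nC : N[P] ≤ N[K ⊓ N[P]] := le_norm_inf nK Subgroup.le_normalizer
  have up : ∀ χ : IrrCharacter G, IsIrrCharacter (⊤ : Subgroup G) fun x => χ.1 x := fun χ =>
    χ.2.comp_equiv Subgroup.topEquiv
  have dg : ∀ χ : IrrCharacter G, charDegree (fun x : (⊤ : Subgroup G) => χ.1 x) = charDegree χ.1 :=
    fun χ => deg_congr (up χ).isCharacter χ.2.isCharacter rfl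
  let r : {χ : IrrCharacter G // ∀ g, (χ.1 g).im = 0} → (N[P] → ℂ) → Prop :=
    fun χ ψ => ∃ θ ξ, IsIrrCharacter K θ ∧ IsIrrCharacter _ ξ ∧ P ≤ aI θ ∧ P ≤ aI ξ ∧
      Ov le_top (fun x : (⊤ : Subgroup G) => χ.1.1 x) θ ∧ Ov inf_le_right ψ ξ ∧ RR p P t.CK θ ξ
  have h4 : ∀ χ ψ ψ', IsIrrCharacter _ ψ → IsIrrCharacter _ ψ' → (∀ g, (ψ g).im = 0) →
      (∀ g, (ψ' g).im = 0) → r χ ψ → r χ ψ' → ψ = ψ' := by
    rintro χ ψ ψ' c1 c2 c3 c4 ⟨θ, ξ, a1, a2, a3, a4, a5, a6, a7⟩ ⟨θ', ξ', b1, b2, b3, b4, b5, b6, b7⟩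
    obtain ⟨k, hk, rfl⟩ := exists_cA_eq le_top nK (up χ.1) a1 b1 a5 b5
    obtain ⟨n, d0, d1, d2⟩ := align s nK a3 hk b3
    obtain rfl := (d2 ▸ RR.cA a7 _ (nC d1) d1).unique b7 (irr_cA a2 _) b2 b4
    obtain ⟨_, -, -, -, d3⟩ := ur _ nC o2 b2 (real_under _ nC o2 b2 c2 c4 b6)
    exact (d3 _ c1 c3 ((classInner_resLE_cA _ (le_aI_self c1.isClassFunction d1) _).trans_ne
      a6)).trans (d3 _ c2 c4 b6).symm
  have h5 : ∀ χ ψ, IsIrrCharacter _ ψ → (∀ g, (ψ g).im = 0) → r χ ψ →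
      (charDegree ψ : ZMod p) = charDegree χ.1.1 ∨ (charDegree ψ : ZMod p) = -charDegree χ.1.1 := by
    rintro χ ψ c1 c2 ⟨θ, ξ, a1, a2, a3, a4, a5, a6, a7⟩
    have b1 : N[P] ⊓ aI ξ = N[P] ⊓ aI θ := by
      ext n
      exact and_congr_right fun hn => ⟨fun h => ⟨nK hn, t.inj (irr_cA a1 _) (le_aI_cA _ hn a3) a1 a3
        a2 a4 (h.2 ▸ RR.cA a7 _ h.1 hn) a7⟩, fun h => ⟨nC hn,
          (h.2 ▸ RR.cA a7 h.1 (nC hn) hn).unique a7 (irr_cA a2 _) a2 a4⟩⟩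
    have b2 := (ZMod.natCast_eq_natCast_iff _ _ _).2 (idx_modEq s a3 le_top)
    rw [← dg, deg_real _ nC o2 a2 c1 c2 a6, deg_real _ nK o1 a1 (up χ.1) (fun _ => χ.2 _) a5, b1,
      Nat.cast_mul, Nat.cast_mul, top_inf_eq, b2, top_inf_eq]
    rcases a7.deg s.pg a1.isCharacter a3 a2 a4 with e | e <;> simp [e]
  have h1 : ∀ χ, ∃ ψ : {ξ : IrrCharacter N[P] // (∀ n, (ξ.1 n).im = 0) ∧
      ¬ p ∣ charDegree ξ.1}, r χ ψ.1.1 := fun χ => by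
    obtain ⟨θ, a1, a2, a3⟩ := exists_real_inv s le_top nK o1 (up χ.1) (fun _ => χ.2 _)
      (dg _ ▸ hr χ.1 χ.2)
    obtain ⟨ξ, a4, a5, a6⟩ := t.ex a1 a2
    have a7 := RR.conj a6
    rw [conj_eq_self_iff.2 (real_under _ nK o1 a1 (up χ.1) (fun _ => χ.2 _) a3)] at a7
    obtain ⟨ψ, b1, b2, b3, -⟩ := ur _ nC o2 a4 (conj_eq_self_iff.1 (a7.unique a6 a4.conj a4 a5))
    have b4 : r χ ψ := ⟨θ, ξ, a1, a4, a2, a5, a3, b3, a6⟩
    refine ⟨⟨⟨ψ, b1⟩, b2, fun e => hr χ.1 χ.2 ?_⟩, b4⟩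
    have b5 := h5 χ ψ b1 b2 b4
    rw [(ZMod.natCast_eq_zero_iff _ _).2 e, eq_comm, zero_eq_neg, or_self] at b5
    exact (ZMod.natCast_eq_zero_iff _ _).1 b5
  choose f hf using h1
  refine ⟨f, ⟨fun χ χ' e => ?_, fun ψ => ?_⟩, fun χ => h5 χ _ (f χ).1.2 (f χ).2.1 (hf χ)⟩
  · obtain ⟨θ, ξ, a1, a2, a3, a4, a5, a6, a7⟩ := hf χ
    obtain ⟨θ', ξ', b1, b2, b3, b4, b5, b6, b7⟩ := hf χ'
    obtain ⟨n, hn, rfl⟩ := exists_cA_eq inf_le_right nC (f χ).1.2 a2 b2 a6 (e ▸ b6)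
    obtain rfl := t.inj (irr_cA a1 (nK hn)) (le_aI_cA _ hn a3) b1 b3 b2 b4 (RR.cA a7 _ _ hn) b7
    obtain ⟨_, -, -, -, d3⟩ := ur _ nK o1 b1 (real_under _ nK o1 b1 (up χ'.1) (fun _ => χ'.2 _) b5)
    have := (d3 _ (up χ.1) (fun _ => χ.2 _) ((classInner_resLE_cA _ (le_aI_self
      (up χ.1).isClassFunction trivial) _).trans_ne a5)).trans (d3 _ (up χ'.1) (fun _ => χ'.2 _) b5).symm
    exact Subtype.ext (Subtype.ext (funext fun x => congrFun this ⟨x, trivial⟩))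
  · obtain ⟨ξ, a1, a2, a3⟩ := exists_real_inv s' inf_le_right nC o2 ψ.1.2 ψ.2.1 ψ.2.2
    obtain ⟨θ, a4, a5, a6⟩ := t.surj a1 a2
    have a7 := RR.conj a6
    rw [conj_eq_self_iff.2 (real_under _ nC o2 a1 ψ.1.2 ψ.2.1 a3)] at a7
    obtain ⟨χ, b1, b2, b3, -⟩ := ur _ nK o1 a4
      (conj_eq_self_iff.1 (t.inj a4.conj (le_aI_conj a5) a4 a5 a1 a2 a7 a6))
    refine ⟨⟨⟨_, b1.comp_equiv Subgroup.topEquiv.symm⟩, fun _ => b2 _⟩, Subtype.ext (Subtype.ext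
      (h4 _ _ _ (f _).1.2 ψ.1.2 (f _).2.1 ψ.2.1 (hf _) ⟨θ, ξ, a4, a1, a5, a2, b3, a3, a6⟩))⟩

end CfsgRq
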