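import Cfsg.Agent.H4.Br4
import Cfsg.Agent.H4.BT
import Cfsg.Agent.H4.Col
import Cfsg.Agent.H8.PslC
import Cfsg.Agent.H8.SmallId

/-! Numerical consequences of Brauer's theory for simple groups with a Sylow subgroup of prime
order. -/

set_option autoImplicit false
open Cfsg MonoidAlgebra CfsgL0 CfsgH1 CfsgH4
open CfsgH3 hiding cj cj_cj
open scoped ComplexConjugate Pointwise

namespace CfsgSm

local notation "C[" Q "]" => Subgroup.centralizer (SetLike.coe (Q : Subgroup _))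
local notation "N[" Q "]" => Subgroup.normalizer (SetLike.coe (Q : Subgroup _))
local notation "Z[" u "]" => Subgroup.zpowers u
local notation "C1[" u "]" => Subgroup.centralizer (singleton u)

variable {G : Type*} [Group G] [Finite G] [IsSimpleGroup G] {p : ℕ} [hp : Fact p.Prime]

omit hp in
theorem nc (h : ¬ (Nat.card G).Prime) : ¬ ∀ a b : G, a * b = b * a := fun e => by
  letI : CommGroup G := { (inferInstance : Group G) with mul_comm := e }
  exact h IsSimpleGroup.prime_card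

omit hp [Finite G] in
theorem perf (hG : ¬ ∀ a b : G, a * b = b * a) : commutator G = ⊤ :=
  (IsSimpleGroup.eq_bot_or_eq_top_of_normal _ inferInstance).resolve_left fun e => hG fun a b =>
    (Subgroup.commutator_eq_bot_iff_le_centralizer.1 e) (Subgroup.mem_top b) a trivial

theorem core_bot (h : p ∣ Nat.card G) : pPrimeCore p G = ⊥ :=
  (IsSimpleGroup.eq_bot_or_eq_top_of_normal _ inferInstance).resolve_right
    fun e => not_dvd_card_pPrimeCore p (by rwa [e, Subgroup.card_top])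

theorem not_normal (hG : ¬ ∀ a b : G, a * b = b * a) (h : p ∣ Nat.card G) (P : Sylow p G) :
    ¬ (P : Subgroup G).Normal := fun hn => by
  have a := (IsSimpleGroup.eq_bot_or_eq_top_of_normal _ hn).resolve_left (P.ne_bot_of_dvd_card h)
  have b : IsPGroup p G := (a ▸ P.2 : IsPGroup p (⊤ : Subgroup G)).of_equiv Subgroup.topEquiv
  have := b.isNilpotent
  exact (IsSolvable.commutator_lt_top_of_nontrivial G).ne (perf hG)

theorem brc_small (hG : ¬ ∀ a b : G, a * b = b * a) (h : p ∣ Nat.card G)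
    (hb : Nat.card G < p ^ 3) : BrC G p := by
  obtain ⟨P⟩ : Nonempty (Sylow p G) := inferInstance
  exact (brauer_small (perf hG) h hb P (not_normal hG h P)).of_equiv
    ((QuotientGroup.quotientMulEquivOfEq (core_bot h)).trans QuotientGroup.quotientBot)

theorem setup (hG : ¬ ∀ a b : G, a * b = b * a) {m : ℕ} (h : Nat.card G = p * m) (hm : ¬ p ∣ m) :
    ∃ (M : Ideal AlgInt) (_ : PMod p M) (u : G) (e : ℕ) (X : Finset (IrrCharacter G))
      (y : (Z[u] →* ℂˣ) → IrrCharacter G) (ε : IrrCharacter G → ℤ) (δ : ℤ) (n c : ℕ),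
      PB M p u e X y ε δ ∧ (N[Z[u]]).index = n ∧ Nat.card C[Z[u]] = p * c ∧ e * n * c = m ∧
        n % p = 1 ∧ e ∣ p - 1 ∧ 2 ≤ e ∧ 1 < n := by
  obtain ⟨u, hu⟩ := exists_prime_orderOf_dvd_card' p (h ▸ dvd_mul_right p m)
  have h1 := (Z[u]).card_mul_index
  rw [Nat.card_zpowers, hu, h] at h1
  have h2 := Nat.eq_of_mul_eq_mul_left hp.out.pos h1
  obtain ⟨M, _⟩ := exists_pmod p
  obtain ⟨e, X, y, ε, δ, H⟩ := exists_pb (M := M) hu (h2 ▸ hm)
  obtain ⟨c, hc⟩ := Subgroup.card_dvd_of_le (zpowers_le_cent (u := u))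
  rw [H.card] at hc
  obtain ⟨k, hk⟩ := H.exists_n
  have h3 := (C[Z[u]]).card_mul_index
  rw [hc, H.index_C, h, mul_assoc] at h3
  have := H.pos
  have := H.ne_of_perfect (perf hG)
  have := H.pos_of_perfect (perf hG)
  refine ⟨M, ‹_›, u, e, X, y, ε, δ, _, c, H, rfl, hc, ?_, ?_, ⟨_, Nat.sub_eq_of_eq_add H.cardY.symm⟩,
    by omega, by omega⟩
  · rw [mul_comm]; exact Nat.eq_of_mul_eq_mul_left hp.out.pos h3
  · rw [hk, Nat.mul_add_mod', Nat.mod_eq_of_lt hp.out.one_lt]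

theorem setup3 (hG : ¬ ∀ a b : G, a * b = b * a) {q r a b : ℕ} (hq : q.Prime) (hr : r.Prime)
    (h : Nat.card G = p * (q ^ a * r ^ b)) (hm : ¬ p ∣ q ^ a * r ^ b) :
    ∃ (M : Ideal AlgInt) (_ : PMod p M) (u : G) (e : ℕ) (X : Finset (IrrCharacter G))
      (y : (Z[u] →* ℂˣ) → IrrCharacter G) (ε : IrrCharacter G → ℤ) (δ : ℤ) (n : ℕ),
      PB M p u e X y ε δ ∧ (N[Z[u]]).index = n ∧ C[Z[u]] = Z[u] ∧ e * n = q ^ a * r ^ b ∧
        n % p = 1 ∧ e ∣ p - 1 ∧ 2 ≤ e ∧ 1 < n := by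
  obtain ⟨M, _, u, e, X, y, ε, δ, n, c, H, h1, h2, h3, h4⟩ := setup hG h hm
  have hC : C[Z[u]] = Z[u] := by
    rw [centralizer_zpowers]
    exact cent_eq_zpowers_of_simple hq hr hp.out (by rw [h, mul_comm]) hm H.ord
  rw [hC, H.card] at h2
  obtain rfl : c = 1 := (Nat.eq_of_mul_eq_mul_left hp.out.pos (h2.symm.trans (mul_one p).symm))
  exact ⟨M, ‹_›, u, e, X, y, ε, δ, n, H, h1, hC, by rw [← h3, mul_one], h4⟩

omit hp [IsSimpleGroup G] in
theorem exists_two_central {k : ℕ} (h : 2 ^ (k + 1) ∣ Nat.card G) :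
    ∃ w : G, orderOf w = 2 ∧ 2 ^ (k + 1) ∣ Nat.card C1[w] := by
  obtain ⟨w, h1, h2⟩ := exists_central_pelt (p := 2) ((dvd_pow_self 2 k.succ_ne_zero).trans h)
  rw [← (C1[w]).card_mul_index] at h
  exact ⟨w, h1, (((Nat.prime_two.coprime_iff_not_dvd.2 h2).pow_left _).dvd_of_dvd_mul_right h)⟩

omit hp [IsSimpleGroup G] in
theorem deg_sq_lt {χ : IrrCharacter G} (h : χ ≠ irrOne G) : charDegree χ.1 ^ 2 < Nat.card G := by
  classical
  rw [← sum_deg_sq_nat]
  exact Finset.single_lt_sum (f := fun χ : IrrCharacter G => charDegree χ.1 ^ 2) h.symm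
    (Finset.mem_univ _) (Finset.mem_univ _) (by simp only [deg_irrOne]; norm_num) fun _ _ _ => Nat.zero_le _

omit hp in
theorem one_lt_deg (hG : ¬ ∀ a b : G, a * b = b * a) {χ : IrrCharacter G} (h : χ ≠ irrOne G) :
    1 < charDegree χ.1 :=
  lt_of_le_of_ne (charDegree_pos χ.2) fun e => h (eq_one_of_deg (perf hG) e.symm)

omit hp in
theorem norm_lt (hG : ¬ ∀ a b : G, a * b = b * a) {χ : IrrCharacter G} (h : χ ≠ irrOne G) {g : G}
    (hg : g ≠ 1) : ‖χ.1 g‖ < charDegree χ.1 := by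
  have h1 := χ.2.isCharacter.norm_le g
  have h2 := χ.2.charCenter_eq_bot (fun e => h (Subtype.ext e)) hG
  have h3 : ‖χ.1 g‖ ≠ ‖χ.1 1‖ := fun e => hg (Subgroup.mem_bot.1 (h2 ▸ χ.2.isCharacter.mem_charCenter.2 e))
  have := lt_of_le_of_ne h1 h3
  rwa [← coe_deg, Complex.norm_natCast] at this

omit hp in
theorem abs_lt (hG : ¬ ∀ a b : G, a * b = b * a) {χ : IrrCharacter G} (h : χ ≠ irrOne G) {g : G}
    (hg : g ≠ 1) {a : ℤ} (ha : χ.1 g = a) : |a| < charDegree χ.1 := by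
  have := norm_lt hG h hg
  rw [ha, Complex.norm_intCast] at this
  exact_mod_cast this

omit [IsSimpleGroup G] in
/-- a character of `p`-defect zero is not in the principal block -/
theorem not_principal_of_dz {M : Ideal AlgInt} [PMod p M] (h : p ∣ Nat.card G) {χ : IrrCharacter G}
    (hd : ¬ p ∣ Nat.card G / charDegree χ.1) : χ ∉ principalBlock M G := fun hχ => by
  obtain ⟨z, h1, h2⟩ := exists_central_pelt h
  exact principal_ne_zero hχ h2 (χ.2.eq_zero_of_defect_zero hp.out (coe_deg χ).symm hd h1.symm.dvd)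

variable {M : Ideal AlgInt} [hM : PMod p M] {u : G} {e : ℕ} {X : Finset (IrrCharacter G)}
  {y : (Z[u] →* ℂˣ) → IrrCharacter G} {ε : IrrCharacter G → ℤ} {δ : ℤ}
  (hG : ¬ ∀ a b : G, a * b = b * a) (h : PB M p u e X y ε δ)
include hG h

theorem dX {χ : IrrCharacter G} (hχ : χ ∈ X) (h1 : χ ≠ irrOne G) :
    1 < charDegree χ.1 ∧ charDegree χ.1 ∣ e * (N[Z[u]]).index ∧ charDegree χ.1 ^ 2 < Nat.card G ∧
      (ε χ = 1 ∧ charDegree χ.1 % p = 1 ∨ ε χ = -1 ∧ (charDegree χ.1 + 1) % p = 0) := by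
  have := Fintype.ofFinite G
  refine ⟨one_lt_deg hG h1, h.dvdX hχ, deg_sq_lt h1, ?_⟩
  obtain ⟨l, hl⟩ := h.degX hχ
  have p1 := hp.out.one_lt
  refine (h.sgn χ).imp (fun s => ⟨s, ?_⟩) fun s => ⟨s, ?_⟩ <;> rw [s] at hl
  · have : charDegree χ.1 + p = p * l + 1 := by zify; linarith
    rw [← Nat.add_mod_right, this, Nat.mul_add_mod, Nat.mod_eq_of_lt p1]
  · have : charDegree χ.1 + 1 = p * (l + 1) := by zify; linarith
    rw [this, Nat.mul_mod_right]

theorem dY {ψ : IrrCharacter G} (hψ : ψ ∈ exc y) :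
    1 < charDegree ψ.1 ∧ charDegree ψ.1 ∣ e * (N[Z[u]]).index ∧ charDegree ψ.1 ^ 2 < Nat.card G ∧
      (δ = 1 ∧ (charDegree ψ.1 + e) % p = 0 ∨ δ = -1 ∧ charDegree ψ.1 % p = e) := by
  have := Fintype.ofFinite G
  have h1 := h.ne_oneY hψ
  refine ⟨one_lt_deg hG h1, h.dvdY hψ, deg_sq_lt h1, ?_⟩
  obtain ⟨l, hl⟩ := h.degY hψ
  have e1 : e < p := by have := h.cardY; have := Nat.le_mul_of_pos_right e h.pos'; omega
  refine h.sgn'.imp (fun s => ⟨s, ?_⟩) fun s => ⟨s, ?_⟩ <;> rw [s] at hl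
  · have : charDegree ψ.1 + e = p * l := by zify; linarith
    rw [this, Nat.mul_mod_right]
  · have : charDegree ψ.1 = p * l + e := by zify; linarith
    rw [this, Nat.mul_add_mod, Nat.mod_eq_of_lt e1]

theorem big (hC : Nat.card C[Z[u]] ≠ p) {χ : IrrCharacter G} (hχ : χ ∈ principalBlock M G)
    (h1 : χ ≠ irrOne G) : 2 * p ≤ charDegree χ.1 := by
  by_contra! hl
  refine hC ((congrArg (fun K : Subgroup G => Nat.card K)
    (h.cent_eq_of_small hχ (fun g _ hg => ?_) (.inr ⟨hl, perf hG⟩))).trans h.card)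
  by_contra g1
  have := norm_lt hG h1 g1
  rw [hg, ← coe_deg, Complex.norm_natCast] at this
  exact this.false

omit hG [IsSimpleGroup G] in
theorem eqC (hC : Nat.card C[Z[u]] = p) : C[Z[u]] = Z[u] :=
  (Subgroup.eq_of_le_of_card_ge zpowers_le_cent (by rw [hC, h.card])).symm

omit hG [IsSimpleGroup G] in
theorem not_both {q : ℕ} (hq : ¬ q ∣ Nat.card C[Z[u]]) {g : G} (h1 : q ∣ orderOf g) :
    ¬ p ∣ orderOf g := fun h2 => by
  obtain ⟨x, hx⟩ := h.exists_conj g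
  have h3 : ppart p (x * g * x⁻¹) ≠ 1 := fun e => by
    have := reg_rpart p (x * g * x⁻¹)
    rw [← one_mul (rpart _ _), ← e, ppart_mul_rpart, CfsgL0.orderOf_conj] at this
    exact this h2
  refine hq (h1.trans ?_)
  rw [← CfsgL0.orderOf_conj x, ← h.cent_eq hx h3]
  exact Subgroup.orderOf_dvd_natCard _ (Subgroup.mem_centralizer_singleton_iff.2
    (Subgroup.mem_centralizer_singleton_iff.1 (ppart_mem p (Subgroup.mem_centralizer_singleton_iff.2 rfl))).symm)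

omit hG [IsSimpleGroup G] in
open Classical in
/-- Brauer–Tuan -/
theorem bt3 {q : ℕ} [Fact q.Prime] {M' : Ideal AlgInt} [PMod q M'] (hq : ¬ q ∣ Nat.card C[Z[u]])
    {B : Set (IrrCharacter G)} (hB : fB B ∈ LG G M') {ψ : IrrCharacter G} (hψ : ψ ∈ exc y) :
    (q : ℤ) ^ (Nat.card G).factorization q ∣ (if ψ ∈ B then δ * charDegree ψ.1 else 0) +
      ∑ χ ∈ X, if χ ∈ B then ε χ * charDegree χ.1 else 0 := by
  have := Fintype.ofFinite G
  set Θ : G → ℂ := (δ : ℂ) • ψ.1 + ∑ χ ∈ X, (ε χ : ℂ) • χ.1 with hΘ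
  have g1 : IsGeneralizedCharacter G Θ := (ψ.2.isGen.intCast_smul δ).add
    (isGen_sum _ _ fun χ _ => χ.2.isGen.intCast_smul _)
  have v : {g : G | ¬ q ∣ orderOf g}.indicator Θ = Θ := by
    rw [Set.indicator_eq_self]
    intro g hg h1
    refine hg ?_
    simpa [hΘ] using h.rel ψ hψ g (not_both h hq h1)
  have w := blockPart_indicator hB psat_reg g1.isClassFunction
  rw [v] at w
  obtain ⟨k, hk⟩ := pow_dvd_of_vanish (p := q) (M := M') (blockPart_isGen B g1) fun g hg => by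
    rw [w, Set.indicator_of_notMem (by simpa using hg)]
  refine ⟨k, Int.cast_injective (α := ℂ) ?_⟩
  push_cast
  rw [← hk, hΘ, blockPart_add, blockPart_sum, Pi.add_apply, Finset.sum_apply]
  congr 1
  · split_ifs with a
    · simp [blockPart_smul, blockPart_irr_of_mem a, coe_deg]
    · simp [blockPart_smul, blockPart_irr_of_notMem a]
  · refine Finset.sum_congr rfl fun χ _ => ?_
    split_ifs with a
    · simp [blockPart_smul, blockPart_irr_of_mem a, coe_deg]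
    · simp [blockPart_smul, blockPart_irr_of_notMem a]

omit hG [IsSimpleGroup G] in
theorem sum_irr [Fintype G] (hC : C[Z[u]] = Z[u]) (F : IrrCharacter G → ℂ) :
    ∑ χ : IrrCharacter G, F χ * sS u χ.1 =
      (p - 1) * ∑ χ ∈ X, F χ * ε χ + δ * e * ∑ ψ ∈ exc y, F ψ := by
  classical
  rw [← Finset.sum_subset (Finset.subset_univ (X ∪ exc y)) fun χ _ a => by
    rw [Finset.notMem_union] at a; rw [h.sOut hC a.1 a.2, mul_zero],
    Finset.sum_union h.disj, Finset.mul_sum, Finset.mul_sum]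
  congr 1
  · exact Finset.sum_congr rfl fun χ a => by rw [h.sX a]; ring
  · exact Finset.sum_congr rfl fun χ a => by rw [h.sY a]; ring

theorem two (he : e = 2) : ∃ (d f : ℕ) (s : ℤ), 1 < d ∧ 1 < f ∧ d ∣ 2 * (N[Z[u]]).index ∧
    f ∣ 2 * (N[Z[u]]).index ∧ d ^ 2 < Nat.card G ∧ (Nat.card C[Z[u]] ≠ p → 2 * p ≤ d ∧ 2 * p ≤ f) ∧
    (s = 1 ∧ f = d + 1 ∧ d % p = 1 ∨ s = -1 ∧ d = f + 1 ∧ (d + 1) % p = 0) ∧
    (C[Z[u]] = Z[u] → ∀ w : G, orderOf w = 2 → ∃ (K : ℕ) (a : ℤ), |a| < d ∧ |a + s| < f ∧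
      (K * Nat.card C1[w] ^ 2 * d * f : ℤ) = Nat.card G * (p - 1) * (d - a) ^ 2) := by
  classical
  have := Fintype.ofFinite G
  subst he
  obtain ⟨χ, hχ⟩ := Finset.card_eq_one.1 (show (X.erase (irrOne G)).card = 1 by
    rw [Finset.card_erase_of_mem h.one, h.cardX])
  obtain ⟨c1, c2⟩ := Finset.mem_erase.1 (hχ ▸ Finset.mem_singleton_self χ)
  have sm : ∀ {A : Type} [AddCommMonoid A] (F : IrrCharacter G → A), ∑ x ∈ X, F x = F (irrOne G) + F χ :=
    fun F => by rw [← Finset.add_sum_erase _ _ h.one, hχ, Finset.sum_singleton]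
  obtain ⟨ψ, hψ⟩ := Finset.card_pos.1 h.pos'
  obtain ⟨a1, a2, a3, a4⟩ := dX hG h c2 c1
  obtain ⟨b1, b2, -, -⟩ := dY hG h hψ
  have r := h.rel_deg hψ
  rw [sm, h.eps_one, deg_irrOne] at r
  have hs : δ = -ε χ ∧ (charDegree ψ.1 : ℤ) = charDegree χ.1 + ε χ := by
    rcases h.sgn χ with a | a <;> rcases h.sgn' with b | b <;> rw [a, b] at r <;> omega
  refine ⟨_, _, ε χ, a1, b1, a2, b2, a3, fun c => ⟨big hG h c (h.memX c2) c1,
    big hG h c (h.memY hψ) (h.ne_oneY hψ)⟩, a4.imp (fun c => ⟨c.1, by omega, c.2⟩)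
    fun c => ⟨c.1, by omega, c.2⟩, fun hC w hw => ?_⟩
  have ww : w * w = 1 := CfsgL0.inv_mul_self hw
  have w1 := CfsgL0.inv_ne_one hw
  obtain ⟨a, ha⟩ := exists_int_of_sq χ.2.isGen ww
  have pw : ¬ p ∣ orderOf w := fun e => by
    have := h.cardY
    rw [hw] at e
    have := (Nat.prime_dvd_prime_iff_eq hp.out Nat.prime_two).1 e
    omega
  have sq := h.sq χ
  have v : ∀ θ ∈ exc y, θ.1 w = a + ε χ := fun θ hθ => by
    have := h.rel θ hθ w pw
    rw [sm, h.eps_one, ha, hs.1] at this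
    simp only [irrOne] at this
    push_cast at this
    linear_combination (-ε χ : ℂ) * this - (θ.1 w - a) * sq
  have P := h.sS_pairs hC w w
  rw [Finset.sum_congr rfl fun θ _ => mul_div_right_comm _ _ _, sum_irr h hC, sm, h.eps_one,
    (Finset.sum_congr rfl fun θ hθ => by rw [v θ hθ, ← coe_deg, h.degY_eq hθ hψ] :
      ∑ θ ∈ exc y, θ.1 w * θ.1 w / θ.1 1 = ∑ _θ ∈ exc y, ((a + ε χ) * (a + ε χ) / charDegree ψ.1 : ℂ)),
    Finset.sum_const, nsmul_eq_mul, ha, ← coe_deg χ, sS,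
    ← Nat.cast_sum] at P
  generalize Finset.sum (M := ℕ) _ _ = K at P
  refine ⟨K, a, abs_lt hG c1 w1 ha, abs_lt hG (h.ne_oneY hψ) w1 (by rw [v ψ hψ]; push_cast; rfl),
    Int.cast_injective (α := ℂ) ?_⟩
  have i : ((C1[w]).index : ℂ) * Nat.card C1[w] = Nat.card G := by exact_mod_cast (C1[w]).index_mul_card
  have t : (p : ℂ) - 1 = 2 * (exc y).card := by rw [← h.cardY]; push_cast; ring
  have f : (charDegree ψ.1 : ℂ) = charDegree χ.1 + ε χ := by exact_mod_cast hs.2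
  have d0 : (charDegree χ.1 : ℂ) ≠ 0 := by exact_mod_cast (by omega)
  have f0 : (charDegree ψ.1 : ℂ) ≠ 0 := by exact_mod_cast (by omega)
  have g0 : (Nat.card G : ℂ) ≠ 0 := by exact_mod_cast Nat.card_pos.ne'
  simp only [irrOne, hs.1] at P
  push_cast at P ⊢
  field_simp at P
  apply mul_left_cancel₀ g0
  rw [t] at P ⊢
  rw [f] at P ⊢
  rw [← i] at P ⊢
  linear_combination (Nat.card C1[w] : ℂ) ^ 2 * P + ((C1[w]).index : ℂ) ^ 2 * (Nat.card C1[w] : ℂ) ^ 2 * 2 *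
    (exc y).card * (a ^ 2 - 2 * a * charDegree χ.1 - charDegree χ.1 * ε χ) * sq

end CfsgSm
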