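import Cfsg.Agent.H3.Sm1

/-! Counting helpers for the degree equation. -/

set_option autoImplicit false
open Cfsg MonoidAlgebra CfsgL0 CfsgH1 CfsgH4
open CfsgH3 hiding cj cj_cj
open scoped ComplexConjugate Pointwise

namespace CfsgSm

local notation "C[" Q "]" => Subgroup.centralizer (SetLike.coe (Q : Subgroup _))
local notation "N[" Q "]" => Subgroup.normalizer (SetLike.coe (Q : Subgroup _))
local notation "Z[" u "]" => Subgroup.zpowers u
local notation "C1[" u "]" => Subgroup.centralizer (singleton u)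

theorem sum_opts {ι A : Type*} [AddCommMonoid A] {k : ℕ} (L : Fin k → A) (S : Finset ι) (f : ι → A)
    (h : ∀ x ∈ S, ∃ i, f x = L i) :
    ∃ a : Fin k → ℕ, ∑ i, a i = S.card ∧ ∑ x ∈ S, f x = ∑ i, a i • L i := by
  classical
  induction S using Finset.induction_on with
  | empty => exact ⟨0, by simp, by simp⟩
  | insert x S hx ih =>
    obtain ⟨a, h1, h2⟩ := ih fun y hy => h y (Finset.mem_insert_of_mem hy)
    obtain ⟨i, hi⟩ := h x (Finset.mem_insert_self _ _)
    refine ⟨a + Pi.single i 1, ?_, ?_⟩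
    · simp [Finset.sum_add_distrib, h1, Finset.card_insert_of_notMem hx]
    · simp [Finset.sum_insert hx, add_smul, Finset.sum_add_distrib, h2, hi, add_comm, Pi.single_apply]

/-- the candidate divisors -/
def cands (N m : ℕ) : List ℕ := (List.range (N.sqrt + 1)).filter fun d => 1 < d ∧ m % d = 0

theorem mem_cands {N m d : ℕ} (h1 : 1 < d) (h2 : d ∣ m) (h3 : d ^ 2 < N) : d ∈ cands N m := by
  simp only [cands, List.mem_filter, List.mem_range, decide_eq_true_eq]
  exact ⟨Nat.lt_succ_of_le (Nat.le_sqrt'.2 h3.le), h1, Nat.mod_eq_zero_of_dvd h2⟩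

theorem fact_eq {N q k m : ℕ} (hq : q.Prime) (h : N = q ^ k * m) (hm : ¬ q ∣ m) :
    N.factorization q = k := by
  have : m ≠ 0 := by rintro rfl; simp at hm
  rw [h, Nat.factorization_mul (pow_pos hq.pos k).ne' this]
  simp [hq.factorization_self, Nat.factorization_eq_zero_of_not_dvd hm]

variable {G : Type*} [Group G] [Finite G] [IsSimpleGroup G] {p : ℕ} [hp : Fact p.Prime]
  {M : Ideal AlgInt} [hM : PMod p M] {u : G} {e : ℕ} {X : Finset (IrrCharacter G)}
  {y : (Z[u] →* ℂˣ) → IrrCharacter G} {ε : IrrCharacter G → ℤ} {δ : ℤ}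
  (hG : ¬ ∀ a b : G, a * b = b * a) (h : PB M p u e X y ε δ)
include h

omit [IsSimpleGroup G] in
open Classical in
theorem card_erase : (X.erase (irrOne G)).card + 1 = e := by
  rw [Finset.card_erase_add_one h.one, h.cardX]

omit [IsSimpleGroup G] in
open Classical in
theorem rel' {ψ : IrrCharacter G} (hψ : ψ ∈ exc y) :
    δ * charDegree ψ.1 + 1 + ∑ χ ∈ X.erase (irrOne G), ε χ * charDegree χ.1 = 0 := by
  have r := h.rel_deg hψ
  rw [← Finset.add_sum_erase _ _ h.one, h.eps_one, deg_irrOne] at r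
  rw [← r]; push_cast; ring

omit [IsSimpleGroup G] in
open Classical in
theorem bt3' {q : ℕ} [Fact q.Prime] {M' : Ideal AlgInt} [PMod q M'] (hq : ¬ q ∣ Nat.card C[Z[u]])
    {ψ : IrrCharacter G} (hψ : ψ ∈ exc y) :
    (q : ℤ) ^ (Nat.card G).factorization q ∣
      (if ψ ∈ principalBlock M' G then δ * charDegree ψ.1 else 0) + 1 +
      ∑ χ ∈ X.erase (irrOne G), if χ ∈ principalBlock M' G then ε χ * charDegree χ.1 else 0 := by
  have r := bt3 h hq (isPBlock_principal (M := M') (G := G)).fB_mem hψ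
  rw [← Finset.add_sum_erase _ _ h.one, if_pos irrOne_mem_principal, h.eps_one, deg_irrOne] at r
  simpa [add_assoc] using r

omit [IsSimpleGroup G] in
open Classical in
theorem sq_le {ψ : IrrCharacter G} (hψ : ψ ∈ exc y) :
    (exc y).card * charDegree ψ.1 ^ 2 + 1 + ∑ χ ∈ X.erase (irrOne G), charDegree χ.1 ^ 2 ≤
      Nat.card G := by
  have := Finset.sum_le_sum_of_subset (f := fun χ : IrrCharacter G => charDegree χ.1 ^ 2)
    (Finset.subset_univ (X ∪ exc y))
  rw [sum_deg_sq_nat, Finset.sum_union h.disj, ← Finset.add_sum_erase _ _ h.one, deg_irrOne,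
    Finset.sum_congr (s₁ := exc y) rfl fun θ hθ => by rw [h.degY_eq hθ hψ], Finset.sum_const,
    smul_eq_mul] at this
  omega

omit [IsSimpleGroup G] in
theorem mem_cases {χ : IrrCharacter G} (hχ : χ ∈ principalBlock M G) : χ ∈ X ∨ χ ∈ exc y := by
  rw [h.eq] at hχ; simpa using hχ

omit [IsSimpleGroup G] in
theorem mem_of_not_dvd (hC : C[Z[u]] = Z[u]) {χ : IrrCharacter G} (hd : ¬ p ∣ charDegree χ.1) :
    χ ∈ X ∨ χ ∈ exc y := by
  by_contra! a
  have := dvd_sub_of_pelt (p := p) χ.2.isCharacter (y := u) ⟨1, by rw [h.ord, pow_one]⟩ (n := 0)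
    (by simpa using h.out hC a.1 a.2 (Subgroup.mem_zpowers u) h.ne_one) (irr_one_eq χ)
  exact hd (by exact_mod_cast (by simpa using this : (p : ℤ) ∣ charDegree χ.1))

include hG in
/-- congruence for a member of the principal block -/
theorem cong {χ : IrrCharacter G} (hχ : χ ∈ principalBlock M G) (h1 : charDegree χ.1 % p ≠ 1)
    (h2 : (charDegree χ.1 + 1) % p ≠ 0) : χ ∈ exc y := by
  refine (mem_cases h hχ).resolve_left fun a => ?_
  by_cases b : χ = irrOne G
  · rw [b, deg_irrOne, Nat.mod_eq_of_lt hp.out.one_lt] at h1; exact h1 rfl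
  · rcases (dX hG h a b).2.2.2 with c | c
    exacts [h1 c.2, h2 c.2]

end CfsgSm
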